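/-
The tensor power of a unitary form, operators acting factor by factor, and the displacements of
members of a subgroup.
-/
import Cfsg.Agent.Lib.WreathMax.Basic
import Cfsg.Agent.Lib.WreathMax.Kron
import Cfsg.Agent.Lib.TensorMax.UMain

set_option autoImplicit false
set_option linter.unusedSectionVars false

namespace Cfsg.Agent.UWreath

open scoped Matrix Kronecker
open Matrix Cfsg.Agent.Transvec Cfsg.Agent.Transvec.Herm Cfsg.Agent.TensorMax Cfsg.Agent.TensorMax.U
open Cfsg.Agent.WreathMax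

variable {F : Type*} [Field F] {σ : F ≃+* F}

section Two

variable {α β : Type} [Fintype α] [DecidableEq α] [Fintype β] [DecidableEq β]

/-- The tensor product of two operators. -/
noncomputable def top (B : (α → F) →ₗ[F] α → F) (A : (β → F) →ₗ[F] β → F) :
    (α × β → F) →ₗ[F] α × β → F :=
  Matrix.toLin' (LinearMap.toMatrix' B ⊗ₖ LinearMap.toMatrix' A)

@[simp] theorem top_ten (B : (α → F) →ₗ[F] α → F) (A : (β → F) →ₗ[F] β → F) (u : α → F) (w : β → F) :
    top B A (ten u w) = ten (B u) (A w) := by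
  rw [top, Matrix.toLin'_apply, kronecker_mulVec_ten, LinearMap.toMatrix'_mulVec,
    LinearMap.toMatrix'_mulVec]

theorem top_comp (B B' : (α → F) →ₗ[F] α → F) (A A' : (β → F) →ₗ[F] β → F) :
    top B A ∘ₗ top B' A' = top (B ∘ₗ B') (A ∘ₗ A') :=
  ext_ten fun u w => by simp

theorem top_one : top (LinearMap.id : (α → F) →ₗ[F] α → F) (LinearMap.id : (β → F) →ₗ[F] β → F) =
    LinearMap.id :=
  ext_ten fun u w => by simp

theorem top_add_left (B B' : (α → F) →ₗ[F] α → F) (A : (β → F) →ₗ[F] β → F) :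
    top (B + B') A = top B A + top B' A :=
  ext_ten fun u w => by simp [ten_add_left]

theorem top_add_right (B : (α → F) →ₗ[F] α → F) (A A' : (β → F) →ₗ[F] β → F) :
    top B (A + A') = top B A + top B A' :=
  ext_ten fun u w => by simp [ten_add_right]

theorem top_smul_left (a : F) (B : (α → F) →ₗ[F] α → F) (A : (β → F) →ₗ[F] β → F) :
    top (a • B) A = a • top B A :=
  ext_ten fun u w => by simp [ten_smul_left]

theorem top_smul_right (a : F) (B : (α → F) →ₗ[F] α → F) (A : (β → F) →ₗ[F] β → F) :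
    top B (a • A) = a • top B A :=
  ext_ten fun u w => by simp [ten_smul_right, ← ten_smul_left]

theorem mvLin_kronGL (B : GL α F) (A : GL β F) : mvLin (kronGL B A) = top (mvLin B) (mvLin A) := by
  rw [top, LinearMap.toMatrix'_toLin', LinearMap.toMatrix'_toLin']
  rfl

/-- The rank one operator y ↦ f(y, c) c of a form. -/
def nop {κ : Type} [Fintype κ] [DecidableEq κ] {f : (κ → F) → (κ → F) → F} (hf : Geo.IsUnitaryForm σ f)
    (c : κ → F) : (κ → F) →ₗ[F] κ → F :=
  (formH hf c).smulRight c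

@[simp] theorem nop_apply {κ : Type} [Fintype κ] [DecidableEq κ] {f : (κ → F) → (κ → F) → F}
    (hf : Geo.IsUnitaryForm σ f) (c y : κ → F) : nop hf c y = f y c • c := rfl

theorem top_nop_apply {f₂ : (β → F) → (β → F) → F} (h₂ : Geo.IsUnitaryForm σ f₂) (c : β → F)
    (B : (α → F) →ₗ[F] α → F) (x : α × β → F) :
    top B (nop h₂ c) x = ten (B (ctr (frow f₂ c) x)) c := by
  have e : top B (nop h₂ c) = (rho c).comp (B.comp (ctr (frow f₂ c))) := ext_ten fun u w => by
    simp [ctr_ten, frow_dot h₂, ten_smul_left, ten_smul_right]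
  exact LinearMap.congr_fun e x

theorem eq_of_top_nop {f₂ : (β → F) → (β → F) → F} (h₂ : Geo.IsUnitaryForm σ f₂) {c : β → F}
    (hc : c ≠ 0) {B B' : (α → F) →ₗ[F] α → F} (h : top B (nop h₂ c) = top B' (nop h₂ c)) : B = B' := by
  obtain ⟨w, hw⟩ := (h₂.nondegenerate c hc).1
  have hw' : f₂ w c ≠ 0 := hw
  refine LinearMap.ext fun u => smul_right_injective (α → F) hw' ?_
  have e := LinearMap.congr_fun h (ten u w)
  rw [top_ten, top_ten, nop_apply, ten_smul_right, ten_smul_right, ← ten_smul_left, ← ten_smul_left] at e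
  exact rho_injective hc e

end Two

section Has

variable {ι : Type} [Fintype ι] [DecidableEq ι]

/-- Some member of M has displacement X. -/
def Has (M : Subgroup (GL ι F)) (X : (ι → F) →ₗ[F] ι → F) : Prop :=
  ∃ g ∈ M, ∀ x, mv g x = x + X x

theorem has_iff {M : Subgroup (GL ι F)} {X : (ι → F) →ₗ[F] ι → F} :
    Has M X ↔ ∃ g ∈ M, dev g = X := by
  constructor
  · rintro ⟨g, hg, h⟩
    exact ⟨g, hg, LinearMap.ext fun x => by rw [dev_apply, h, add_sub_cancel_left]⟩
  · rintro ⟨g, hg, rfl⟩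
    exact ⟨g, hg, fun x => by rw [dev_apply, add_sub_cancel]⟩

theorem has_zero (M : Subgroup (GL ι F)) : Has M 0 := ⟨1, M.one_mem, fun x => by simp [mv_one]⟩

theorem Has.add {M : Subgroup (GL ι F)} {X Y : (ι → F) →ₗ[F] ι → F} (hX : Has M X) (hY : Has M Y)
    (h : X ∘ₗ Y = 0) : Has M (X + Y) := by
  obtain ⟨g, hg, hgX⟩ := hX
  obtain ⟨k, hk, hkY⟩ := hY
  refine ⟨g * k, M.mul_mem hg hk, fun x => ?_⟩
  have h' : X (Y x) = 0 := LinearMap.congr_fun h x
  rw [mv_mul, hkY, hgX, map_add, h', add_zero, LinearMap.add_apply]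
  abel

theorem Has.neg {M : Subgroup (GL ι F)} {X : (ι → F) →ₗ[F] ι → F} (hX : Has M X) (h : X ∘ₗ X = 0) :
    Has M (-X) := by
  obtain ⟨g, hg, hgX⟩ := hX
  refine ⟨g⁻¹, M.inv_mem hg, fun x => ?_⟩
  have h' : X (X x) = 0 := LinearMap.congr_fun h x
  rw [mv_eq_iff, inv_inv, hgX, LinearMap.neg_apply, map_add, map_neg, h', neg_zero, add_zero]
  abel

theorem Has.conj {M : Subgroup (GL ι F)} {X : (ι → F) →ₗ[F] ι → F} (hX : Has M X) {k : GL ι F}
    (hk : k ∈ M) : Has M (mvLin k ∘ₗ X ∘ₗ mvLin k⁻¹) := by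
  obtain ⟨g, hg, hgX⟩ := hX
  refine ⟨k * g * k⁻¹, M.mul_mem (M.mul_mem hk hg) (M.inv_mem hk), fun x => ?_⟩
  rw [mv_mul, mv_mul, hgX, mv_add, mv_mv_inv]
  simp [mv]

end Has

variable {J : Type} [Fintype J] [DecidableEq J] {m : ℕ}
variable {f : (Fin m → F) → (Fin m → F) → F}

/-- The tensor power of a form. -/
def jf (σ : F ≃+* F) (f : (Fin m → F) → (Fin m → F) → F) (x y : (J → Fin m) → F) : F :=
  ∑ a, ∑ b, x a * (∏ j, Geo.gramMatrix f (a j) (b j)) * σ (y b)

theorem jf_pten (hf : Geo.IsUnitaryForm σ f) (x y : J → Fin m → F) :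
    jf σ f (pten x) (pten y) = ∏ j, f (x j) (y j) := by
  rw [show (∏ j, f (x j) (y j)) = ∏ j, ∑ k, ∑ l, x j k * Geo.gramMatrix f k l * σ (y j l) from
    Finset.prod_congr rfl fun j _ => (gram_apply hf _ _).symm, Fintype.prod_sum]
  refine Finset.sum_congr rfl fun a _ => ?_
  rw [Fintype.prod_sum]
  refine Finset.sum_congr rfl fun b _ => ?_
  simp only [pten, map_prod, ← Finset.prod_mul_distrib]

theorem gram_jf (a b : J → Fin m) :
    Geo.gramMatrix (jf (J := J) σ f) a b = ∏ j, Geo.gramMatrix f (a j) (b j) := by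
  rw [Geo.gramMatrix, jf, Finset.sum_eq_single a (fun c _ hc => by simp [hc]) (by simp),
    Finset.sum_eq_single b (fun c _ hc => by simp [hc]) (by simp)]
  simp [Geo.gramMatrix]

theorem jf_push (i : J) (x y : (J → Fin m) → F) :
    jf σ f x y = tf σ (jf (J := {j // j ≠ i}) σ f) f (push i x) (push i y) := by
  rw [jf, tf, Geo.formOfGram]
  refine Fintype.sum_equiv (sp i m) _ _ fun a => Fintype.sum_equiv (sp i m) _ _ fun b => ?_
  rw [push_apply, push_apply, Equiv.symm_apply_apply, Equiv.symm_apply_apply, Matrix.kroneckerMap_apply,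
    gram_jf]
  congr 2
  rw [← Finset.mul_prod_erase Finset.univ _ (Finset.mem_univ i), mul_comm,
    Finset.prod_subtype (Finset.univ.erase i) (p := fun j => j ≠ i) (by simp)]
  rfl

theorem jf_unitary (hf : Geo.IsUnitaryForm σ f) : ∀ (J : Type) [Fintype J] [DecidableEq J],
    Geo.IsUnitaryForm σ (jf (J := J) σ f) := by
  suffices h : ∀ (n : ℕ) (J : Type) [Fintype J] [DecidableEq J], Fintype.card J = n →
      Geo.IsUnitaryForm σ (jf (J := J) σ f) from fun J _ _ => h _ J rfl
  intro n
  induction n with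
  | zero =>
    intro J _ _ hJ
    haveI : IsEmpty J := Fintype.card_eq_zero_iff.1 hJ
    have e : ∀ x y : (J → Fin m) → F, jf σ f x y = x isEmptyElim * σ (y isEmptyElim) := by
      intro x y
      rw [jf, Fintype.sum_unique, Fintype.sum_unique, Finset.prod_of_isEmpty, mul_one]
      rfl
    refine ⟨hf.ne_refl, hf.involutive, fun x y v => ?_, fun c x v => ?_, fun v w => ?_, fun v hv => ?_⟩
    · simp [e, add_mul]
    · simp [e, mul_assoc]
    · simp [e, hf.involutive, mul_comm]
    · have h0 : v isEmptyElim ≠ 0 := fun h0 => hv (funext fun a => by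
        rw [Subsingleton.elim a isEmptyElim]; exact h0)
      refine ⟨⟨v, ?_⟩, ⟨v, ?_⟩⟩ <;>
      · rw [e]; exact mul_ne_zero h0 ((map_ne_zero_iff σ σ.injective).2 h0)
  | succ n ih =>
    intro J _ _ hJ
    obtain ⟨i⟩ : Nonempty J := Fintype.card_pos_iff.1 (by omega)
    have h' := tf_unitary (ih {j // j ≠ i} (by
      rw [Fintype.card_subtype_compl, Fintype.card_subtype_eq, hJ, Nat.add_sub_cancel])) hf
    refine ⟨hf.ne_refl, hf.involutive, fun x y v => ?_, fun c x v => ?_, fun v w => ?_, fun v hv => ?_⟩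
    · simp only [jf_push i, map_add, h'.add_left]
    · simp only [jf_push i, map_smul, h'.smul_left]
    · simp only [jf_push i]; exact h'.herm _ _
    · obtain ⟨⟨w, hw⟩, ⟨w', hw'⟩⟩ := h'.nondegenerate (push i v)
        (fun h0 => hv ((push i).injective (h0.trans (map_zero _).symm)))
      exact ⟨⟨(push i).symm w, by rwa [jf_push i, LinearEquiv.apply_symm_apply]⟩,
        ⟨(push i).symm w', by rwa [jf_push i, LinearEquiv.apply_symm_apply]⟩⟩

/-- The isometries of the tensor power form. -/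
abbrev jIso (σ : F ≃+* F) (f : (Fin m → F) → (Fin m → F) → F) (J : Type) [Fintype J] [DecidableEq J] :
    Subgroup (GL (J → Fin m) F) :=
  preserving (Units.coeHom (Matrix (J → Fin m) (J → Fin m) F)) (jf σ f)

theorem mem_jIso {g : GL (J → Fin m) F} :
    g ∈ jIso σ f J ↔ ∀ x y, jf σ f (mv g x) (mv g y) = jf σ f x y := Iff.rfl

theorem mem_jIso_tg (i : J) {g : GL (J → Fin m) F} :
    g ∈ jIso σ f J ↔ ∀ x y, tf σ (jf (J := {j // j ≠ i}) σ f) f (mv (tg i m F g) x) (mv (tg i m F g) y) =
      tf σ (jf (J := {j // j ≠ i}) σ f) f x y := by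
  rw [mem_jIso]
  constructor
  · intro h x y
    have e := h ((push i).symm x) ((push i).symm y)
    rwa [jf_push i, jf_push i, ← mv_tg', ← mv_tg', LinearEquiv.apply_symm_apply,
      LinearEquiv.apply_symm_apply] at e
  · intro h x y
    rw [jf_push i, jf_push i, ← mv_tg, ← mv_tg, h]

theorem det_tg (i : J) (g : GL (J → Fin m) F) :
    Matrix.GeneralLinearGroup.det (tg i m F g) = Matrix.GeneralLinearGroup.det g :=
  Units.ext (by
    rw [Matrix.GeneralLinearGroup.val_det_apply, Matrix.GeneralLinearGroup.val_det_apply]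
    exact Matrix.det_submatrix_equiv_self (sp i m).symm _)

theorem fac_mem_jIso (hf : Geo.IsUnitaryForm σ f) (i : J) {A : GL (Fin m) F}
    (hA : ∀ x y, f (mv A x) (mv A y) = f x y) : fac i A ∈ jIso σ f J := by
  rw [mem_jIso_tg i, tg_fac]
  refine preserves_of_ten (jf_unitary hf _) hf fun u w v z => ?_
  rw [mv_kronGL, mv_kronGL, mv_one, mv_one, tf_ten (jf_unitary hf _) hf, tf_ten (jf_unitary hf _) hf, hA]

theorem fac_mem_specialLinear (i : J) {A : GL (Fin m) F} (hA : A ∈ Geo.specialLinear (Fin m) F) :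
    fac i A ∈ Geo.specialLinear (J → Fin m) F := by
  show Matrix.GeneralLinearGroup.det _ = 1
  rw [← det_tg i, tg_fac]
  refine Units.ext ?_
  rw [Matrix.GeneralLinearGroup.val_det_apply, Units.val_one]
  show ((1 : GL (Rest i m) F).1 ⊗ₖ (A : Matrix (Fin m) (Fin m) F)).det = 1
  rw [Matrix.det_kronecker, Units.val_one, Matrix.det_one, one_pow, one_mul,
    ← Matrix.GeneralLinearGroup.val_det_apply, show Matrix.GeneralLinearGroup.det A = 1 from hA,
    Units.val_one, one_pow]

/-- The product of local operators. -/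
noncomputable def Loc (T : J → ((Fin m → F) →ₗ[F] Fin m → F)) : ((J → Fin m) → F) →ₗ[F] (J → Fin m) → F :=
  Matrix.toLin' (Matrix.of fun a b => ∏ j, LinearMap.toMatrix' (T j) (a j) (b j))

@[simp] theorem loc_pten (T : J → ((Fin m → F) →ₗ[F] Fin m → F)) (y : J → Fin m → F) :
    Loc T (pten y) = pten fun j => T j (y j) := by
  funext a
  rw [Loc, Matrix.toLin'_apply]
  simp only [Matrix.mulVec, dotProduct, Matrix.of_apply, pten, ← Finset.prod_mul_distrib]
  rw [← Fintype.prod_sum fun j k => LinearMap.toMatrix' (T j) (a j) k * y j k]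
  exact Finset.prod_congr rfl fun j _ => congrFun (LinearMap.toMatrix'_mulVec (T j) (y j)) (a j)

theorem loc_comp (T T' : J → ((Fin m → F) →ₗ[F] Fin m → F)) :
    Loc T ∘ₗ Loc T' = Loc fun j => T j ∘ₗ T' j :=
  eq_of_pten fun y => by simp

theorem loc_id : Loc (fun _ : J => (LinearMap.id : (Fin m → F) →ₗ[F] Fin m → F)) = LinearMap.id :=
  eq_of_pten fun y => by simp

theorem loc_eq_zero (T : J → ((Fin m → F) →ₗ[F] Fin m → F)) {j : J} (h : T j = 0) : Loc T = 0 :=
  eq_of_pten fun y => by
    rw [loc_pten, LinearMap.zero_apply]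
    funext a
    exact Finset.prod_eq_zero (Finset.mem_univ j) (by simp [h])

theorem loc_update_smul (T : J → ((Fin m → F) →ₗ[F] Fin m → F)) (j : J) (a : F)
    (A : (Fin m → F) →ₗ[F] Fin m → F) :
    Loc (Function.update T j (a • A)) = a • Loc (Function.update T j A) :=
  eq_of_pten fun y => by
    have e : ∀ B : (Fin m → F) →ₗ[F] Fin m → F, (fun l => Function.update T j B l (y l)) =
        Function.update (fun l => T l (y l)) j (B (y j)) := fun B => funext fun l => by
      rcases eq_or_ne l j with rfl | h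
      · simp
      · simp [h]
    rw [LinearMap.smul_apply, loc_pten, loc_pten, e, e, LinearMap.smul_apply, pten_update_smul]

theorem push_loc (i : J) (T : J → ((Fin m → F) →ₗ[F] Fin m → F)) (x : (J → Fin m) → F) :
    push i (Loc T x) = top (Loc fun j : {j // j ≠ i} => T j) (T i) (push i x) := by
  have e : (push i).toLinearMap ∘ₗ Loc T =
      top (Loc fun j : {j // j ≠ i} => T j) (T i) ∘ₗ (push i).toLinearMap :=
    eq_of_pten fun y => by simp [push_pten]
  exact LinearMap.congr_fun e x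

theorem loc_eq_conj (i : J) (T : J → ((Fin m → F) →ₗ[F] Fin m → F)) :
    Loc T = (push i).symm.toLinearMap ∘ₗ top (Loc fun j : {j // j ≠ i} => T j) (T i) ∘ₗ
      (push i).toLinearMap :=
  LinearMap.ext fun x => (push i).injective (by simp [push_loc])

theorem mvLin_fac (i : J) (A : GL (Fin m) F) :
    mvLin (fac i A) = Loc (Function.update (fun _ => LinearMap.id) i (mvLin A)) :=
  eq_of_pten fun y => by
    rw [Matrix.toLin'_apply, loc_pten]
    show mv (fac i A) (pten y) = _
    rw [mv_fac]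
    refine congrArg pten (funext fun l => ?_)
    rcases eq_or_ne l i with rfl | h
    · simp [mv]
    · simp [h]

/-- The pure product of rank one operators on a set of factors. -/
noncomputable def Pur (hf : Geo.IsUnitaryForm σ f) (S : Finset J) (x : J → Fin m → F) :
    ((J → Fin m) → F) →ₗ[F] (J → Fin m) → F :=
  Loc fun j => if j ∈ S then nop hf (x j) else LinearMap.id

/-- Some member has a pure displacement on at least two factors. -/
def EX (hf : Geo.IsUnitaryForm σ f) (M : Subgroup (GL (J → Fin m) F)) : Prop :=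
  ∃ (S : Finset J) (x : J → Fin m → F) (r : F), 2 ≤ S.card ∧ r ≠ 0 ∧
    (∀ j ∈ S, x j ≠ 0 ∧ f (x j) (x j) = 0) ∧ Has M (r • Pur hf S x)

/-- M contains the special isometries of every factor. -/
def FacU (σ : F ≃+* F) (f : (Fin m → F) → (Fin m → F) → F) (M : Subgroup (GL (J → Fin m) F)) : Prop :=
  ∀ (i : J), ∀ A ∈ preserving (Units.coeHom (Matrix (Fin m) (Fin m) F)) f ⊓ Geo.specialLinear (Fin m) F,
    fac i A ∈ M

end Cfsg.Agent.UWreath
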