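/-
A subgroup of the isometries of a tensor product of two unitary forms containing the special
isometries of the second factor: shears, and members acting trivially on a middle.
-/
import Cfsg.Agent.Lib.UWreath.Form
import Cfsg.Agent.Lib.TensorMax.ULine
import Cfsg.Agent.Lib.WreathMax.Main

set_option autoImplicit false
set_option linter.unusedSectionVars false

namespace Cfsg.Agent.UWreath

open scoped Matrix Kronecker
open Matrix Cfsg.Agent.Transvec Cfsg.Agent.Transvec.Herm Cfsg.Agent.TensorMax Cfsg.Agent.TensorMax.U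
open Cfsg.Agent.WreathMax

variable {α β : Type} [Fintype α] [DecidableEq α] [Fintype β] [DecidableEq β] {F : Type*} [Field F]
variable {σ : F ≃+* F} {f₁ : (α → F) → (α → F) → F} {f₂ : (β → F) → (β → F) → F}

/-- The hypotheses: isometries containing the special isometries of the second factor. -/
structure Pre (σ : F ≃+* F) (f₁ : (α → F) → (α → F) → F) (f₂ : (β → F) → (β → F) → F)
    (M : Subgroup (GL (α × β) F)) : Prop where
  h₁ : Geo.IsUnitaryForm σ f₁
  h₂ : Geo.IsUnitaryForm σ f₂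
  le_iso : M ≤ preserving (Units.coeHom (Matrix (α × β) (α × β) F)) (tf σ f₁ f₂)
  memW : ∀ B ∈ preserving (Units.coeHom (Matrix β β F)) f₂ ⊓ Geo.specialLinear β F, kronGL 1 B ∈ M

variable {M : Subgroup (GL (α × β) F)}

theorem Pre.iso (C : Pre σ f₁ f₂ M) {g : GL (α × β) F} (hg : g ∈ M) (x y : α × β → F) :
    tf σ f₁ f₂ (mv g x) (mv g y) = tf σ f₁ f₂ x y :=
  C.le_iso hg x y

theorem Pre.hf (C : Pre σ f₁ f₂ M) : Geo.IsUnitaryForm σ (tf σ f₁ f₂) := tf_unitary C.h₁ C.h₂

theorem exists_norm_d (C : Pre σ f₁ f₂ M) {c : β → F} (hc : c ≠ 0) (hiso : f₂ c c = 0) :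
    ∃ d, f₂ d d = 0 ∧ f₂ c d = 1 ∧ f₂ d c = 1 := by
  obtain ⟨d, -, hcd, hdd⟩ := exists_partner C.h₂ (nondeg_top C.h₂) Submodule.mem_top hc hiso
  exact ⟨d, hdd, hcd, by rw [C.h₂.herm, hcd, map_one]⟩

theorem exists_trace_neg (C : Pre σ f₁ f₂ M) (v : β → F) : ∃ l, l + σ l + f₂ v v = 0 := by
  obtain ⟨b, hb⟩ := exists_trace C.h₂.ne_refl C.h₂.involutive (-f₂ v v)
    (by rw [map_neg, self_fixed C.h₂])
  exact ⟨b, by rw [hb, neg_add_cancel]⟩

theorem ctr_sub_line (C : Pre σ f₁ f₂ M) {c v : β → F} (hv : f₂ v c = 0) {x y : α × β → F}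
    (h : y - x ∈ line α c) : ctr (frow f₂ v) y = ctr (frow f₂ v) x := by
  rw [← sub_eq_zero, ← map_sub]
  exact ctr_line (by rw [frow_dot C.h₂]; exact (f_eq_zero_comm C.h₂).1 hv) h

theorem eq_zero_of_orth₁ (C : Pre σ f₁ f₂ M) {u : α → F} (h : ∀ v, f₁ u v = 0) : u = 0 := by
  by_contra hu
  obtain ⟨v, hv⟩ := (C.h₁.nondegenerate u hu).1
  exact hv (by rw [C.h₁.herm, h, map_zero])

/-- A member fixing a line pointwise moves vectors inside the orthogonal of that line. -/
theorem disp_mem_perp (C : Pre σ f₁ f₂ M) {g : GL (α × β) F} (hg : g ∈ M) {c : β → F}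
    (hfix : ∀ u, mv g (ten u c) = ten u c) (x : α × β → F) :
    ctr (frow f₂ c) (mv g x - x) = 0 := by
  refine eq_zero_of_orth₁ C fun v => ?_
  have e := C.iso hg x (ten v c)
  rw [hfix, tf_ctr C.h₁ C.h₂, tf_ctr C.h₁ C.h₂] at e
  rw [map_sub, Herm.sub_left C.h₁, e, sub_self]

/-- A shear along an isotropic vector. -/
theorem exists_shear (C : Pre σ f₁ f₂ M) {c v : β → F} (hiso : f₂ c c = 0) (hvc : f₂ v c = 0) {l : F}
    (hl : l + σ l + f₂ v v = 0) :
    ∃ E ∈ M, (∃ B : GL β F, E = kronGL 1 B) ∧ ∀ x, mv E x =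
      x + ten (ctr (frow f₂ c) x) v + ten (l • ctr (frow f₂ c) x - ctr (frow f₂ v) x) c := by
  obtain ⟨B, hB, hBz⟩ := exists_eichler C.h₂ hiso hvc hl
  refine ⟨kronGL 1 B, C.memW B hB, ⟨B, rfl⟩, ?_⟩
  let R : (α × β → F) →ₗ[F] α × β → F := LinearMap.id + (rho v).comp (ctr (frow f₂ c)) +
    (rho c).comp (l • ctr (frow f₂ c) - ctr (frow f₂ v))
  have e : mvLin (kronGL (1 : GL α F) B) = R := ext_ten fun u w => by
    rw [Matrix.toLin'_apply]
    show mv (kronGL 1 B) (ten u w) = _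
    rw [mv_kronGL, mv_one, hBz]
    simp only [R, LinearMap.add_apply, LinearMap.id_apply, LinearMap.comp_apply, rho_apply,
      LinearMap.sub_apply, LinearMap.smul_apply, ctr_ten, frow_dot C.h₂, ten_add_right, ten_smul_right,
      ten_smul_left, ten_sub_left, smul_smul]
    module
  intro x
  have := LinearMap.congr_fun e x
  rw [Matrix.toLin'_apply] at this
  exact this

/-- A member fixing a line and acting trivially on the middle acts there as a factor shear. -/
theorem middle_scalar (C : Pre σ f₁ f₂ M) (hC : CentreScalar σ f₂ M) {c : β → F} (hc : c ≠ 0)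
    (hiso : f₂ c c = 0) {g : GL (α × β) F} (hg : g ∈ M) (hfix : ∀ u, mv g (ten u c) = ten u c)
    (hmid : ∀ x, ctr (frow f₂ c) x = 0 → mv g x - x ∈ line α c) :
    ∃ φ : β → F, φ ⬝ᵥ c = 0 ∧
      ∀ x, ctr (frow f₂ c) x = 0 → mv g x = x + ten (ctr φ x) c := by
  classical
  obtain ⟨θ, hθ⟩ := exists_dot_one hc
  set Z : (α × β → F) →ₗ[F] α → F := (ctr θ).comp (mvLin g - LinearMap.id) with hZ
  have hgx : ∀ x, ctr (frow f₂ c) x = 0 → mv g x = x + ten (Z x) c := fun x hx => by
    obtain ⟨u, hu⟩ := mem_line.1 (hmid x hx)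
    have : Z x = u := by
      show ctr θ (mvLin g x - x) = u
      rw [Matrix.toLin'_apply]
      show ctr θ (mv g x - x) = u
      rw [← hu, ctr_ten, hθ, one_smul]
    rw [this, hu, add_sub_cancel]
  obtain ⟨d, hdd, hcd, hdc⟩ := exists_norm_d C hc hiso
  have hg' : ∀ v, f₂ v c = 0 → ∃ z : F, ∀ u, Z (ten u v) = z • u := by
    intro v hv
    have hperp : ∀ u : α → F, ctr (frow f₂ c) (ten u v) = 0 := fun u => by
      rw [ctr_ten, frow_dot C.h₂, hv, zero_smul]
    have key : ∀ lam : F, ∃ s : F, ∀ u,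
        lam • Z (ten u v) + σ lam • ctr (frow f₂ v) (mv g (ten u d) - ten u d) = s • u := by
      intro lam
      obtain ⟨l, hl⟩ := exists_trace_neg C (lam • v)
      have hlv : f₂ (lam • v) c = 0 := by rw [C.h₂.smul_left, hv, mul_zero]
      obtain ⟨E, hE, -, hEx⟩ := exists_shear C hiso hlv hl
      have hEperp : ∀ x, ctr (frow f₂ c) x = 0 →
          mv E x = x - ten (ctr (frow f₂ (lam • v)) x) c := fun x hx => by
        rw [hEx, hx, ten_zero_left, add_zero, smul_zero, zero_sub, ten_neg_left, ← sub_eq_add_neg]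
      have hEline : ∀ u, mv E (ten u c) = ten u c := fun u => by
        rw [hEperp _ (by rw [ctr_ten, frow_dot C.h₂, hiso, zero_smul]), ctr_ten, frow_dot C.h₂,
          (f_eq_zero_comm C.h₂).1 hlv, zero_smul, ten_zero_left, sub_zero]
      have hz : g * E * g⁻¹ * E⁻¹ ∈ M :=
        M.mul_mem (M.mul_mem (M.mul_mem hg hE) (M.inv_mem hg)) (M.inv_mem hE)
      have hcomm : ∀ x, ctr (frow f₂ c) x = 0 → mv g (mv E x) = mv E (mv g x) := by
        intro x hx
        rw [hEperp x hx, mv_sub, hfix, hgx x hx, mv_add, hEline, hEperp x hx]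
        abel
      obtain ⟨s, -, hs⟩ := hC c hc hiso _ hz fun x hx => by
        obtain ⟨y, rfl⟩ : ∃ y, x = mv E y := ⟨mv E⁻¹ x, (mv_mv_inv E x).symm⟩
        have hy : ctr (frow f₂ c) y = 0 := by
          rw [hEx y, map_add, map_add, ctr_ten, ctr_ten, frow_dot C.h₂, frow_dot C.h₂, hlv, hiso,
            zero_smul, zero_smul, add_zero, add_zero] at hx
          exact hx
        obtain ⟨y', rfl⟩ : ∃ y', y = mv g y' := ⟨mv g⁻¹ y, (mv_mv_inv g y).symm⟩
        have hy' : ctr (frow f₂ c) y' = 0 := by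
          have e : ctr (frow f₂ c) (mv g y' - y') = 0 := disp_mem_perp C hg hfix y'
          rw [map_sub, hy, zero_sub, neg_eq_zero] at e
          exact e
        rw [mv_mul, mv_mul, mv_mul, mv_inv_mv, mv_inv_mv, hcomm y' hy']
      refine ⟨s, fun u => rho_injective hc ?_⟩
      have h1 : ctr (frow f₂ c) (ten u d) = u := by rw [ctr_ten, frow_dot C.h₂, hdc, one_smul]
      obtain ⟨m, hm⟩ : ∃ m, m = mv g (ten u d) - ten u d := ⟨_, rfl⟩
      have hm0 : ctr (frow f₂ c) m = 0 := hm ▸ disp_mem_perp C hg hfix _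
      have hgd : mv g (ten u d) = ten u d + m := by rw [hm, add_sub_cancel]
      have e : mv g (mv E (ten u d)) = mv (g * E * g⁻¹ * E⁻¹) (mv E (mv g (ten u d))) := by
        simp only [mv_mul, mv_inv_mv]
      rw [hs, hEx (ten u d), mv_add, mv_add, h1, hfix, hgd, mv_add, hEperp m hm0, hEx (ten u d), h1,
        hgx (ten u (lam • v)) (by rw [ctr_ten, frow_dot C.h₂, hlv, zero_smul])] at e
      simp only [map_add, map_sub, hm0, h1, ctr_ten, frow_dot C.h₂, hiso, hlv, zero_smul, sub_zero,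
        add_zero] at e
      have e2 : ten (Z (ten u (lam • v))) c + ten (ctr (frow f₂ (lam • v)) m) c = s • ten u c := by
        linear_combination (norm := module) e
      rw [ten_smul_right, map_smul, frow_smul C.h₂, ctr_smul_vec, LinearMap.smul_apply] at e2
      simp only [rho_apply]
      rw [ten_add_left, ten_smul_left s, ← hm]
      exact e2
    obtain ⟨lam, hlam⟩ := exists_not_fixed C.h₂.ne_refl
    obtain ⟨s₁, hs₁⟩ := key 1
    obtain ⟨s₂, hs₂⟩ := key lam
    refine ⟨(lam - σ lam)⁻¹ * (s₂ - σ lam * s₁), fun u => ?_⟩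
    have a1 := hs₁ u
    rw [map_one, one_smul, one_smul] at a1
    have a2 := hs₂ u
    have a3 : (lam - σ lam) • Z (ten u v) = (s₂ - σ lam * s₁) • u := by
      linear_combination (norm := module) a2 - (σ lam) • a1
    rw [mul_smul, ← a3, smul_smul, inv_mul_cancel₀ hlam, one_smul]
  -- the coefficient is linear on the orthogonal of c
  by_cases hα : IsEmpty α
  · exact ⟨0, zero_dotProduct c, fun x _ => funext fun p => hα.elim p.1⟩
  obtain ⟨i₀⟩ := not_isEmpty_iff.1 hα
  set u₁ : α → F := Pi.single i₀ 1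
  let f : (β → F) →ₗ[F] F :=
    { toFun := fun v => Z (ten u₁ (v - f₂ v c • d)) i₀
      map_add' := fun v w => by
        rw [C.h₂.add_left, add_smul, show v + w - (f₂ v c • d + f₂ w c • d) =
          (v - f₂ v c • d) + (w - f₂ w c • d) by abel, ten_add_right, map_add]
        rfl
      map_smul' := fun a v => by
        rw [C.h₂.smul_left, mul_smul, ← smul_sub, ten_smul_right, map_smul]
        rfl }
  obtain ⟨φ, hφ⟩ := exists_vec f
  have hval : ∀ v, f₂ v c = 0 → ∀ u, Z (ten u v) = (φ ⬝ᵥ v) • u := by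
    intro v hv u
    obtain ⟨z, hz⟩ := hg' v hv
    have : φ ⬝ᵥ v = z := by
      rw [hφ]
      show Z (ten u₁ (v - f₂ v c • d)) i₀ = z
      rw [hv, zero_smul, sub_zero, hz]
      simp [u₁]
    rw [this, hz]
  have hφc : φ ⬝ᵥ c = 0 := by
    have h0 : ∀ u, Z (ten u c) = 0 := fun u => by
      show ctr θ (mvLin g (ten u c) - ten u c) = 0
      rw [Matrix.toLin'_apply]
      show ctr θ (mv g (ten u c) - ten u c) = 0
      rw [hfix, sub_self, map_zero]
    have := congrFun (hval c hiso u₁) i₀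
    rw [h0] at this
    simpa [u₁] using this.symm
  refine ⟨φ, hφc, fun x hx => ?_⟩
  have hdec : x = ∑ k, ten (fun i => x (i, k)) ((Pi.single k 1 : β → F) - f₂ (Pi.single k 1) c • d) := by
    conv_lhs => rw [eq_sum_ten x]
    rw [← sub_eq_zero, ← Finset.sum_sub_distrib]
    have e : ∀ k, ten (fun i => x (i, k)) (Pi.single k (1 : F)) -
        ten (fun i => x (i, k)) ((Pi.single k 1 : β → F) - f₂ (Pi.single k 1) c • d) =
        ten (f₂ (Pi.single k 1) c • fun i => x (i, k)) d := by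
      intro k
      funext p
      simp only [Pi.sub_apply, ten, Pi.smul_apply, smul_eq_mul]
      ring
    rw [Finset.sum_congr rfl fun k _ => e k]
    funext p
    rw [Finset.sum_apply]
    simp only [ten, Pi.smul_apply, smul_eq_mul, Pi.zero_apply]
    rw [← Finset.sum_mul]
    have := congrFun hx p.1
    rw [ctr_apply, Pi.zero_apply] at this
    rw [Finset.sum_congr rfl fun k _ => mul_comm (f₂ (Pi.single k 1) c) (x (p.1, k))]
    rw [show ∑ k, x (p.1, k) * f₂ (Pi.single k 1) c = 0 from this, zero_mul]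
  rw [hgx x hx]
  congr 2
  conv_lhs => rw [hdec]
  conv_rhs => rw [hdec]
  rw [map_sum, map_sum]
  refine Finset.sum_congr rfl fun k _ => ?_
  rw [hval _ (by rw [Herm.sub_left C.h₂, C.h₂.smul_left, hdc, mul_one, sub_self]), ctr_ten]

/-- A factor transvection at an isotropic vector. -/
theorem htv_mem_pre (C : Pre σ f₁ f₂ M) (c : β → F) (hiso : f₂ c c = 0) {s : F} (hs : σ s = -s) :
    kronGL (1 : GL α F) (htv C.h₂ c hiso s) ∈ M :=
  C.memW _ ⟨htv_mem C.h₂ c hiso hs, htv_mem_specialLinear C.h₂ c hiso s⟩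

theorem mv_kronGL_htv (C : Pre σ f₁ f₂ M) (c : β → F) (hiso : f₂ c c = 0) (s : F) (x : α × β → F) :
    mv (kronGL (1 : GL α F) (htv C.h₂ c hiso s)) x = x + s • ten (ctr (frow f₂ c) x) c := by
  have e : mvLin (kronGL (1 : GL α F) (htv C.h₂ c hiso s)) =
      LinearMap.id + s • (rho c).comp (ctr (frow f₂ c)) := ext_ten fun u w => by
    rw [Matrix.toLin'_apply]
    show mv (kronGL 1 (htv C.h₂ c hiso s)) (ten u w) = _
    rw [mv_kronGL, mv_one, mv_htv]
    simp only [LinearMap.add_apply, LinearMap.id_apply, LinearMap.smul_apply, LinearMap.comp_apply,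
      rho_apply, ctr_ten, frow_dot C.h₂, ten_add_right, ten_smul_right, ten_smul_left, smul_smul]
  have := LinearMap.congr_fun e x
  rw [Matrix.toLin'_apply] at this
  exact this

/-- A member fixing a line pointwise and acting trivially on the middle is a factor isometry. -/
theorem shear_of_mid (C : Pre σ f₁ f₂ M) (hC : CentreScalar σ f₂ M) {c : β → F} (hc : c ≠ 0)
    (hiso : f₂ c c = 0) {g : GL (α × β) F} (hg : g ∈ M) (hfix : ∀ u, mv g (ten u c) = ten u c)
    (hmid : ∀ x, ctr (frow f₂ c) x = 0 → mv g x - x ∈ line α c) :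
    ∃ A : GL β F, g = kronGL 1 A := by
  obtain ⟨φ, hφ, hφx⟩ := middle_scalar C hC hc hiso hg hfix hmid
  obtain ⟨v, hv⟩ := frow_surj C.h₂ (-φ)
  have hvc : f₂ v c = 0 := by
    rw [f_eq_zero_comm C.h₂, ← frow_dot C.h₂, hv, neg_dotProduct, hφ, neg_zero]
  obtain ⟨l, hl⟩ := exists_trace_neg C v
  obtain ⟨E, hE, ⟨B, hEB⟩, hEx⟩ := exists_shear C hiso hvc hl
  obtain ⟨s, -, hsx⟩ := hC c hc hiso (E⁻¹ * g) (M.mul_mem (M.inv_mem hE) hg) fun x hx => by
    rw [mv_mul, mv_eq_iff, inv_inv, hφx x hx, hEx, hx, ten_zero_left, add_zero, smul_zero, zero_sub,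
      hv]
    rw [show ctr (-φ) x = -ctr φ x from by
      rw [← neg_one_smul F φ, ctr_smul_vec, LinearMap.smul_apply, neg_one_smul], neg_neg]
  refine ⟨B * htv C.h₂ c hiso s, ?_⟩
  have e : E⁻¹ * g = kronGL 1 (htv C.h₂ c hiso s) := ext_mv fun x => by rw [hsx, mv_kronGL_htv C]
  rw [eq_mul_of_inv_mul_eq e, hEB, kronGL_mul, one_mul]

end Cfsg.Agent.UWreath
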