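/-
Members supported on a totally isotropic block of the second factor act by an operator of the
second factor alone.
-/
import Cfsg.Agent.Lib.UWreath.Pre

set_option autoImplicit false
set_option linter.unusedSectionVars false

namespace Cfsg.Agent.UWreath

open scoped Matrix Kronecker
open Matrix Cfsg.Agent.Transvec Cfsg.Agent.Transvec.Herm Cfsg.Agent.TensorMax Cfsg.Agent.TensorMax.U
open Cfsg.Agent.WreathMax

variable {F : Type*} [Field F] {σ : F ≃+* F}

section Nop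

variable {κ : Type} [Fintype κ] [DecidableEq κ] {f : (κ → F) → (κ → F) → F}

theorem nop_smul (hf : Geo.IsUnitaryForm σ f) (a : F) (c : κ → F) :
    nop hf (a • c) = (a * σ a) • nop hf c :=
  LinearMap.ext fun y => by
    rw [nop_apply, LinearMap.smul_apply, nop_apply, Herm.smul_right hf]
    module

theorem nop_add (hf : Geo.IsUnitaryForm σ f) (a b y : κ → F) :
    nop hf (a + b) y = nop hf a y + nop hf b y + f y a • b + f y b • a := by
  simp only [nop_apply, Herm.add_right hf]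
  module

theorem nop_comp_eq_zero (hf : Geo.IsUnitaryForm σ f) {a b : κ → F} (h : f b a = 0) :
    nop hf a ∘ₗ nop hf b = 0 :=
  LinearMap.ext fun y => by
    rw [LinearMap.comp_apply, nop_apply, nop_apply, hf.smul_left, h, mul_zero, zero_smul,
      LinearMap.zero_apply]

theorem nop_conj (hf : Geo.IsUnitaryForm σ f) {T : GL κ F} {ρ : F} (hρ : ρ ≠ 0)
    (hT : ∀ x y, f (mv T x) (mv T y) = ρ * f x y) (c : κ → F) :
    mvLin T ∘ₗ nop hf c ∘ₗ mvLin T⁻¹ = ρ⁻¹ • nop hf (mv T c) :=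
  LinearMap.ext fun y => by
    rw [LinearMap.comp_apply, LinearMap.comp_apply, nop_apply, map_smul, Matrix.toLin'_apply,
      Matrix.toLin'_apply, LinearMap.smul_apply, nop_apply, smul_smul]
    show f (mv T⁻¹ y) c • mv T c = (ρ⁻¹ * f y (mv T c)) • mv T c
    have h := hT (mv T⁻¹ y) c
    rw [mv_mv_inv] at h
    rw [h, inv_mul_cancel_left₀ hρ]

theorem mvLin_inv_comp (T : GL κ F) : mvLin T⁻¹ ∘ₗ mvLin T = LinearMap.id :=
  LinearMap.ext fun y => by simp

theorem mvLin_comp_inv (T : GL κ F) : mvLin T ∘ₗ mvLin T⁻¹ = LinearMap.id :=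
  LinearMap.ext fun y => by simp

theorem exists_gl_of_injective (A : (κ → F) →ₗ[F] κ → F) (h : Function.Injective A) :
    ∃ g : GL κ F, ∀ y, mv g y = A y := by
  have hu : IsUnit (LinearMap.toMatrix' A) := Matrix.mulVec_injective_iff_isUnit.1 fun x y e => h (by
    simpa [LinearMap.toMatrix'_mulVec] using e)
  exact ⟨hu.unit, fun y => by
    show LinearMap.toMatrix' A *ᵥ y = A y
    rw [LinearMap.toMatrix'_mulVec]⟩

end Nop

variable {α β : Type} [Fintype α] [DecidableEq α] [Fintype β] [DecidableEq β]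
variable {f₁ : (α → F) → (α → F) → F} {f₂ : (β → F) → (β → F) → F}
variable {M : Subgroup (GL (α × β) F)}

theorem conj_top (B : GL α F) (A : GL β F) (Z : (α → F) →ₗ[F] α → F) (N : (β → F) →ₗ[F] β → F) :
    mvLin (kronGL B A) ∘ₗ top Z N ∘ₗ mvLin (kronGL B A)⁻¹ =
      top (mvLin B ∘ₗ Z ∘ₗ mvLin B⁻¹) (mvLin A ∘ₗ N ∘ₗ mvLin A⁻¹) := by
  rw [kronGL_inv, mvLin_kronGL, mvLin_kronGL, top_comp, top_comp]

theorem conj_one_left (Z : (α → F) →ₗ[F] α → F) :
    mvLin (1 : GL α F) ∘ₗ Z ∘ₗ mvLin (1 : GL α F)⁻¹ = Z :=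
  LinearMap.ext fun y => by simp

theorem Has.add_top {Z Z' : (α → F) →ₗ[F] α → F} {N N' : (β → F) →ₗ[F] β → F}
    (h : Has M (top Z N)) (h' : Has M (top Z' N')) (hN : N ∘ₗ N' = 0) :
    Has M (top Z N + top Z' N') :=
  h.add h' (by rw [top_comp, hN]; exact ext_ten fun u w => by simp [ten_zero_right])

/-- A centre displacement along an isotropic line is scalar. -/
theorem centre_top (C : Pre σ f₁ f₂ M) (hC : CentreScalar σ f₂ M) {c : β → F} (hc : c ≠ 0)
    (hiso : f₂ c c = 0) {Z : (α → F) →ₗ[F] α → F} (h : Has M (top Z (nop C.h₂ c))) :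
    ∃ s : F, ∀ u, Z u = s • u := by
  obtain ⟨g, hg, hgZ⟩ := h
  obtain ⟨d, -, -, hdc⟩ := exists_norm_d C hc hiso
  obtain ⟨s, -, hs⟩ := hC c hc hiso g hg fun x hx => by
    rw [hgZ, top_nop_apply, hx, map_zero, ten_zero_left, add_zero]
  refine ⟨s, fun u => rho_injective hc ?_⟩
  have e := hs (ten u d)
  rw [hgZ, top_nop_apply, ctr_ten, frow_dot C.h₂, hdc, one_smul, add_right_inj, ← ten_smul_left] at e
  exact e

/-- Contractions c ↦ ctr_a Z(· ⊗ b) of an operator. -/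
def cmpr (f₂ : (β → F) → (β → F) → F) (Z : (α × β → F) →ₗ[F] α × β → F) (a b : β → F) :
    (α → F) →ₗ[F] α → F :=
  (ctr (frow f₂ a)).comp (Z.comp (rho b))

@[simp] theorem cmpr_apply (Z : (α × β → F) →ₗ[F] α × β → F) (a b : β → F) (u : α → F) :
    cmpr f₂ Z a b u = ctr (frow f₂ a) (Z (ten u b)) := rfl

/-- U ⊗ X: the vectors killed by all contractions killing X. -/
def blk (α : Type) [Fintype α] [DecidableEq α] (X : Submodule F (β → F)) : Submodule F (α × β → F) where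
  carrier := {x | ∀ φ : β → F, (∀ c ∈ X, φ ⬝ᵥ c = 0) → ctr φ x = 0}
  zero_mem' := fun φ _ => map_zero _
  add_mem' := fun ha hb φ hφ => by rw [map_add, ha φ hφ, hb φ hφ, add_zero]
  smul_mem' := fun a x hx φ hφ => by rw [map_smul, hx φ hφ, smul_zero]

theorem mem_blk {X : Submodule F (β → F)} {x : α × β → F} :
    x ∈ blk α X ↔ ∀ φ : β → F, (∀ c ∈ X, φ ⬝ᵥ c = 0) → ctr φ x = 0 := Iff.rfl

theorem ten_mem_blk {X : Submodule F (β → F)} (u : α → F) {c : β → F} (hc : c ∈ X) :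
    ten u c ∈ blk α X := fun φ hφ => by rw [ctr_ten, hφ c hc, zero_smul]

/-- A member fixing the orthogonal of U ⊗ X moves vectors inside U ⊗ X. -/
theorem disp_mem_blk (C : Pre σ f₁ f₂ M) {X : Submodule F (β → F)} {g : GL (α × β) F} (hg : g ∈ M)
    (hfix : ∀ x, (∀ c ∈ X, ctr (frow f₂ c) x = 0) → mv g x = x) (x : α × β → F) :
    mv g x - x ∈ blk α X := by
  intro φ hφ
  obtain ⟨z, rfl⟩ := frow_surj C.h₂ φ
  refine eq_zero_of_orth₁ C fun v => ?_
  have hz : mv g (ten v z) = ten v z := hfix _ fun c hc => by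
    have := hφ c hc
    rw [frow_dot C.h₂] at this
    rw [ctr_ten, frow_dot C.h₂, (f_eq_zero_comm C.h₂).1 this, zero_smul]
  have e := C.iso hg x (ten v z)
  rw [hz, tf_ctr C.h₁ C.h₂, tf_ctr C.h₁ C.h₂] at e
  rw [map_sub, Herm.sub_left C.h₁, e, sub_self]

variable [Nonempty α]

/-- A member supported on a totally isotropic block acts by an operator of the second factor. -/
theorem block_op (C : Pre σ f₁ f₂ M) (hC : CentreScalar σ f₂ M) {X : Submodule F (β → F)}
    (hX : ∀ a ∈ X, ∀ b ∈ X, f₂ a b = 0) (h2 : 2 ≤ Module.finrank F X) {g : GL (α × β) F} (hg : g ∈ M)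
    (hfix : ∀ x, (∀ c ∈ X, ctr (frow f₂ c) x = 0) → mv g x = x) :
    ∃ H : (β → F) →ₗ[F] β → F, dev g = top LinearMap.id H := by
  classical
  set Z := dev g with hZdef
  have hZ0 : ∀ x, (∀ c ∈ X, ctr (frow f₂ c) x = 0) → Z x = 0 := fun x hx => by
    rw [hZdef, dev_apply, hfix x hx, sub_self]
  have hZr : ∀ x, Z x ∈ blk α X := fun x => by
    rw [hZdef, dev_apply]; exact disp_mem_blk C hg hfix x
  have hperp : ∀ x, ∀ c ∈ X, ctr (frow f₂ c) (Z x) = 0 := fun x c hc =>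
    hZr x _ fun c' hc' => by rw [frow_dot C.h₂]; exact hX c' hc' c hc
  have hZc : ∀ u, ∀ c ∈ X, Z (ten u c) = 0 := fun u c hc => hZ0 _ fun c' hc' => by
    rw [ctr_ten, frow_dot C.h₂, hX c hc c' hc', zero_smul]
  have hZZ : ∀ x, Z (Z x) = 0 := fun x => hZ0 _ (hperp x)
  -- the commutators with the shears
  have hD : ∀ c ∈ X, f₂ c c = 0 → ∀ v, f₂ v c = 0 → ∃ h ∈ M, ∀ y, mv h y = y +
      (ten (cmpr f₂ Z v v (ctr (frow f₂ c) y)) c - ten (ctr (frow f₂ v) (Z y)) c -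
        Z (ten (ctr (frow f₂ c) y) v)) := by
    intro c hc hiso v hvc
    obtain ⟨l, hl⟩ := exists_trace_neg C v
    obtain ⟨E, hE, -, hEx⟩ := exists_shear C hiso hvc hl
    refine ⟨E * g * E⁻¹ * g⁻¹, M.mul_mem (M.mul_mem (M.mul_mem hE hg) (M.inv_mem hE)) (M.inv_mem hg),
      fun y => ?_⟩
    have hEZ : ∀ x, mv E (Z x) = Z x - ten (ctr (frow f₂ v) (Z x)) c := fun x => by
      rw [hEx, hperp x c hc, ten_zero_left, add_zero, smul_zero, zero_sub, ten_neg_left,
        ← sub_eq_add_neg]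
    have hZE : ∀ x, Z (mv E x) = Z x + Z (ten (ctr (frow f₂ c) x) v) := fun x => by
      rw [hEx, map_add, map_add, hZc _ c hc, add_zero]
    have hgE : ∀ x, mv (E * g * E⁻¹) (mv E x) = mv E x + (Z x - ten (ctr (frow f₂ v) (Z x)) c) := by
      intro x
      rw [mv_mul, mv_mul, mv_inv_mv, show mv g x = x + Z x by rw [hZdef, dev_apply, add_sub_cancel],
        mv_add, hEZ]
    have hpE : ∀ x, ctr (frow f₂ c) (mv E x) = ctr (frow f₂ c) x := fun x => by
      rw [hEx, map_add, map_add, ctr_ten, ctr_ten, frow_dot C.h₂, frow_dot C.h₂, hvc, hiso, zero_smul,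
        zero_smul, add_zero, add_zero]
    have hginv : mv g⁻¹ y = y - Z y := by
      rw [mv_eq_iff, inv_inv, hZdef]
      have h1 := hZZ y
      rw [hZdef] at h1
      simp only [dev_apply] at h1 ⊢
      simp only [mv_sub] at h1 ⊢
      linear_combination (norm := module) h1
    obtain ⟨x, hx⟩ : ∃ x, y - Z y = mv E x := ⟨mv E⁻¹ (y - Z y), (mv_mv_inv _ _).symm⟩
    have hpx : ctr (frow f₂ c) x = ctr (frow f₂ c) y := by
      rw [← hpE, ← hx, map_sub, hperp y c hc, sub_zero]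
    have hZx : Z x = Z y - Z (ten (ctr (frow f₂ c) y) v) := by
      rw [← hpx, eq_sub_iff_add_eq, ← hZE, ← hx, map_sub, hZZ, sub_zero]
    rw [show E * g * E⁻¹ * g⁻¹ = (E * g * E⁻¹) * g⁻¹ from rfl, mv_mul, hginv, hx, hgE, ← hx, hZx,
      map_sub, ten_sub_left, cmpr_apply]
    abel
  -- the diagonal contractions
  have hdiag : ∀ c ∈ X, c ≠ 0 → ∀ v, f₂ v c = 0 → ∃ s : F, ∀ u, cmpr f₂ Z v v u = s • u := by
    intro c hc hc0 v hvc
    have hiso : f₂ c c = 0 := hX c hc c hc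
    refine centre_top C hC hc0 hiso ?_
    obtain ⟨μ, hμ⟩ := exists_trace C.h₂.ne_refl C.h₂.involutive 1 (map_one σ)
    have hμv : f₂ (μ • v) c = 0 := by rw [C.h₂.smul_left, hvc, mul_zero]
    obtain ⟨h₁, hh₁, e₁⟩ := hD c hc hiso v hvc
    obtain ⟨h₂, hh₂, e₂⟩ := hD c hc hiso (μ • v) hμv
    obtain ⟨h₃, hh₃, e₃⟩ := hD c hc hiso (v + μ • v) (by rw [C.h₂.add_left, hvc, hμv, add_zero])
    refine ⟨h₂⁻¹ * h₁⁻¹ * h₃, M.mul_mem (M.mul_mem (M.inv_mem hh₂) (M.inv_mem hh₁)) hh₃, fun y => ?_⟩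
    rw [mv_mul, mv_mul, mv_eq_iff, inv_inv, mv_eq_iff, inv_inv, e₃, top_nop_apply]
    set p := ctr (frow f₂ c) y with hp
    have e1 : ∀ r : α → F, mv h₁ (y + ten r c) = mv h₁ y + ten r c := fun r => by
      rw [mv_add, e₁ (ten r c)]
      simp [ctr_ten, frow_dot C.h₂, hiso, hZc r c hc, ten_zero_left]
    have e2 : ∀ r : α → F, mv h₂ (y + ten r c) = mv h₂ y + ten r c := fun r => by
      rw [mv_add, e₂ (ten r c)]
      simp [ctr_ten, frow_dot C.h₂, hiso, hZc r c hc, ten_zero_left]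
    have hp2 : ctr (frow f₂ c) (mv h₂ y) = p := by
      rw [e₂, map_add, map_sub, map_sub, ctr_ten, ctr_ten, frow_dot C.h₂, hiso, zero_smul, zero_smul,
        hperp _ c hc, sub_zero, sub_zero, add_zero]
    have hZ2 : Z (mv h₂ y) = Z y := by
      rw [e₂, map_add, map_sub, map_sub, hZc _ c hc, hZc _ c hc, hZZ]
      simp
    rw [e2, mv_add, e₁ (mv h₂ y), hp2, hZ2, e₂ y, e₁ (ten _ c)]
    simp only [ctr_ten, frow_dot C.h₂, hiso, hZc _ c hc, zero_smul, ten_zero_left, map_zero, sub_zero,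
      add_zero, cmpr_apply, ← hp]
    simp only [frow_add C.h₂, frow_smul C.h₂, ctr_add_vec, ctr_smul_vec, LinearMap.add_apply,
      LinearMap.smul_apply, ten_add_right, ten_smul_right, map_add, map_smul, ten_add_left, ten_smul_left]
    have e4 : σ μ = 1 - μ := by linear_combination hμ
    rw [e4]
    module
  -- all diagonal contractions, then all contractions
  have hall : ∀ v, ∃ s : F, ∀ u, cmpr f₂ Z v v u = s • u := by
    intro v
    obtain ⟨c, hc, hc0, hvc⟩ : ∃ c ∈ X, c ≠ 0 ∧ f₂ c v = 0 := by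
      by_contra hcon
      push Not at hcon
      have hinj : Function.Injective ((formH C.h₂ v).comp X.subtype) := by
        rw [← LinearMap.ker_eq_bot, LinearMap.ker_eq_bot']
        intro c hcv
        by_contra hc0
        exact hcon c c.2 (fun h => hc0 (Subtype.ext h)) hcv
      have := LinearMap.finrank_le_finrank_of_injective hinj
      rw [Module.finrank_self] at this
      omega
    exact hdiag c hc hc0 v ((f_eq_zero_comm C.h₂).1 hvc)
  have hab : ∀ a b, ∃ s : F, ∀ u, cmpr f₂ Z a b u = s • u := by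
    intro a b
    obtain ⟨lam, hlam⟩ := exists_not_fixed C.h₂.ne_refl
    obtain ⟨sa, ha⟩ := hall a
    obtain ⟨sb, hb⟩ := hall b
    obtain ⟨s₁, h₁⟩ := hall (a + b)
    obtain ⟨s₂, h₂⟩ := hall (a + lam • b)
    refine ⟨(lam - σ lam)⁻¹ * (s₂ - sa - lam * σ lam * sb - σ lam * (s₁ - sa - sb)), fun u => ?_⟩
    have a1 := h₁ u
    have a2 := h₂ u
    have a3 := ha u
    have a4 := hb u
    simp only [cmpr_apply, frow_add C.h₂, frow_smul C.h₂, ctr_add_vec, ctr_smul_vec, LinearMap.add_apply,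
      LinearMap.smul_apply, ten_add_right, ten_smul_right, map_add, map_smul] at a1 a2 a3 a4 ⊢
    have key : (lam - σ lam) • ctr (frow f₂ a) (Z (ten u b)) =
        (s₂ - sa - lam * σ lam * sb - σ lam * (s₁ - sa - sb)) • u := by
      linear_combination (norm := module) a2 - σ lam • a1 + (σ lam - 1) • a3 + (σ lam - lam * σ lam) • a4
    rw [mul_smul, ← key, smul_smul, inv_mul_cancel₀ hlam, one_smul]
  -- the operator
  obtain ⟨i₀⟩ := ‹Nonempty α›
  set ξ : α → F := Pi.single i₀ 1 with hξ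
  have hξ1 : ξ ⬝ᵥ ξ = 1 := by simp [ξ]
  refine ⟨(ctrL ξ).comp (Z.comp (lam ξ)), ext_ten fun u b => ?_⟩
  rw [top_ten, LinearMap.id_apply, ← sub_eq_zero]
  refine eq_zero_of_ctr fun φ => ?_
  obtain ⟨a, rfl⟩ := frow_surj C.h₂ φ
  obtain ⟨s, hs⟩ := hab a b
  have e := hs u
  rw [cmpr_apply] at e
  have e' := hs ξ
  rw [cmpr_apply] at e'
  rw [map_sub, e, ctr_ten, LinearMap.comp_apply, LinearMap.comp_apply, lam_apply, dot_ctrL, e',
    dotProduct_smul, hξ1, smul_eq_mul, mul_one, sub_self]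

/-- A similitude normalising M that stabilises a totally isotropic block maps its lines to lines. -/
theorem line_of_block_stab (C : Pre σ f₁ f₂ M) (hC : CentreScalar σ f₂ M) {X : Submodule F (β → F)}
    (hX : ∀ a ∈ X, ∀ b ∈ X, f₂ a b = 0) (h2 : 2 ≤ Module.finrank F X) {k : GL (α × β) F} {τ : F}
    (hτ : τ ≠ 0) (hsim : ∀ x y, tf σ f₁ f₂ (mv k x) (mv k y) = τ * tf σ f₁ f₂ x y)
    (hnorm : ∀ h ∈ M, k * h * k⁻¹ ∈ M) (hstab : ∀ x ∈ blk α X, mv k x ∈ blk α X) {c : β → F}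
    (hc : c ∈ X) (hc0 : c ≠ 0) :
    ∃ c', c' ≠ 0 ∧ f₂ c' c' = 0 ∧ ∀ u, mv k (ten u c) ∈ line α c' := by
  classical
  obtain ⟨s, hs0, hs⟩ := exists_anti C.h₂.ne_refl C.h₂.involutive
  have hiso : f₂ c c = 0 := hX c hc c hc
  set t := kronGL (1 : GL α F) (htv C.h₂ c hiso s) with ht
  have htM : t ∈ M := htv_mem_pre C c hiso hs
  have hperp : ∀ x, (∀ a ∈ X, ctr (frow f₂ a) x = 0) → ctr (frow f₂ c) (mv k⁻¹ x) = 0 := by
    intro x hx
    refine eq_zero_of_orth₁ C fun v => mul_left_cancel₀ hτ ?_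
    rw [mul_zero, ← tf_ctr C.h₁ C.h₂, ← hsim, mv_mv_inv]
    have hb := hstab _ (ten_mem_blk v hc)
    have hbot : ∀ y ∈ blk α X, tf σ f₁ f₂ x y = 0 := by
      intro y hy
      rw [eq_sum_ten y, Herm.sum_right C.hf]
      have hy' : ∀ i, (fun l => y (i, l)) ∈ X := by
        intro i
        by_contra hni
        obtain ⟨φ, hφ1, hφ2⟩ := exists_dot hni
        have e := congrFun (hy φ hφ1) i
        rw [ctr_apply, Pi.zero_apply] at e
        rw [dotProduct] at hφ2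
        exact one_ne_zero (hφ2.symm.trans (Eq.trans (Finset.sum_congr rfl fun _ _ => mul_comm _ _) e))
      rw [show (∑ l, tf σ f₁ f₂ x (ten (fun i => y (i, l)) (Pi.single l 1))) =
        ∑ i, tf σ f₁ f₂ x (ten (Pi.single i 1) (fun l => y (i, l))) from by
        rw [← Herm.sum_right C.hf, ← Herm.sum_right C.hf]
        congr 1
        rw [← eq_sum_ten]
        funext p
        simp [Finset.sum_apply, ten, Pi.single_apply]]
      exact Finset.sum_eq_zero fun i _ => by rw [tf_ctr C.h₁ C.h₂, hx _ (hy' i), Herm.zero_left C.h₁]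
    exact hbot _ hb
  have hmv : ∀ x, mv (k * t * k⁻¹) x = x + s • mv k (ten (ctr (frow f₂ c) (mv k⁻¹ x)) c) := fun x => by
    rw [mv_mul, mv_mul, ht, mv_kronGL_htv C, mv_add, mv_mv_inv, mv_smul]
  obtain ⟨H, hH⟩ := block_op C hC hX h2 (hnorm t htM) fun x hx => by
    rw [hmv, hperp x hx, ten_zero_left, mv_zero, smul_zero, add_zero]
  obtain ⟨d, -, -, hdc⟩ := exists_norm_d C hc0 hiso
  have hsurj : ∀ u, ∃ x, mv k (ten u c) = top LinearMap.id H x := fun u => by
    refine ⟨s⁻¹ • mv k (ten u d), ?_⟩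
    rw [← hH, dev_apply, hmv, add_sub_cancel_left, mv_smul, mv_inv_mv, map_smul, ctr_ten,
      frow_dot C.h₂, hdc, one_smul, ten_smul_left, mv_smul, smul_smul, mul_inv_cancel₀ hs0, one_smul]
  -- the operator has rank one
  obtain ⟨i₀⟩ := ‹Nonempty α›
  have hrange : LinearMap.range (top (LinearMap.id : (α → F) →ₗ[F] α → F) H) =
      (line α c).map (mvLin k) := by
    refine le_antisymm ?_ fun x hx => ?_
    · rintro _ ⟨x, rfl⟩
      rw [← hH, dev_apply, hmv, add_sub_cancel_left, ← mv_smul, ← ten_smul_left]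
      exact mem_map_mv.2 ⟨_, ten_mem_line _ _, rfl⟩
    · obtain ⟨y, hy, rfl⟩ := mem_map_mv.1 hx
      obtain ⟨u, rfl⟩ := mem_line.1 hy
      obtain ⟨x, hx⟩ := hsurj u
      exact ⟨x, hx.symm⟩
  obtain ⟨y₀, hy₀⟩ : ∃ y₀, H y₀ ≠ 0 := by
    by_contra hcon
    push Not at hcon
    have e : top (LinearMap.id : (α → F) →ₗ[F] α → F) H = 0 := ext_ten fun u w => by
      rw [top_ten, hcon, ten_zero_right, LinearMap.zero_apply]
    obtain ⟨x, hx⟩ := hsurj (Pi.single i₀ 1)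
    rw [e, LinearMap.zero_apply] at hx
    exact ten_ne_zero (by simp) hc0 (mv_inj k (hx.trans (mv_zero k).symm))
  have hle : line α (H y₀) ≤ (line α c).map (mvLin k) := by
    rintro x hx
    obtain ⟨u, rfl⟩ := mem_line.1 hx
    rw [← hrange]
    exact ⟨ten u y₀, top_ten _ _ _ _⟩
  have heq : line α (H y₀) = (line α c).map (mvLin k) :=
    Submodule.eq_of_le_of_finrank_le hle (by rw [TensorMax.finrank_map_mv, finrank_line hc0, finrank_line hy₀])
  refine ⟨H y₀, hy₀, ?_, fun u => heq ▸ mem_map_mv.2 ⟨_, ten_mem_line _ _, rfl⟩⟩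
  obtain ⟨w, hw⟩ : ∃ w, f₁ (Pi.single i₀ 1) w ≠ 0 := by
    by_contra hcon
    push Not at hcon
    exact (by simp : (Pi.single i₀ (1 : F) : α → F) ≠ 0) (eq_zero_of_orth₁ C hcon)
  obtain ⟨a, ha, e1⟩ := mem_map_mv.1 (hle (ten_mem_line (Pi.single i₀ 1) (H y₀)))
  obtain ⟨b, hb, e2⟩ := mem_map_mv.1 (hle (ten_mem_line w (H y₀)))
  obtain ⟨a', rfl⟩ := mem_line.1 ha
  obtain ⟨b', rfl⟩ := mem_line.1 hb
  have e := hsim (ten a' c) (ten b' c)
  rw [e1, e2, tf_ten C.h₁ C.h₂, tf_ten C.h₁ C.h₂, hiso, mul_zero, mul_zero] at e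
  exact (mul_eq_zero.1 e).resolve_left hw

end Cfsg.Agent.UWreath
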