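/-
Compression of an operator by isotropic vectors; a non-scalar centre yields a pure displacement.
-/
import Cfsg.Agent.Lib.UWreath.Block
import Cfsg.Agent.Lib.Transvec.HermFrame

set_option autoImplicit false
set_option linter.unusedSectionVars false

namespace Cfsg.Agent.UWreath

open scoped Matrix Kronecker
open Matrix Cfsg.Agent.Transvec Cfsg.Agent.Transvec.Herm Cfsg.Agent.TensorMax Cfsg.Agent.TensorMax.U
open Cfsg.Agent.WreathMax

variable {F : Type*} [Field F] {σ : F ≃+* F}

theorem top_neg_left {α β : Type} [Fintype α] [DecidableEq α] [Fintype β] [DecidableEq β]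
    (B : (α → F) →ₗ[F] α → F) (A : (β → F) →ₗ[F] β → F) : top (-B) A = -top B A :=
  ext_ten fun u w => by simp [ten_neg_left]

/-- A predicate on operators closed under sums and negatives. -/
structure Additive {V : Type*} [AddCommGroup V] (S : V → Prop) : Prop where
  add : ∀ {x y}, S x → S y → S (x + y)
  neg : ∀ {x}, S x → S (-x)

theorem Additive.sub {V : Type*} [AddCommGroup V] {S : V → Prop} (h : Additive S) {x y : V}
    (hx : S x) (hy : S y) : S (x - y) := by
  rw [sub_eq_add_neg]; exact h.add hx (h.neg hy)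

section Two

variable {α β : Type} [Fintype α] [DecidableEq α] [Fintype β] [DecidableEq β]
variable {f₂ : (β → F) → (β → F) → F}

/-- The displacement of a shear. -/
def sho (f₂ : (β → F) → (β → F) → F) (c w : β → F) (l : F) : (α × β → F) →ₗ[F] α × β → F :=
  (rho w).comp (ctr (frow f₂ c)) + (rho c).comp (l • ctr (frow f₂ c) - ctr (frow f₂ w))

theorem sho_apply (c w : β → F) (l : F) (y : α × β → F) :
    sho f₂ c w l y = ten (ctr (frow f₂ c) y) w + ten (l • ctr (frow f₂ c) y - ctr (frow f₂ w) y) c := rfl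

theorem ctr_sho (h₂ : Geo.IsUnitaryForm σ f₂) {c w : β → F} (hc : f₂ c c = 0) (hw : f₂ w c = 0) (l : F)
    (y : α × β → F) : ctr (frow f₂ c) (sho f₂ c w l y) = 0 := by
  rw [sho_apply, map_add, ctr_ten, ctr_ten, frow_dot h₂, frow_dot h₂, hc, hw, zero_smul, zero_smul,
    add_zero]

theorem sho_sho (h₂ : Geo.IsUnitaryForm σ f₂) {c w w' : β → F} (hc : f₂ c c = 0) (hw : f₂ w c = 0)
    (hw' : f₂ w' c = 0) (l l' : F) (y : α × β → F) :
    sho f₂ c w' l' (sho f₂ c w l y) = -(f₂ w w' • ten (ctr (frow f₂ c) y) c) := by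
  rw [sho_apply c w' l', ctr_sho h₂ hc hw, ten_zero_left, zero_add, smul_zero, zero_sub, ten_neg_left,
    sho_apply, map_add, ctr_ten, ctr_ten, frow_dot h₂, frow_dot h₂,
    (f_eq_zero_comm h₂).1 hw', zero_smul, add_zero, ten_smul_left]

/-- An operator stable under shears and transvections can be compressed by an isotropic vector. -/
theorem compress [Finite F] (h₂ : Geo.IsUnitaryForm σ f₂) (hm : 3 ≤ Fintype.card β)
    {S : ((α × β → F) →ₗ[F] α × β → F) → Prop} (hS : Additive S)
    (hinv : ∀ B ∈ preserving (Units.coeHom (Matrix β β F)) f₂ ⊓ Geo.specialLinear β F, ∀ X, S X →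
      S (mvLin (kronGL 1 B) ∘ₗ X ∘ₗ mvLin (kronGL 1 B)⁻¹))
    {Z : (α × β → F) →ₗ[F] α × β → F} (hZ : S Z) {c : β → F} (hc : c ≠ 0) (hiso : f₂ c c = 0) :
    ∃ r : F, r ≠ 0 ∧ S (r • top (cmpr f₂ Z c c) (nop h₂ c)) := by
  classical
  set p : (α × β → F) →ₗ[F] α → F := ctr (frow f₂ c) with hp
  obtain ⟨d, -, hcd, hdd⟩ := exists_partner h₂ (nondeg_top h₂) Submodule.mem_top hc hiso
  obtain ⟨hn, h2⟩ := nondeg_pair h₂ hiso hdd hcd
  have hsum := finrank_orth_add h₂ hn
  rw [h2, Module.finrank_fintype_fun_eq_card] at hsum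
  obtain ⟨w, hw, hww⟩ := exists_anisotropic h₂ (nondeg_orth h₂ hn)
    (fun h0 => by rw [h0, finrank_bot] at hsum; omega)
  have hwc : f₂ w c = 0 := (f_eq_zero_comm h₂).1 (hw c (Submodule.subset_span (Set.mem_insert _ _)))
  obtain ⟨s, hs0, hs⟩ := exists_anti h₂.ne_refl h₂.involutive
  obtain ⟨μ, hμ⟩ := TensorMax.U.exists_not_fixed h₂.ne_refl
  have hw'c : f₂ (μ • w) c = 0 := by rw [h₂.smul_left, hwc, mul_zero]
  have hκ : f₂ w (μ • w) - f₂ (μ • w) w = (σ μ - μ) * f₂ w w := by
    rw [Herm.smul_right h₂, h₂.smul_left]; ring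
  refine ⟨s * (f₂ w (μ • w) - f₂ (μ • w) w), mul_ne_zero hs0 (by
    rw [hκ]; exact mul_ne_zero (fun h => hμ (by linear_combination -h)) hww), ?_⟩
  -- the transvection
  have hmvx : ∀ (a : F) (y : α × β → F), mv (kronGL (1 : GL α F) (htv h₂ c hiso a)) y =
      y + a • ten (p y) c := by
    intro a
    have e : mvLin (kronGL (1 : GL α F) (htv h₂ c hiso a)) = LinearMap.id + a • (rho c).comp p :=
      ext_ten fun u v => by
        rw [Matrix.toLin'_apply]
        show mv (kronGL 1 (htv h₂ c hiso a)) (ten u v) = _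
        rw [mv_kronGL, mv_one, mv_htv]
        simp only [LinearMap.add_apply, LinearMap.id_apply, LinearMap.smul_apply, LinearMap.comp_apply,
          rho_apply, hp, ctr_ten, frow_dot h₂, ten_add_right, ten_smul_right, ten_smul_left, smul_smul]
    intro y
    have := LinearMap.congr_fun e y
    rwa [Matrix.toLin'_apply] at this
  set x := kronGL (1 : GL α F) (htv h₂ c hiso s) with hx
  have hxinv : ∀ y, mv x⁻¹ y = y + (-s) • ten (p y) c := fun y => by
    have hpc : p (ten (p y) c) = 0 := by rw [hp, ctr_ten, frow_dot h₂, hiso, zero_smul]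
    rw [mv_eq_iff, inv_inv, hx, hmvx, map_add, map_smul, hpc, smul_zero, add_zero]
    module
  -- the shears
  have hshear : ∀ v, f₂ v c = 0 → ∃ (B : GL β F) (l : F),
      B ∈ preserving (Units.coeHom (Matrix β β F)) f₂ ⊓ Geo.specialLinear β F ∧
      (∀ y, mv (kronGL (1 : GL α F) B) y = y + sho f₂ c v l y) ∧
      ∀ y, mv (kronGL (1 : GL α F) B)⁻¹ y = y + sho f₂ c (-v) (σ l) y := by
    intro v hv
    obtain ⟨l, hl⟩ := exists_trace h₂.ne_refl h₂.involutive (-f₂ v v) (by rw [map_neg, self_fixed h₂])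
    obtain ⟨B, hB, hBz⟩ := exists_eichler h₂ hiso hv (l := l) (by rw [hl, neg_add_cancel])
    have hmv : ∀ y, mv (kronGL (1 : GL α F) B) y = y + sho f₂ c v l y := by
      have e : mvLin (kronGL (1 : GL α F) B) = LinearMap.id + sho f₂ c v l := ext_ten fun u z => by
        rw [Matrix.toLin'_apply]
        show mv (kronGL 1 B) (ten u z) = _
        rw [mv_kronGL, mv_one, hBz]
        simp only [LinearMap.add_apply, LinearMap.id_apply, sho_apply, ctr_ten, frow_dot h₂,
          ten_add_right, ten_smul_right, ten_smul_left, ten_sub_left, smul_smul]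
        module
      intro y
      have := LinearMap.congr_fun e y
      rwa [Matrix.toLin'_apply] at this
    refine ⟨B, l, hB, hmv, fun y => ?_⟩
    rw [mv_eq_iff, inv_inv, hmv, map_add, sho_sho h₂ hiso
      (by rw [Herm.neg_left h₂, hv, neg_zero]) hv, Herm.neg_left h₂, neg_smul, neg_neg]
    have hneg : frow f₂ (-v) = (-1 : F) • frow f₂ v := by
      rw [← neg_one_smul F v, frow_smul h₂, map_neg, map_one]
    simp only [sho_apply, hneg, ctr_smul_vec, LinearMap.smul_apply, ten_sub_left, ten_smul_left]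
    rw [show ten (ctr (frow f₂ c) y) (-v) = -ten (ctr (frow f₂ c) y) v from map_neg (lam _) v]
    rw [show f₂ v v = -(l + σ l) by rw [hl, neg_neg]]
    module
  obtain ⟨B, l, hB, hE, hEi⟩ := hshear w hwc
  obtain ⟨B', l', hB', hE', hEi'⟩ := hshear (μ • w) hw'c
  set E := kronGL (1 : GL α F) B with hEdef
  set E' := kronGL (1 : GL α F) B' with hE'def
  set W := mvLin x ∘ₗ Z ∘ₗ mvLin x⁻¹ - Z with hW
  have hSW : S W :=
    hS.sub (hinv _ ⟨htv_mem h₂ c hiso hs, htv_mem_specialLinear h₂ c hiso s⟩ Z hZ) hZ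
  set D := mvLin E ∘ₗ W ∘ₗ mvLin E⁻¹ - W with hD
  have hSD : S D := hS.sub (hinv B hB W hSW) hSW
  have hS2 : S (mvLin E' ∘ₗ D ∘ₗ mvLin E'⁻¹ - D) := hS.sub (hinv B' hB' D hSD) hSD
  convert hS2 using 1
  refine LinearMap.ext fun y => ?_
  have hWy : ∀ z, W z = s • ten (p (Z z)) c - s • Z (ten (p z) c) -
      (s * s) • ten (p (Z (ten (p z) c))) c := fun z => by
    simp only [hW, LinearMap.sub_apply, LinearMap.comp_apply, Matrix.toLin'_apply]
    show mv x (Z (mv x⁻¹ z)) - Z z = _
    rw [hxinv, hx, hmvx, map_add, map_smul, map_add, map_smul, ten_add_left, ten_smul_left]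
    module
  have hpE : ∀ z, p (mv E z) = p z := fun z => by rw [hE, map_add, hp, ctr_sho h₂ hiso hwc, add_zero]
  have hpE' : ∀ z, p (mv E' z) = p z := fun z => by
    rw [hE', map_add, hp, ctr_sho h₂ hiso hw'c, add_zero]
  have hEc : ∀ r : α → F, mv E (ten r c) = ten r c := fun r => by
    rw [hE, sho_apply, ctr_ten, ctr_ten, frow_dot h₂, frow_dot h₂, hiso, (f_eq_zero_comm h₂).1 hwc]
    simp [ten_zero_left]
  have hE'c : ∀ r : α → F, mv E' (ten r c) = ten r c := fun r => by
    rw [hE', sho_apply, ctr_ten, ctr_ten, frow_dot h₂, frow_dot h₂, hiso, (f_eq_zero_comm h₂).1 hw'c]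
    simp [ten_zero_left]
  have hpi : ∀ z, p (mv E⁻¹ z) = p z := fun z => by rw [← hpE (mv E⁻¹ z), mv_mv_inv]
  have hpi' : ∀ z, p (mv E'⁻¹ z) = p z := fun z => by rw [← hpE' (mv E'⁻¹ z), mv_mv_inv]
  have hD' : ∀ z, D z = s • ten (p (Z (mv E⁻¹ z) - Z z)) c -
      s • (mv E (Z (ten (p z) c)) - Z (ten (p z) c)) := fun z => by
    simp only [hD, LinearMap.sub_apply, LinearMap.comp_apply, Matrix.toLin'_apply]
    show mv E (W (mv E⁻¹ z)) - W z = _
    rw [hWy, hWy, mv_sub, mv_sub, mv_smul, mv_smul, mv_smul, hEc, hEc, hpi, map_sub, ten_sub_left]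
    module
  simp only [LinearMap.smul_apply, LinearMap.sub_apply, LinearMap.comp_apply, Matrix.toLin'_apply]
  show _ = mv E' (D (mv E'⁻¹ y)) - D y
  rw [hD', hD', mv_sub, mv_smul, mv_smul, mv_sub, hE'c, hpi', top_nop_apply, cmpr_apply, ← hp]
  set k := Z (ten (p y) c) with hk
  rw [hE k, hE' (k + _), hE' k, map_add, sho_sho h₂ hiso hwc hw'c, hEi' y, hEi, hEi y]
  simp only [map_add, map_sub, ten_add_left, ten_sub_left]
  rw [sho_sho h₂ hiso (by rw [Herm.neg_left h₂, hw'c, neg_zero]) (by rw [Herm.neg_left h₂, hwc, neg_zero]),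
    map_neg, map_neg, map_smul, map_smul, ← hp, ← hk, ten_neg_left, ten_smul_left, Herm.neg_left h₂,
    Herm.neg_right h₂, neg_neg]
  module

end Two

section Form

variable {κ : Type} [Fintype κ] [DecidableEq κ] {f : (κ → F) → (κ → F) → F}
variable {V : Type*} [AddCommGroup V] [Module F V]

/-- A sesquilinear map vanishing at isotropic vectors is a multiple of the form. -/
theorem scalar_form [Finite F] (hf : Geo.IsUnitaryForm σ f) (hκ : 2 ≤ Fintype.card κ)
    (b : (κ → F) → (κ → F) → V) (hal : ∀ x y z, b (x + y) z = b x z + b y z)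
    (hsl : ∀ (a : F) x z, b (a • x) z = σ a • b x z) (har : ∀ z x y, b z (x + y) = b z x + b z y)
    (hsr : ∀ (a : F) z x, b z (a • x) = a • b z x) (h0 : ∀ e, f e e = 0 → b e e = 0) :
    ∃ L : V, ∀ x y, b x y = f y x • L := by
  classical
  obtain ⟨e, -, he, hee⟩ := exists_isotropic hf (nondeg_top hf)
    (by rw [finrank_top, Module.finrank_fintype_fun_eq_card]; exact hκ)
  obtain ⟨d, -, hed, hdd⟩ := exists_partner hf (nondeg_top hf) Submodule.mem_top he hee
  have hde : f d e = 1 := by rw [hf.herm, hed, map_one]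
  obtain ⟨t, ht0, ht⟩ := exists_anti hf.ne_refl hf.involutive
  refine ⟨b e d, fun x y => ?_⟩
  set L := b e d with hL
  have hbde : b d e = L := by
    have h := h0 (e + t • d) (by
      simp [hf.add_left, Herm.add_right hf, hf.smul_left, Herm.smul_right hf, hee, hdd, hed, hde, ht])
    simp only [hal, hsl, har, hsr, h0 e hee, h0 d hdd, ht, smul_zero, zero_add, add_zero, smul_smul] at h
    rw [← sub_eq_zero]
    refine (smul_eq_zero.1 (?_ : t • (b d e - L) = 0)).resolve_left ht0
    linear_combination (norm := module) -h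
  -- orthogonal vectors
  have hz : ∀ z, f z e = 0 → f z d = 0 →
      b z e = 0 ∧ b z d = 0 ∧ b e z = 0 ∧ b d z = 0 ∧ b z z = f z z • L := by
    intro z hze hzd
    have hez := (f_eq_zero_comm hf).1 hze
    have hdz := (f_eq_zero_comm hf).1 hzd
    have key : ∀ (η : F) (δ : F), η * σ η = 1 → δ + σ δ + f z z = 0 →
        b z z + (-f z z) • L + σ η • (b z e + δ • b z d) + η • (b e z + σ δ • b d z) = 0 := by
      intro η δ hη hδ
      have h := h0 (η • z + e + δ • d) (by
        simp only [hf.add_left, Herm.add_right hf, hf.smul_left, Herm.smul_right hf, hee, hdd, hed, hde,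
          hze, hzd, hez, hdz]
        linear_combination hδ + f z z * hη)
      simp only [hal, hsl, har, hsr, h0 e hee, h0 d hdd, smul_zero, add_zero, hbde, ← hL, smul_smul] at h
      simp only [smul_add, smul_smul] at h
      rw [show σ η * η = 1 by rw [mul_comm]; exact hη, one_smul] at h
      rw [show -f z z = δ + σ δ by linear_combination -hδ]
      linear_combination (norm := module) h
    have pair : ∀ δ, δ + σ δ + f z z = 0 →
        b z e + δ • b z d = 0 ∧ b e z + σ δ • b d z = 0 ∧ b z z = f z z • L := by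
      intro δ hδ
      obtain ⟨η, hη, hη1⟩ : ∃ η : F, η * σ η = 1 ∧ η ≠ 1 := exists_norm_one_ne hf
      obtain ⟨η', hη', hη'1⟩ : ∃ η' : F, η' * σ η' = 1 ∧ η' ∉ ({1, η} : Finset F) := by
        have h1 := card_normOnes hf.ne_refl hf.involutive
        have h2 : 2 ≤ Nat.card (fixedField σ) := Finite.one_lt_card
        by_contra hcon
        push Not at hcon
        have : normOnes σ ⊆ ({1, η} : Finset F) := fun a ha => hcon a (mem_normOnes.1 ha)
        have := (Finset.card_le_card this).trans Finset.card_le_two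
        omega
      simp only [Finset.mem_insert, Finset.mem_singleton, not_or] at hη'1
      have k1 := key 1 δ (by rw [map_one, mul_one]) hδ
      have k2 := key η δ hη hδ
      have k3 := key η' δ hη' hδ
      rw [map_one, one_smul, one_smul] at k1
      set P := b z e + δ • b z d
      set Q := b e z + σ δ • b d z
      have e2 : (η - 1) • (η • Q - P) = 0 := by
        have e' : σ η * η = 1 := by rw [mul_comm]; exact hη
        have := congrArg (η • ·) (sub_eq_zero.2 (k2.trans k1.symm))
        simp only [smul_zero, smul_sub, smul_add, smul_smul, mul_comm η (σ η), e', one_smul] at this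
        linear_combination (norm := module) this
      have e3 : (η' - 1) • (η' • Q - P) = 0 := by
        have e' : σ η' * η' = 1 := by rw [mul_comm]; exact hη'
        have := congrArg (η' • ·) (sub_eq_zero.2 (k3.trans k1.symm))
        simp only [smul_zero, smul_sub, smul_add, smul_smul, mul_comm η' (σ η'), e', one_smul] at this
        linear_combination (norm := module) this
      have f2 := (smul_eq_zero.1 e2).resolve_left (sub_ne_zero.2 hη1)
      have f3 := (smul_eq_zero.1 e3).resolve_left (sub_ne_zero.2 hη'1.1)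
      have hQ : Q = 0 := (smul_eq_zero.1 (show (η - η') • Q = 0 by
        linear_combination (norm := module) f2 - f3)).resolve_left (sub_ne_zero.2 (Ne.symm hη'1.2))
      have hP : P = 0 := by rw [hQ, smul_zero, zero_sub, neg_eq_zero] at f2; exact f2
      refine ⟨hP, hQ, ?_⟩
      rw [hP, hQ, add_zero, add_zero] at k1
      linear_combination (norm := module) k1
    obtain ⟨δ, hδ⟩ := exists_trace hf.ne_refl hf.involutive (-f z z) (by rw [map_neg, self_fixed hf])
    obtain ⟨p1, p2, p3⟩ := pair δ (by rw [hδ, neg_add_cancel])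
    obtain ⟨r1, r2, -⟩ := pair (δ + t) (by rw [map_add, ht]; linear_combination hδ)
    have hzd' : b z d = 0 := (smul_eq_zero.1 (show t • b z d = 0 by
      linear_combination (norm := module) r1 - p1)).resolve_left ht0
    rw [map_add, ht] at r2
    have hdz' : b d z = 0 := (smul_eq_zero.1 (show t • b d z = 0 by
      linear_combination (norm := module) p2 - r2)).resolve_left ht0
    rw [hzd', smul_zero, add_zero] at p1
    rw [hdz', smul_zero, add_zero] at p2
    exact ⟨p1, hzd', p2, hdz', p3⟩
  have hzz : ∀ z z', f z e = 0 → f z d = 0 → f z' e = 0 → f z' d = 0 → b z z' = f z' z • L := by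
    intro z z' a1 a2 a3 a4
    obtain ⟨lam, hlam⟩ := TensorMax.U.exists_not_fixed hf.ne_refl
    have g1 := (hz (z + z') (by rw [hf.add_left, a1, a3, add_zero])
      (by rw [hf.add_left, a2, a4, add_zero])).2.2.2.2
    have g2 := (hz (z + lam • z') (by rw [hf.add_left, hf.smul_left, a1, a3, mul_zero, add_zero])
      (by rw [hf.add_left, hf.smul_left, a2, a4, mul_zero, add_zero])).2.2.2.2
    have g3 := (hz z a1 a2).2.2.2.2
    have g4 := (hz z' a3 a4).2.2.2.2
    simp only [hal, hsl, har, hsr, hf.add_left, Herm.add_right hf, hf.smul_left, Herm.smul_right hf] at g1 g2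
    rw [← sub_eq_zero]
    refine (smul_eq_zero.1 (?_ : (lam - σ lam) • (b z z' - f z' z • L) = 0)).resolve_left hlam
    linear_combination (norm := module) g2 - σ lam • g1 + (σ lam - 1) • g3 + (σ lam - lam * σ lam) • g4
  obtain ⟨x', hx1, hx2, hx⟩ : ∃ x', f x' e = 0 ∧ f x' d = 0 ∧ x = x' + f x d • e + f x e • d :=
    ⟨x - f x d • e - f x e • d,
      by simp [Herm.sub_left hf, hf.smul_left, hee, hde],
      by simp [Herm.sub_left hf, hf.smul_left, hdd, hed], by module⟩
  obtain ⟨y', hy1, hy2, hy⟩ : ∃ y', f y' e = 0 ∧ f y' d = 0 ∧ y = y' + f y d • e + f y e • d :=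
    ⟨y - f y d • e - f y e • d,
      by simp [Herm.sub_left hf, hf.smul_left, hee, hde],
      by simp [Herm.sub_left hf, hf.smul_left, hdd, hed], by module⟩
  obtain ⟨a1, a2, a3, a4, -⟩ := hz x' hx1 hx2
  obtain ⟨c1, c2, c3, c4, -⟩ := hz y' hy1 hy2
  rw [hx, hy]
  simp only [hal, hsl, har, hsr, hzz x' y' hx1 hx2 hy1 hy2, a1, a2, c3, c4, h0 e hee, h0 d hdd, hbde,
    ← hL, hf.add_left, Herm.add_right hf, hf.smul_left, Herm.smul_right hf, hy1, hy2, hee, hdd, hed, hde,
    (f_eq_zero_comm hf).1 hx1, (f_eq_zero_comm hf).1 hx2]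
  module

end Form

section Pure

variable {J : Type} [Fintype J] [DecidableEq J] {m : ℕ}
variable {f : (Fin m → F) → (Fin m → F) → F}

/-- An operator read back from the splitting at i. -/
def pull (i : J) (X : (Rest i m × Fin m → F) →ₗ[F] Rest i m × Fin m → F) :
    ((J → Fin m) → F) →ₗ[F] (J → Fin m) → F :=
  (push i).symm.toLinearMap ∘ₗ X ∘ₗ (push i).toLinearMap

theorem pull_conj (i : J) (g : GL (J → Fin m) F) (X : (Rest i m × Fin m → F) →ₗ[F] Rest i m × Fin m → F) :
    mvLin g ∘ₗ pull i X ∘ₗ mvLin g⁻¹ =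
      pull i (mvLin (tg i m F g) ∘ₗ X ∘ₗ mvLin (tg i m F g)⁻¹) :=
  LinearMap.ext fun x => (push i).injective (by
    simp only [pull, LinearMap.comp_apply, Matrix.toLin'_apply, LinearEquiv.coe_coe,
      LinearEquiv.apply_symm_apply]
    show push i (mv g _) = mv (tg i m F g) (X (mv (tg i m F g)⁻¹ (push i x)))
    rw [← mv_tg, LinearEquiv.apply_symm_apply, ← map_inv, mv_tg])

theorem has_tg (i : J) {M : Subgroup (GL (J → Fin m) F)}
    (X : (Rest i m × Fin m → F) →ₗ[F] Rest i m × Fin m → F) :
    Has (M.map (tg i m F).toMonoidHom) X ↔ Has M (pull i X) := by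
  constructor
  · rintro ⟨_, ⟨g, hg, rfl⟩, h⟩
    refine ⟨g, hg, fun x => (push i).injective ?_⟩
    have := h (push i x)
    rw [MulEquiv.coe_toMonoidHom, mv_tg] at this
    rw [this, map_add]
    simp [pull]
  · rintro ⟨g, hg, h⟩
    refine ⟨tg i m F g, Subgroup.mem_map_of_mem _ hg, fun y => ?_⟩
    rw [mv_tg', h]
    simp [pull]

/-- Extend a family of vectors to the factor i. -/
def extX (i : J) (c : Fin m → F) (x : {j // j ≠ i} → Fin m → F) (j : J) : Fin m → F :=
  if h : j = i then c else x ⟨j, h⟩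

theorem pull_pur (hf : Geo.IsUnitaryForm σ f) (i : J) (c : Fin m → F) (P : Finset {j // j ≠ i})
    (x : {j // j ≠ i} → Fin m → F) :
    pull i (top (Pur hf P x) (nop hf c)) =
      Pur hf (insert i (P.map (Function.Embedding.subtype _))) (extX i c x) := by
  conv_rhs => rw [Pur, loc_eq_conj i]
  rw [pull, Pur]
  congr 3
  · congr 1
    funext j
    simp [extX, j.2]
  · simp [extX]

theorem pull_top_id (hf : Geo.IsUnitaryForm σ f) (i : J) (P : Finset {j // j ≠ i})
    (x : {j // j ≠ i} → Fin m → F) :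
    pull i (top (Pur hf P x) LinearMap.id) =
      Pur hf (P.map (Function.Embedding.subtype _)) (extX i 0 x) := by
  conv_rhs => rw [Pur, loc_eq_conj i]
  rw [pull, Pur]
  congr 3
  · congr 1
    funext j
    simp [extX, j.2]
  · simp

/-- A non-scalar operator in an invariant additive family yields a pure one. -/
theorem exists_pure [Finite F] (hm : 3 ≤ m) (hf : Geo.IsUnitaryForm σ f) :
    ∀ (n : ℕ) (J : Type) [Fintype J] [DecidableEq J], Fintype.card J = n →
    ∀ S : (((J → Fin m) → F) →ₗ[F] (J → Fin m) → F) → Prop, Additive S →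
    (∀ (j : J), ∀ A ∈ preserving (Units.coeHom (Matrix (Fin m) (Fin m) F)) f ⊓
      Geo.specialLinear (Fin m) F, ∀ X, S X → S (mvLin (fac j A) ∘ₗ X ∘ₗ mvLin (fac j A)⁻¹)) →
    ∀ Z, S Z → (¬ ∃ s : F, ∀ x, Z x = s • x) →
    ∃ (P : Finset J) (x : J → Fin m → F) (r : F), P.Nonempty ∧ r ≠ 0 ∧
      (∀ j ∈ P, x j ≠ 0 ∧ f (x j) (x j) = 0) ∧ S (r • Pur hf P x) := by
  intro n
  induction n with
  | zero =>
    intro J _ _ hJ S hS hinv Z hZ hns
    haveI : IsEmpty J := Fintype.card_eq_zero_iff.1 hJ
    exact absurd ⟨Z (fun _ => 1) isEmptyElim, fun x => by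
      have e : x = x isEmptyElim • fun _ => (1 : F) := funext fun a => by
        rw [Subsingleton.elim a isEmptyElim]; simp
      conv_lhs => rw [e, map_smul]
      funext a
      rw [Subsingleton.elim a isEmptyElim, Pi.smul_apply, Pi.smul_apply, smul_eq_mul, smul_eq_mul,
        mul_comm]⟩ hns
  | succ n ih =>
    intro J _ _ hJ S hS hinv Z hZ hns
    classical
    obtain ⟨i⟩ : Nonempty J := Fintype.card_pos_iff.1 (by omega)
    have hcard : Fintype.card {j // j ≠ i} = n := by
      rw [Fintype.card_subtype_compl, Fintype.card_subtype_eq, hJ, Nat.add_sub_cancel]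
    set T : ((Rest i m × Fin m → F) →ₗ[F] Rest i m × Fin m → F) → Prop := fun X => S (pull i X) with hT
    have hTadd : Additive T :=
      { add := fun {x y} hx hy => by
          show S (pull i (x + y))
          rw [show pull i (x + y) = pull i x + pull i y from LinearMap.ext fun v => by simp [pull]]
          exact hS.add hx hy
        neg := fun {x} hx => by
          show S (pull i (-x))
          rw [show pull i (-x) = -pull i x from LinearMap.ext fun v => by simp [pull]]
          exact hS.neg hx }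
    have hTinv : ∀ B ∈ preserving (Units.coeHom (Matrix (Fin m) (Fin m) F)) f ⊓
        Geo.specialLinear (Fin m) F, ∀ X, T X → T (mvLin (kronGL 1 B) ∘ₗ X ∘ₗ mvLin (kronGL 1 B)⁻¹) := by
      intro B hB X hX
      show S (pull i _)
      rw [← tg_fac, ← pull_conj]
      exact hinv i B hB _ hX
    have hZT : T ((push i).toLinearMap ∘ₗ Z ∘ₗ (push i).symm.toLinearMap) := by
      show S (pull i _)
      convert hZ using 1
      exact LinearMap.ext fun x => by simp [pull]
    set Z' := (push i).toLinearMap ∘ₗ Z ∘ₗ (push i).symm.toLinearMap with hZ'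
    have hrec : ∀ (Z₀ : (Rest i m → F) →ₗ[F] Rest i m → F) (N : (Fin m → F) →ₗ[F] Fin m → F),
        (¬ ∃ s : F, ∀ u, Z₀ u = s • u) → T (top Z₀ N) →
        ∃ (P : Finset {j // j ≠ i}) (x : {j // j ≠ i} → Fin m → F) (r : F), P.Nonempty ∧ r ≠ 0 ∧
          (∀ j ∈ P, x j ≠ 0 ∧ f (x j) (x j) = 0) ∧ T (top (r • Pur hf P x) N) := by
      intro Z₀ N hns₀ hZ₀
      refine ih {j // j ≠ i} hcard (fun Y => T (top Y N)) ⟨fun {x y} hx hy => ?_, fun {x} hx => ?_⟩ ?_ Z₀ hZ₀ hns₀
      · show T (top (x + y) N)
        rw [top_add_left]; exact hTadd.add hx hy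
      · show T (top (-x) N)
        rw [top_neg_left]
        exact hTadd.neg hx
      · intro j A hA X hX
        show S (pull i _)
        have := hinv (j : J) A hA _ hX
        rw [pull_conj, tg_fac_other, conj_top] at this
        convert this using 3
        exact LinearMap.ext fun v => by simp
    by_cases hC : ∃ c, c ≠ 0 ∧ f c c = 0 ∧ cmpr f Z' c c ≠ 0
    · obtain ⟨c, hc, hiso, hC0⟩ := hC
      obtain ⟨r, hr, hTr⟩ := compress hf (by rw [Fintype.card_fin]; exact hm) hTadd hTinv hZT hc hiso
      by_cases hsc : ∃ s : F, ∀ u, cmpr f Z' c c u = s • u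
      · obtain ⟨s, hs⟩ := hsc
        have hs0 : s ≠ 0 := fun h => hC0 (LinearMap.ext fun u => by
          rw [hs, h, zero_smul, LinearMap.zero_apply])
        refine ⟨{i}, fun _ => c, r * s, Finset.singleton_nonempty i, mul_ne_zero hr hs0,
          fun j _ => ⟨hc, hiso⟩, ?_⟩
        have e : (r * s) • Pur hf {i} (fun _ => c) = pull i (r • top (cmpr f Z' c c) (nop hf c)) := by
          rw [show cmpr f Z' c c = s • LinearMap.id from LinearMap.ext hs, top_smul_left, smul_smul,
            Pur, loc_eq_conj i, if_pos (Finset.mem_singleton_self i),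
            show (fun j : {j // j ≠ i} => if (j : J) ∈ ({i} : Finset J) then nop hf c else LinearMap.id) =
              fun _ => LinearMap.id from funext fun j => by simp [j.2], loc_id]
          exact LinearMap.ext fun v => by simp [pull]
        rw [e]; exact hTr
      · obtain ⟨P, x, r', hP, hr', hx, hS'⟩ := hrec (r • cmpr f Z' c c) (nop hf c)
          (fun ⟨s, hs⟩ => hsc ⟨r⁻¹ * s, fun u => by
            rw [mul_smul, ← hs, LinearMap.smul_apply, smul_smul, inv_mul_cancel₀ hr, one_smul]⟩)
          (by rw [top_smul_left]; exact hTr)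
        refine ⟨_, extX i c x, r', Finset.insert_nonempty i (P.map (Function.Embedding.subtype _)), hr',
          fun j hj => ?_, ?_⟩
        · rcases Finset.mem_insert.1 hj with rfl | hj
          · simpa [extX] using ⟨hc, hiso⟩
          · obtain ⟨l, hl, rfl⟩ := Finset.mem_map.1 hj
            simpa [extX, l.2] using hx l hl
        · rw [← pull_pur hf i c P x]
          convert hS' using 1
          rw [top_smul_left]
          exact LinearMap.ext fun v => by simp [pull]
    · push Not at hC
      obtain ⟨L, hL⟩ := scalar_form hf (by rw [Fintype.card_fin]; omega) (fun a b => cmpr f Z' a b)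
        (fun a a' b => LinearMap.ext fun u => by simp [frow_add hf, ctr_add_vec])
        (fun s a b => LinearMap.ext fun u => by simp [frow_smul hf, ctr_smul_vec])
        (fun a b b' => LinearMap.ext fun u => by simp [ten_add_right])
        (fun s a b => LinearMap.ext fun u => by simp [ten_smul_right])
        (fun e he => by
          by_cases he0 : e = 0
          · exact LinearMap.ext fun u => by simp [he0, ten_zero_right]
          · exact hC e he0 he)
      have hZL : Z' = top L LinearMap.id := ext_ten fun u w => by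
        rw [top_ten, LinearMap.id_apply, ← sub_eq_zero]
        refine eq_zero_of_ctr fun φ => ?_
        obtain ⟨a, rfl⟩ := frow_surj hf φ
        have := LinearMap.congr_fun (hL a w) u
        rw [cmpr_apply] at this
        rw [map_sub, this, ctr_ten, frow_dot hf, LinearMap.smul_apply, sub_self]
      have hLns : ¬ ∃ s : F, ∀ u, L u = s • u := by
        rintro ⟨s, hs⟩
        refine hns ⟨s, fun x => (push i).injective ?_⟩
        have e : Z' = s • LinearMap.id := by
          rw [hZL, show L = s • LinearMap.id from LinearMap.ext hs, top_smul_left, top_one]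
        have := LinearMap.congr_fun e (push i x)
        simpa [hZ'] using this
      obtain ⟨P, x, r, hP, hr, hx, hS'⟩ := hrec L LinearMap.id hLns (hZL ▸ hZT)
      refine ⟨P.map (Function.Embedding.subtype _), extX i 0 x, r, hP.map, hr, fun j hj => ?_, ?_⟩
      · obtain ⟨l, hl, rfl⟩ := Finset.mem_map.1 hj
        simpa [extX, l.2] using hx l hl
      · rw [← pull_top_id hf i P x]
        convert hS' using 1
        rw [top_smul_left]
        exact LinearMap.ext fun v => by simp [pull]

/-- A non-scalar centre at a factor gives a pure displacement on two or more factors. -/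
theorem ex_of_not_centreScalar [Finite F] (hm : 3 ≤ m) (hf : Geo.IsUnitaryForm σ f)
    {M : Subgroup (GL (J → Fin m) F)} (hM : M ≤ jIso σ f J) (hG : FacU σ f M) (i : J)
    (h : ¬ CentreScalar σ f (M.map (tg i m F).toMonoidHom)) : EX hf M := by
  classical
  unfold CentreScalar at h
  push Not at h
  obtain ⟨c, hc, hiso, g, hg, hfix, hns⟩ := h
  set f₁ := jf (J := {j // j ≠ i}) σ f with hf₁
  have C : Pre σ f₁ f (M.map (tg i m F).toMonoidHom) :=
    { h₁ := jf_unitary hf _
      h₂ := hf
      le_iso := by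
        rintro _ ⟨k, hk, rfl⟩
        exact (mem_jIso_tg i).1 (hM hk)
      memW := fun B hB => by
        rw [← tg_fac]
        exact Subgroup.mem_map_of_mem _ (hG i B hB) }
  obtain ⟨d, hdd, hcd, hdc⟩ := exists_norm_d C hc hiso
  obtain ⟨θ, hθ⟩ := exists_dot_one hc
  set Z₀ : (Rest i m → F) →ₗ[F] Rest i m → F := (ctr θ).comp ((dev g).comp (rho d)) with hZ₀
  have hdev : ∀ x, mv g x = x + top Z₀ (nop hf c) x := by
    intro x
    set p := ctr (frow f c) x with hp
    have h1 : mv g (x - ten p d) = x - ten p d := hfix _ (by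
      rw [map_sub, ctr_ten, frow_dot hf, hdc, one_smul, sub_self])
    obtain ⟨r, hr⟩ := mem_line.1 (by
      refine mem_line_of_ctr hc fun φ hφ => ?_
      obtain ⟨z, rfl⟩ := frow_surj hf φ
      refine eq_zero_of_orth₁ C fun v => ?_
      rw [frow_dot hf] at hφ
      have hz : mv g (ten v z) = ten v z := hfix _ (by
        rw [ctr_ten, frow_dot hf, (f_eq_zero_comm hf).1 hφ, zero_smul])
      have e := C.iso hg (ten p d) (ten v z)
      rw [hz, tf_ctr C.h₁ hf, tf_ctr C.h₁ hf] at e
      rw [map_sub, Herm.sub_left C.h₁, e, sub_self] :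
        mv g (ten p d) - ten p d ∈ line (Rest i m) c)
    have hZp : Z₀ p = r := by
      simp only [hZ₀, LinearMap.comp_apply, rho_apply, dev_apply]
      rw [← hr, ctr_ten, hθ, one_smul]
    rw [top_nop_apply, ← hp, hZp, hr]
    rw [mv_sub] at h1
    linear_combination (norm := module) h1
  have hnsc : ¬ ∃ s : F, ∀ u, Z₀ u = s • u := by
    rintro ⟨s, hs⟩
    have hmv : ∀ x, mv g x = x + s • ten (ctr (frow f c) x) c := fun x => by
      rw [hdev, top_nop_apply, hs, ten_smul_left]
    refine absurd ?_ (not_exists.2 fun s' hs' => ?_ : ¬ ∃ s', σ s' = -s' ∧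
      ∀ x, mv g x = x + s' • ten (ctr (frow f c) x) c)
    · refine ⟨s, ?_, hmv⟩
      obtain ⟨u, hu⟩ : ∃ u : Rest i m → F, u ≠ 0 := ⟨fun _ => 1, fun h => one_ne_zero (congrFun h fun _ => ⟨0, by omega⟩)⟩
      obtain ⟨w, hw⟩ := (C.h₁.nondegenerate u hu).1
      have e := C.iso hg (ten u d) (ten w d)
      rw [hmv, hmv, ctr_ten, ctr_ten, frow_dot hf, hdc, one_smul, one_smul, tf_add_left,
        Herm.add_right C.hf, Herm.add_right C.hf, tf_smul_left, tf_smul_left, Herm.smul_right C.hf,
        Herm.smul_right C.hf, tf_ten C.h₁ hf, tf_ten C.h₁ hf, tf_ten C.h₁ hf, tf_ten C.h₁ hf, hdd, hcd,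
        hdc, hiso] at e
      have e' : (σ s + s) * f₁ u w = 0 := by linear_combination e
      exact eq_neg_of_add_eq_zero_left ((mul_eq_zero.1 e').resolve_right fun h0 => hw (by
        first
          | exact h0
          | rw [C.h₁.herm, h0, map_zero]))
    · obtain ⟨x, hx⟩ := hns s' hs'.1
      exact hx (hs'.2 x)
  set S : ((Rest i m → F) →ₗ[F] Rest i m → F) → Prop :=
    fun Y => Has (M.map (tg i m F).toMonoidHom) (top Y (nop hf c)) with hS
  have hnn : nop hf c ∘ₗ nop hf c = 0 := nop_comp_eq_zero hf hiso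
  have hSadd : Additive S := ⟨fun {x y} hx hy => by
      show Has _ (top (x + y) (nop hf c))
      rw [top_add_left]; exact hx.add_top hy hnn, fun {x} hx => by
      show Has _ (top (-x) (nop hf c))
      rw [top_neg_left]
      exact hx.neg (by rw [top_comp, hnn]; exact ext_ten fun u w => by simp [ten_zero_right])⟩
  obtain ⟨P, x, r, hP, hr, hx, hS'⟩ := exists_pure hm hf _ {j // j ≠ i} rfl S hSadd (by
    intro j A hA X hX
    have := hX.conj (show kronGL (fac j A) 1 ∈ M.map (tg i m F).toMonoidHom by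
      rw [← tg_fac_other]; exact Subgroup.mem_map_of_mem _ (hG _ A hA))
    rw [conj_top] at this
    convert this using 2
    exact LinearMap.ext fun v => by simp) Z₀ ⟨g, hg, hdev⟩ hnsc
  refine ⟨insert i (P.map (Function.Embedding.subtype _)), extX i c x, r, ?_, hr, fun j hj => ?_, ?_⟩
  · rw [Finset.card_insert_of_notMem (by simp), Finset.card_map]
    have := hP.card_pos
    omega
  · rcases Finset.mem_insert.1 hj with rfl | hj
    · simpa [extX] using ⟨hc, hiso⟩
    · obtain ⟨l, hl, rfl⟩ := Finset.mem_map.1 hj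
      simpa [extX, l.2] using hx l hl
  · rw [← pull_pur hf i c P x]
    have := (has_tg i _).1 hS'
    convert this using 1
    rw [top_smul_left]
    exact LinearMap.ext fun v => by simp [pull]

end Pure

end Cfsg.Agent.UWreath
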