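/-
A pure displacement on two or more factors makes a subgroup contain the special unitary group.
-/
import Cfsg.Agent.Lib.UWreath.Compress
import Cfsg.Agent.Lib.TensorMax.UGen

set_option autoImplicit false
set_option linter.unusedSectionVars false

namespace Cfsg.Agent.UWreath

open scoped Matrix Kronecker
open Matrix Cfsg.Agent.Transvec Cfsg.Agent.Transvec.Herm Cfsg.Agent.TensorMax Cfsg.Agent.TensorMax.U
open Cfsg.Agent.WreathMax

variable {F : Type*} [Field F] [Finite F] {σ : F ≃+* F}
variable {J : Type} [Fintype J] [DecidableEq J] {m : ℕ} {f : (Fin m → F) → (Fin m → F) → F}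

theorem loc_congr {T T' : J → ((Fin m → F) →ₗ[F] Fin m → F)} (h : ∀ j, T j = T' j) : Loc T = Loc T' := by
  rw [funext h]

theorem loc_conj_fac (a : J) (A : GL (Fin m) F) (T : J → ((Fin m → F) →ₗ[F] Fin m → F)) :
    mvLin (fac a A) ∘ₗ Loc T ∘ₗ mvLin (fac a A)⁻¹ =
      Loc (Function.update T a (mvLin A ∘ₗ T a ∘ₗ mvLin A⁻¹)) := by
  rw [fac_inv, mvLin_fac, mvLin_fac, loc_comp, loc_comp]
  refine loc_congr fun j => ?_
  rcases eq_or_ne j a with rfl | h
  · simp only [Function.update_self]
  · simp only [Function.update_of_ne h]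
    rfl

theorem mv_pm_pten (π : Equiv.Perm J) (y : J → Fin m → F) :
    mv (pm π : GL (J → Fin m) F) (pten y) = pten fun j => y (π⁻¹ j) := by
  funext i
  rw [mv_pm]
  simp only [pten]
  exact Fintype.prod_equiv π _ _ fun j => by simp

theorem loc_conj_pm (π : Equiv.Perm J) (T : J → ((Fin m → F) →ₗ[F] Fin m → F)) :
    mvLin (pm π : GL (J → Fin m) F) ∘ₗ Loc T ∘ₗ mvLin (pm π : GL (J → Fin m) F)⁻¹ =
      Loc fun j => T (π⁻¹ j) := by
  refine eq_of_pten fun y => ?_
  have e : mv (pm π : GL (J → Fin m) F)⁻¹ (pten y) = pten fun j => y (π j) := by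
    rw [mv_eq_iff, inv_inv, mv_pm_pten]
    simp
  simp only [LinearMap.comp_apply, Matrix.toLin'_apply]
  show mv (pm π : GL (J → Fin m) F) (Loc T (mv (pm π : GL (J → Fin m) F)⁻¹ (pten y))) = _
  rw [e, loc_pten, mv_pm_pten, loc_pten]
  simp

theorem pur_congr (hf : Geo.IsUnitaryForm σ f) {S : Finset J} {x x' : J → Fin m → F}
    (h : ∀ j ∈ S, x j = x' j) : Pur hf S x = Pur hf S x' :=
  loc_congr fun j => by
    by_cases hj : j ∈ S
    · simp [hj, h j hj]
    · simp [hj]

theorem pull_smul (i : J) (a : F) (X : (Rest i m × Fin m → F) →ₗ[F] Rest i m × Fin m → F) :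
    pull i (a • X) = a • pull i X :=
  LinearMap.ext fun x => by simp [pull]

/-- All pure displacements on S with coefficient r. -/
def HasPur (hf : Geo.IsUnitaryForm σ f) (M : Subgroup (GL (J → Fin m) F)) (S : Finset J) (r : F) : Prop :=
  ∀ x : J → Fin m → F, (∀ j ∈ S, x j ≠ 0 ∧ f (x j) (x j) = 0) → Has M (r • Pur hf S x)

theorem hasPur_of_one (hm : 3 ≤ m) (hf : Geo.IsUnitaryForm σ f) {M : Subgroup (GL (J → Fin m) F)}
    (hG : FacU σ f M) {S : Finset J} {x₀ : J → Fin m → F} {r : F}
    (hx₀ : ∀ j ∈ S, x₀ j ≠ 0 ∧ f (x₀ j) (x₀ j) = 0) (h : Has M (r • Pur hf S x₀)) : HasPur hf M S r := by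
  intro x hx
  suffices H : ∀ U : Finset J, U ⊆ S → Has M (r • Pur hf S fun j => if j ∈ U then x j else x₀ j) by
    have := H S (Finset.Subset.refl S)
    rwa [pur_congr hf (x := fun j => if j ∈ S then x j else x₀ j) (x' := x) fun j hj => if_pos hj] at this
  intro U
  induction U using Finset.induction with
  | empty => intro _; simpa using h
  | insert a U ha ih =>
    intro hUS
    have haS : a ∈ S := hUS (Finset.mem_insert_self a U)
    obtain ⟨A, hA, hAx⟩ := exists_move_su hf (by rw [Fintype.card_fin]; exact hm) (hx₀ a haS).1 (hx a haS).1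
      (hx₀ a haS).2 (hx a haS).2
    have := (ih fun j hj => hUS (Finset.mem_insert_of_mem hj)).conj (hG a A hA)
    rw [LinearMap.smul_comp, LinearMap.comp_smul, Pur, loc_conj_fac] at this
    convert this using 2
    refine loc_congr fun j => ?_
    rcases eq_or_ne j a with rfl | hja
    · simp [haS, ha, nop_conj hf one_ne_zero (fun u v => (hA.1 u v).trans (one_mul _).symm), hAx]
    · simp [Function.update_of_ne hja, hja]

theorem hasPur_map (hf : Geo.IsUnitaryForm σ f) {M : Subgroup (GL (J → Fin m) F)} {S : Finset J}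
    {r : F} (h : HasPur hf M S r) {π : Equiv.Perm J} (hπ : pm π ∈ M) :
    HasPur hf M (S.map π.toEmbedding) r := by
  intro x hx
  have := (h (fun j => x (π j)) fun j hj => hx (π j) (Finset.mem_map.2 ⟨j, hj, rfl⟩)).conj hπ
  rw [LinearMap.smul_comp, LinearMap.comp_smul, Pur, loc_conj_pm] at this
  convert this using 2
  refine loc_congr fun j => ?_
  by_cases hj : π⁻¹ j ∈ S
  · have : j ∈ S.map π.toEmbedding := Finset.mem_map.2 ⟨_, hj, by simp⟩
    simp [hj, this]
  · have : j ∉ S.map π.toEmbedding := fun hm' => hj (by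
      obtain ⟨l, hl, rfl⟩ := Finset.mem_map.1 hm'
      simpa using hl)
    simp [hj, this]

/-- Compression at all factors of a set. -/
theorem compress_all (hm : 3 ≤ m) (hf : Geo.IsUnitaryForm σ f)
    {S : (((J → Fin m) → F) →ₗ[F] (J → Fin m) → F) → Prop} (hS : Additive S)
    (hinv : ∀ (j : J), ∀ A ∈ preserving (Units.coeHom (Matrix (Fin m) (Fin m) F)) f ⊓
      Geo.specialLinear (Fin m) F, ∀ X, S X → S (mvLin (fac j A) ∘ₗ X ∘ₗ mvLin (fac j A)⁻¹))
    (A B : J → ((Fin m → F) →ₗ[F] Fin m → F)) (a b : F) (hZ : S (a • Loc A + b • Loc B))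
    (y : J → Fin m → F) (U : Finset J) (hy : ∀ j ∈ U, y j ≠ 0 ∧ f (y j) (y j) = 0) :
    ∃ r : F, r ≠ 0 ∧ S (r • ((a * ∏ j ∈ U, f (A j (y j)) (y j)) •
        Loc (fun j => if j ∈ U then nop hf (y j) else A j) +
      (b * ∏ j ∈ U, f (B j (y j)) (y j)) • Loc (fun j => if j ∈ U then nop hf (y j) else B j))) := by
  induction U using Finset.induction with
  | empty => exact ⟨1, one_ne_zero, by simpa using hZ⟩
  | insert i U hi ih =>
    obtain ⟨r, hr, hSr⟩ := ih fun j hj => hy j (Finset.mem_insert_of_mem hj)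
    obtain ⟨hc, hiso⟩ := hy i (Finset.mem_insert_self i U)
    set T : ((Rest i m × Fin m → F) →ₗ[F] Rest i m × Fin m → F) → Prop := fun X => S (pull i X) with hT
    have hTadd : Additive T :=
      { add := fun {u v} hu hv => by
          show S (pull i (u + v))
          rw [show pull i (u + v) = pull i u + pull i v from LinearMap.ext fun w => by simp [pull]]
          exact hS.add hu hv
        neg := fun {u} hu => by
          show S (pull i (-u))
          rw [show pull i (-u) = -pull i u from LinearMap.ext fun w => by simp [pull]]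
          exact hS.neg hu }
    have hTinv : ∀ C ∈ preserving (Units.coeHom (Matrix (Fin m) (Fin m) F)) f ⊓
        Geo.specialLinear (Fin m) F, ∀ X, T X → T (mvLin (kronGL 1 C) ∘ₗ X ∘ₗ mvLin (kronGL 1 C)⁻¹) := by
      intro C hC X hX
      show S (pull i _)
      rw [← tg_fac, ← pull_conj]
      exact hinv i C hC _ hX
    set A' : J → ((Fin m → F) →ₗ[F] Fin m → F) := fun j => if j ∈ U then nop hf (y j) else A j with hA'
    set B' : J → ((Fin m → F) →ₗ[F] Fin m → F) := fun j => if j ∈ U then nop hf (y j) else B j with hB'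
    set LA := Loc fun j : {j // j ≠ i} => A' j
    set LB := Loc fun j : {j // j ≠ i} => B' j
    set a' := a * ∏ j ∈ U, f (A j (y j)) (y j)
    set b' := b * ∏ j ∈ U, f (B j (y j)) (y j)
    set Z := (r * a') • top LA (A' i) + (r * b') • top LB (B' i) with hZdef
    have hZT : T Z := by
      show S (pull i Z)
      convert hSr using 1
      rw [loc_eq_conj i A', loc_eq_conj i B']
      exact LinearMap.ext fun w => by simp [hZdef, pull, LA, LB, smul_smul]
    obtain ⟨r', hr', hT'⟩ := compress hf (by rw [Fintype.card_fin]; exact hm) hTadd hTinv hZT hc hiso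
    refine ⟨r' * r, mul_ne_zero hr' hr, ?_⟩
    have e : cmpr f Z (y i) (y i) =
        (r * a' * f (A i (y i)) (y i)) • LA + (r * b' * f (B i (y i)) (y i)) • LB :=
      LinearMap.ext fun u => by
        simp only [hZdef, cmpr_apply, LinearMap.add_apply, LinearMap.smul_apply, map_add, map_smul, top_ten,
          ctr_ten, frow_dot hf, hA', hB', if_neg hi, smul_smul]
    convert (show S (pull i _) from hT') using 1
    have hupd : ∀ C : J → ((Fin m → F) →ₗ[F] Fin m → F),
        Loc (fun j => if j ∈ insert i U then nop hf (y j) else C j) =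
          pull i (top (Loc fun j : {j // j ≠ i} => if (j : J) ∈ U then nop hf (y j) else C j)
            (nop hf (y i))) := fun C => by
      rw [loc_eq_conj i, pull, if_pos (Finset.mem_insert_self i U),
        loc_congr (T := fun j : {j // j ≠ i} => if (j : J) ∈ insert i U then nop hf (y j) else C j)
          (T' := fun j : {j // j ≠ i} => if (j : J) ∈ U then nop hf (y j) else C j)
          (fun j => by simp [j.2])]
    rw [hupd A, hupd B, Finset.prod_insert hi, Finset.prod_insert hi, e]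
    refine LinearMap.ext fun w => ?_
    simp only [pull, LinearMap.smul_apply, LinearMap.add_apply, LinearMap.comp_apply, LinearEquiv.coe_coe,
      top_add_left, top_smul_left, map_add, map_smul, LA, LB, hA', hB', a', b']
    module

theorem exists_common (hm : 3 ≤ m) (hf : Geo.IsUnitaryForm σ f) {c d : Fin m → F} (hcc : f c c = 0)
    (hdd : f d d = 0) (hcd : f c d = 1) (ρ : F) :
    ∃ y, y ≠ 0 ∧ f y y = 0 ∧ f y c = 1 ∧ f y d = ρ := by
  obtain ⟨hn, h2⟩ := nondeg_pair hf hcc hdd hcd
  have hsum := finrank_orth_add hf hn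
  rw [h2, Module.finrank_fintype_fun_eq_card, Fintype.card_fin] at hsum
  obtain ⟨z₀, hz₀, hz₀0⟩ := exists_anisotropic hf (nondeg_orth hf hn)
    (fun h0 => by rw [h0, finrank_bot] at hsum; omega)
  have hcz : f c z₀ = 0 := hz₀ c (Submodule.subset_span (Set.mem_insert _ _))
  have hdz : f d z₀ = 0 := hz₀ d (Submodule.subset_span (Set.mem_insert_of_mem _ rfl))
  obtain ⟨ν, hν⟩ := exists_norm hf.ne_refl hf.involutive (-(ρ + σ ρ) / f z₀ z₀)
    (by rw [map_div₀, map_neg, map_add, hf.involutive, self_fixed hf, add_comm (σ ρ)])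
  have hdc : f d c = 1 := by rw [hf.herm, hcd, map_one]
  have hy : f (ρ • c + d + ν • z₀) c = 1 := by
    simp [hf.add_left, hf.smul_left, hcc, hdc, (f_eq_zero_comm hf).1 hcz]
  refine ⟨ρ • c + d + ν • z₀, fun h => by rw [h, Herm.zero_left hf] at hy; exact zero_ne_one hy, ?_, hy, ?_⟩
  · simp only [hf.add_left, Herm.add_right hf, hf.smul_left, Herm.smul_right hf, hcc, hdd, hcd, hdc,
      hcz, hdz, (f_eq_zero_comm hf).1 hcz, (f_eq_zero_comm hf).1 hdz]
    rw [eq_div_iff hz₀0] at hν
    linear_combination hν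
  · simp [hf.add_left, hf.smul_left, hcd, hdd, (f_eq_zero_comm hf).1 hdz]

/-- Two pure families combine into one on the union of their supports. -/
theorem hasPur_union (hm : 3 ≤ m) (hf : Geo.IsUnitaryForm σ f) {M : Subgroup (GL (J → Fin m) F)}
    (hG : FacU σ f M) (l : J) {S T : Finset {j // j ≠ l}} {r r' : F} (hr : r ≠ 0) (hr' : r' ≠ 0)
    (hS : HasPur hf M (S.map (Function.Embedding.subtype _)) r)
    (hT : HasPur hf M (insert l (T.map (Function.Embedding.subtype _))) r')
    {a b : {j // j ≠ l}} (haS : a ∈ S) (haT : a ∉ T) (hbS : b ∈ S) (hbT : b ∈ T) :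
    ∃ r'', r'' ≠ 0 ∧ HasPur hf M (insert l ((S ∪ T).map (Function.Embedding.subtype _))) r'' := by
  classical
  obtain ⟨c, -, hc0, hcc⟩ := exists_isotropic hf (nondeg_top hf)
    (by rw [finrank_top, Module.finrank_fintype_fun_eq_card, Fintype.card_fin]; omega)
  obtain ⟨d, -, hcd, hdd⟩ := exists_partner hf (nondeg_top hf) Submodule.mem_top hc0 hcc
  have hdc : f d c = 1 := by rw [hf.herm, hcd, map_one]
  have hd0 : d ≠ 0 := fun h => by rw [h, Herm.zero_left hf] at hdc; exact zero_ne_one hdc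
  set M' := M.map (tg l m F).toMonoidHom with hM'
  have hnn : nop hf d ∘ₗ nop hf d = 0 := nop_comp_eq_zero hf hdd
  set SR : ((Rest l m → F) →ₗ[F] Rest l m → F) → Prop := fun Y => Has M' (top Y (nop hf d)) with hSR
  have hSadd : Additive SR := ⟨fun {x y} hx hy => by
      show Has _ (top (x + y) (nop hf d))
      rw [top_add_left]; exact hx.add_top hy hnn, fun {x} hx => by
      show Has _ (top (-x) (nop hf d))
      rw [top_neg_left]
      exact hx.neg (by rw [top_comp, hnn]; exact ext_ten fun u w => by simp [ten_zero_right])⟩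
  have hSinv : ∀ (j : {j // j ≠ l}), ∀ A ∈ preserving (Units.coeHom (Matrix (Fin m) (Fin m) F)) f ⊓
      Geo.specialLinear (Fin m) F, ∀ X, SR X → SR (mvLin (fac j A) ∘ₗ X ∘ₗ mvLin (fac j A)⁻¹) := by
    intro j A hA X hX
    have := hX.conj (show kronGL (fac j A) 1 ∈ M' by
      rw [← tg_fac_other]; exact Subgroup.mem_map_of_mem _ (hG _ A hA))
    rw [conj_top] at this
    show Has M' _
    convert this using 2
    exact LinearMap.ext fun v => by simp
  set P : (Rest l m → F) →ₗ[F] Rest l m → F := Pur hf S (fun _ => c) with hP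
  set Q : (Rest l m → F) →ₗ[F] Rest l m → F := Pur hf T (fun _ => d) with hQ
  have hQmem : SR (r' • Q) := by
    have h1 := hT (extX l d fun _ => d) fun j _ => by
      by_cases h : j = l <;> simp [extX, h, hd0, hdd]
    rw [← pull_pur hf l d T] at h1
    show Has M' (top (r' • Q) (nop hf d))
    rw [has_tg, top_smul_left]
    simpa only [pull_smul] using h1
  obtain ⟨g, hg, hgdev⟩ : Has M' (top (r • P) (LinearMap.id : (Fin m → F) →ₗ[F] Fin m → F)) := by
    rw [has_tg, top_smul_left]
    have h1 := hS (extX l 0 fun _ => c) fun j hj => by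
      obtain ⟨j', -, rfl⟩ := Finset.mem_map.1 hj
      simp [extX, j'.2, hc0, hcc]
    rw [← pull_top_id hf l S] at h1
    simpa only [pull_smul] using h1
  have hPP : P ∘ₗ P = 0 := by
    rw [hP, Pur, loc_comp]
    refine loc_eq_zero _ (j := a) ?_
    simp only [if_pos haS]
    exact nop_comp_eq_zero hf hcc
  have hPQP : P ∘ₗ Q ∘ₗ P = 0 := by
    rw [hP, hQ, Pur, Pur, loc_comp, loc_comp]
    refine loc_eq_zero _ (j := a) ?_
    simp only [if_pos haS, if_neg haT, LinearMap.id_comp]
    exact nop_comp_eq_zero hf hcc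
  set AT : {j // j ≠ l} → ((Fin m → F) →ₗ[F] Fin m → F) := fun j =>
    (if j ∈ S then nop hf c else LinearMap.id) ∘ₗ (if j ∈ T then nop hf d else LinearMap.id) with hAT
  set BT : {j // j ≠ l} → ((Fin m → F) →ₗ[F] Fin m → F) := fun j =>
    (if j ∈ T then nop hf d else LinearMap.id) ∘ₗ (if j ∈ S then nop hf c else LinearMap.id) with hBT
  have hW : SR ((r * r') • Loc AT + (-(r * r')) • Loc BT) := by
    have hconj := Has.conj (M := M') hQmem hg
    have h0 : (r' • Q) = r' • Q := rfl
    have e : top ((r * r') • Loc AT + (-(r * r')) • Loc BT) (nop hf d) =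
        mvLin g ∘ₗ top (r' • Q) (nop hf d) ∘ₗ mvLin g⁻¹ + -top (r' • Q) (nop hf d) := by
      have hginv : ∀ x, mv g⁻¹ x = x - top (r • P) LinearMap.id x := fun x => by
        rw [mv_eq_iff, inv_inv, hgdev, map_sub]
        have : top (r • P) (LinearMap.id : (Fin m → F) →ₗ[F] Fin m → F) (top (r • P) LinearMap.id x) = 0 := by
          have e1 : top (r • P) (LinearMap.id : (Fin m → F) →ₗ[F] Fin m → F) ∘ₗ top (r • P) LinearMap.id = 0 := by
            rw [top_comp, LinearMap.smul_comp, LinearMap.comp_smul, hPP, smul_zero, smul_zero]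
            exact ext_ten fun u w => by simp [ten_zero_left]
          exact LinearMap.congr_fun e1 x
        rw [this]; module
      refine ext_ten fun u w => ?_
      simp only [LinearMap.add_apply, LinearMap.neg_apply, LinearMap.comp_apply, Matrix.toLin'_apply]
      show _ = mv g (top (r' • Q) (nop hf d) (mv g⁻¹ (ten u w))) + -top (r' • Q) (nop hf d) (ten u w)
      rw [hginv, map_sub, mv_sub, hgdev, hgdev]
      have hA : Loc AT = P ∘ₗ Q := by rw [hP, hQ, Pur, Pur, loc_comp]
      have hB : Loc BT = Q ∘ₗ P := by rw [hP, hQ, Pur, Pur, loc_comp]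
      simp only [top_ten, LinearMap.id_apply, hA, hB, LinearMap.add_apply, LinearMap.smul_apply,
        LinearMap.comp_apply, map_smul, ten_smul_left, ten_add_left]
      rw [show P (Q (P u)) = 0 from LinearMap.congr_fun hPQP u, ten_zero_left, smul_zero, smul_zero]
      module
    show Has M' _
    rw [e]
    refine hconj.add (hQmem.neg (by rw [top_comp, hnn]; exact ext_ten fun u w => by simp [ten_zero_right])) ?_
    have hgid : mvLin g = LinearMap.id + top (r • P) (LinearMap.id : (Fin m → F) →ₗ[F] Fin m → F) :=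
      LinearMap.ext fun x => by
        rw [Matrix.toLin'_apply]
        exact hgdev x
    refine ext_ten fun u w => ?_
    simp only [LinearMap.comp_apply, LinearMap.neg_apply, LinearMap.zero_apply, Matrix.toLin'_apply]
    show mv g (top (r' • Q) (nop hf d) (mv g⁻¹ (-top (r' • Q) (nop hf d) (ten u w)))) = 0
    have hcomm : ∀ x, ctr (frow f d) (mv g⁻¹ x) = mvLin (1 : GL (Rest l m) F) (ctr (frow f d) x) -
        (r • P) (ctr (frow f d) x) := by
      intro x
      have e1 : ctr (frow f d) ∘ₗ top (r • P) (LinearMap.id : (Fin m → F) →ₗ[F] Fin m → F) =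
          (r • P) ∘ₗ ctr (frow f d) := ext_ten fun u w => by simp [ctr_ten, smul_smul, mul_comm]
      have hgi : mv g⁻¹ x = x - top (r • P) LinearMap.id x := by
        rw [mv_eq_iff, inv_inv, hgdev, map_sub]
        have : top (r • P) (LinearMap.id : (Fin m → F) →ₗ[F] Fin m → F) ∘ₗ top (r • P) LinearMap.id = 0 := by
          rw [top_comp, LinearMap.smul_comp, LinearMap.comp_smul, hPP, smul_zero, smul_zero]
          exact ext_ten fun u w => by simp [ten_zero_left]
        have h2 := LinearMap.congr_fun this x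
        simp only [LinearMap.comp_apply, LinearMap.zero_apply] at h2
        rw [h2]; module
      rw [hgi, map_sub]
      have := LinearMap.congr_fun e1 x
      simp only [LinearMap.comp_apply] at this
      rw [this]
      simp
    rw [top_nop_apply hf d (r' • Q) (mv g⁻¹ _), hcomm, map_neg, top_ten, ctr_ten, frow_dot hf, nop_apply,
      hf.smul_left, hdd, mul_zero, zero_smul]
    simp [ten_zero_left]
  -- the vectors of compression
  obtain ⟨ρ, hρ⟩ := TensorMax.U.exists_not_fixed hf.ne_refl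
  obtain ⟨y₁, hy₁0, hy₁, hy₁c, hy₁d⟩ := exists_common hm hf hcc hdd hcd ρ
  obtain ⟨y₂, hy₂0, hy₂, hy₂c, hy₂d⟩ := exists_common hm hf hcc hdd hcd 1
  set y : {j // j ≠ l} → Fin m → F := fun j =>
    if j ∈ S then (if j ∈ T then (if j = b then y₁ else y₂) else d) else c with hy
  have hyv : ∀ j ∈ S ∪ T, y j ≠ 0 ∧ f (y j) (y j) = 0 := by
    intro j _
    simp only [hy]
    split_ifs <;> simp [hy₁0, hy₁, hy₂0, hy₂, hd0, hdd, hc0, hcc]
  obtain ⟨r₂, hr₂, hSr₂⟩ := compress_all hm hf hSadd hSinv AT BT _ _ hW y (S ∪ T) hyv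
  have hAv : ∏ j ∈ S ∪ T, f (AT j (y j)) (y j) = ρ := by
    rw [Finset.prod_eq_single b]
    · simp [hAT, hy, hbS, hbT, nop_apply, hf.smul_left, hy₁d, hdc, hf.herm c y₁, hy₁c]
    · intro j hj hjb
      rcases Finset.mem_union.1 hj with h | h <;> by_cases h' : j ∈ S <;> by_cases h'' : j ∈ T <;>
        simp_all [nop_apply, hf.smul_left, hf.herm c y₂]
    · exact fun h => absurd (Finset.mem_union_left _ hbS) h
  have hBv : ∏ j ∈ S ∪ T, f (BT j (y j)) (y j) = σ ρ := by
    rw [Finset.prod_eq_single b]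
    · simp [hBT, hy, hbS, hbT, nop_apply, hf.smul_left, hy₁c, hcd, hf.herm d y₁, hy₁d]
    · intro j hj hjb
      rcases Finset.mem_union.1 hj with h | h <;> by_cases h' : j ∈ S <;> by_cases h'' : j ∈ T <;>
        simp_all [nop_apply, hf.smul_left, hf.herm d y₂]
    · exact fun h => absurd (Finset.mem_union_left _ hbS) h
  rw [hAv, hBv] at hSr₂
  have hpure : ∀ C : {j // j ≠ l} → ((Fin m → F) →ₗ[F] Fin m → F), (∀ j, j ∉ S ∪ T → C j = LinearMap.id) →
      Loc (fun j => if j ∈ S ∪ T then nop hf (y j) else C j) = Pur hf (S ∪ T) y := fun C hC =>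
    loc_congr fun j => by
      by_cases h : j ∈ S ∪ T
      · simp only [if_pos h]
      · simp only [if_neg h, hC j h]
  rw [hpure AT (fun j h => by
      rw [Finset.mem_union, not_or] at h
      simp [hAT, h.1, h.2]),
    hpure BT (fun j h => by
      rw [Finset.mem_union, not_or] at h
      simp [hBT, h.1, h.2]), ← add_smul, smul_smul] at hSr₂
  refine ⟨r₂ * (r * r' * ρ + -(r * r') * σ ρ), ?_, hasPur_of_one hm hf hG
    (x₀ := extX l d y) (fun j hj => ?_) ?_⟩
  · rw [show r * r' * ρ + -(r * r') * σ ρ = r * r' * (ρ - σ ρ) by ring]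
    exact mul_ne_zero hr₂ (mul_ne_zero (mul_ne_zero hr hr') hρ)
  · rcases Finset.mem_insert.1 hj with rfl | hj
    · simp [extX, hd0, hdd]
    · obtain ⟨j', hj', rfl⟩ := Finset.mem_map.1 hj
      simpa [extX, j'.2] using hyv j' hj'
  · have h1 := (has_tg l _).1 hSr₂
    rw [top_smul_left] at h1
    rw [← pull_pur hf l d (S ∪ T) y]
    simpa only [pull_smul] using h1

/-- A pure displacement spreads to all the factors. -/
theorem hasPur_univ (hm : 3 ≤ m) (hf : Geo.IsUnitaryForm σ f) {M : Subgroup (GL (J → Fin m) F)}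
    (hG : FacU σ f M) (hP : PermMem M) (hEX : EX hf M) : ∃ r, r ≠ 0 ∧ HasPur hf M Finset.univ r := by
  classical
  obtain ⟨S₀, x₀, r₀, hS₀, hr₀, hx₀, hH₀⟩ := hEX
  set G := Finset.univ.filter fun S : Finset J => 2 ≤ S.card ∧ ∃ r, r ≠ 0 ∧ HasPur hf M S r with hGdef
  have hne : G.Nonempty := ⟨S₀, Finset.mem_filter.2
    ⟨Finset.mem_univ _, hS₀, r₀, hr₀, hasPur_of_one hm hf hG hx₀ hH₀⟩⟩
  obtain ⟨S, hS, hmax⟩ := G.exists_max_image Finset.card hne
  obtain ⟨-, hS2, r, hr, hSr⟩ := Finset.mem_filter.1 hS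
  rcases eq_or_ne S Finset.univ with rfl | hne'
  · exact ⟨r, hr, hSr⟩
  exfalso
  obtain ⟨b, hb⟩ : ∃ b, b ∉ S := by
    by_contra hcon
    push Not at hcon
    exact hne' (Finset.eq_univ_of_forall hcon)
  obtain ⟨a', ha', a, ha, haa'⟩ := Finset.one_lt_card.1 hS2
  have hba' : a' ≠ b := fun h => hb (h ▸ ha')
  have hba : a ≠ b := fun h => hb (h ▸ ha)
  set π := Equiv.swap a' a * Equiv.swap a' b with hπ
  have hTr := hasPur_map hf hSr (hP a' b a hba' haa' hba.symm)
  have hπb : π a' = b := by simp [hπ, Equiv.swap_apply_of_ne_of_ne hba'.symm hba.symm]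
  have hπa : π a = a' := by simp [hπ, Equiv.swap_apply_of_ne_of_ne (Ne.symm haa') hba]
  have hπb' : π b = a := by simp [hπ]
  set T := S.map π.toEmbedding with hTdef
  have hbT : b ∈ T := Finset.mem_map.2 ⟨a', ha', hπb⟩
  have ha'T : a' ∈ T := Finset.mem_map.2 ⟨a, ha, hπa⟩
  have haT : a ∉ T := fun h => by
    obtain ⟨j, hj, hja⟩ := Finset.mem_map.1 h
    exact hb (π.injective (show π j = π b by rw [hπb']; exact hja) ▸ hj)
  have eS : S = (S.subtype (· ≠ b)).map (Function.Embedding.subtype _) := by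
    ext j
    simp only [Finset.mem_map, Finset.mem_subtype, Function.Embedding.coe_subtype]
    exact ⟨fun h => ⟨⟨j, fun e => hb (e ▸ h)⟩, h, rfl⟩, fun ⟨_, h, e⟩ => e ▸ h⟩
  have eT : T = insert b ((T.subtype (· ≠ b)).map (Function.Embedding.subtype _)) := by
    ext j
    rcases eq_or_ne j b with rfl | hjb
    · simp [hbT]
    · simp only [Finset.mem_insert, hjb, false_or, Finset.mem_map, Finset.mem_subtype,
        Function.Embedding.coe_subtype]
      exact ⟨fun h => ⟨⟨j, hjb⟩, h, rfl⟩, fun ⟨_, h, e⟩ => e ▸ h⟩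
  obtain ⟨r'', hr'', hU⟩ := hasPur_union hm hf hG b (S := S.subtype (· ≠ b)) (T := T.subtype (· ≠ b))
    hr hr (by rw [← eS]; exact hSr) (by rw [← eT]; exact hTr)
    (a := ⟨a, hba⟩) (b := ⟨a', hba'⟩) (Finset.mem_subtype.2 ha) (fun h => haT (Finset.mem_subtype.1 h))
    (Finset.mem_subtype.2 ha') (Finset.mem_subtype.2 ha'T)
  set U := insert b ((S.subtype (· ≠ b) ∪ T.subtype (· ≠ b)).map (Function.Embedding.subtype _))
  have hSU : S ⊂ U := by
    refine Finset.ssubset_iff_subset_ne.2 ⟨fun j hj => ?_, fun h => hb (h ▸ Finset.mem_insert_self b _)⟩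
    exact Finset.mem_insert_of_mem (Finset.mem_map.2 ⟨⟨j, fun e => hb (e ▸ hj)⟩,
      Finset.mem_union_left _ (Finset.mem_subtype.2 hj), rfl⟩)
  have hlt := Finset.card_lt_card hSU
  exact absurd (hmax U (Finset.mem_filter.2 ⟨Finset.mem_univ _, by omega, r'', hr'', hU⟩)) (not_le.2 hlt)

end Cfsg.Agent.UWreath
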