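/-
A pure transvection generates the special unitary group of a tensor power.
-/
import Cfsg.Agent.Lib.UWreath.Grow

set_option autoImplicit false
set_option linter.unusedSectionVars false

namespace Cfsg.Agent.UWreath

open scoped Matrix Kronecker
open Matrix Cfsg.Agent.Transvec Cfsg.Agent.Transvec.Herm Cfsg.Agent.TensorMax Cfsg.Agent.TensorMax.U
open Cfsg.Agent.WreathMax

variable {F : Type*} [Field F] [Finite F] {σ : F ≃+* F}

section Two

variable {α β : Type} [Fintype α] [DecidableEq α] [Fintype β] [DecidableEq β]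
variable {f₁ : (α → F) → (α → F) → F} {f₂ : (β → F) → (β → F) → F} {M : Subgroup (GL (α × β) F)}

/-- Tensors with an isotropic first factor are centres. -/
theorem iso_any' (hβ : 3 ≤ Fintype.card β) (h₁ : Geo.IsUnitaryForm σ f₁) (h₂ : Geo.IsUnitaryForm σ f₂)
    (hMf : M ≤ preserving (Units.coeHom (Matrix (α × β) (α × β) F)) (tf σ f₁ f₂))
    {d e : α → F} (hdd : f₁ d d = 0) (hee : f₁ e e = 0) (hed : f₁ e d = 1)
    (hD : ∀ c, f₂ c c = 0 → ten d c ∈ hCentres (tf_unitary h₁ h₂) M)
    (hE : ∀ c, f₂ c c = 0 → ten e c ∈ hCentres (tf_unitary h₁ h₂) M)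
    (z : β → F) : ten d z ∈ hCentres (tf_unitary h₁ h₂) M := by
  have centre_add' : ∀ {v w : α × β → F}, v ∈ hCentres (tf_unitary h₁ h₂) M →
      w ∈ hCentres (tf_unitary h₁ h₂) M → ∀ {r : F}, tf σ f₁ f₂ v w = r → r ≠ 0 → σ r = -r →
      v + w ∈ hCentres (tf_unitary h₁ h₂) M := by
    intro v w hv hw r hvw hr0 hr
    refine hCentres_add (tf_unitary h₁ h₂) hMf hv hw (hvw ▸ hr0) ?_
    rw [tf_add_left, Herm.add_right (tf_unitary h₁ h₂), Herm.add_right (tf_unitary h₁ h₂), hv.1, hw.1,
      tf_herm h₁ h₂ w v, hvw, hr]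
    ring
  by_cases hzz : f₂ z z = 0
  · exact hD z hzz
  have hde : f₁ d e = 1 := by rw [h₁.herm, hed, map_one]
  have hn := nondeg_span_single h₂ hzz
  have hsum := finrank_orth_add h₂ hn
  rw [finrank_span_single h₂ hzz, Module.finrank_fintype_fun_eq_card] at hsum
  obtain ⟨c, hc, hc0, hcc⟩ := exists_isotropic h₂ (nondeg_orth h₂ hn) (by omega)
  obtain ⟨d₁, hd₁, hcd, hdd₁⟩ := exists_partner h₂ (nondeg_orth h₂ hn) hc hc0 hcc
  have hzc : f₂ z c = 0 := (orth_span_single_mem h₂).1 hc
  have hzd : f₂ z d₁ = 0 := (orth_span_single_mem h₂).1 hd₁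
  obtain ⟨t, ht0, ht⟩ := exists_anti h₂.ne_refl h₂.involutive
  have hN : σ (f₂ z z) = f₂ z z := self_fixed h₂ z
  have hmk : ∀ a : F, ∃ g, f₂ g g = 0 ∧ f₂ c g = t ∧ f₂ z g = σ a * f₂ z z := by
    intro a
    obtain ⟨b₀, hb₀⟩ := exists_trace h₂.ne_refl h₂.involutive 1 (map_one σ)
    obtain ⟨x, hx⟩ : ∃ x, x = b₀ * (-(a * σ a * f₂ z z) / t) := ⟨_, rfl⟩
    refine ⟨a • z + x • c + (-t) • d₁, ?_, ?_, ?_⟩
    · simp only [h₂.add_left, Herm.add_right h₂, h₂.smul_left, Herm.smul_right h₂, hcc, hdd₁, hzc,
        hzd, (f_eq_zero_comm h₂).1 hzc, (f_eq_zero_comm h₂).1 hzd, hcd,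
        show f₂ d₁ c = 1 by rw [h₂.herm, hcd, map_one], hx, map_mul, map_neg, map_div₀, ht,
        h₂.involutive, hN]
      field_simp
      linear_combination (-(a * σ a * f₂ z z) * t ^ 2) * hb₀
    · rw [Herm.add_right h₂, Herm.add_right h₂, Herm.smul_right h₂, Herm.smul_right h₂,
        Herm.smul_right h₂, (f_eq_zero_comm h₂).1 hzc, hcc, hcd, map_neg, ht]
      ring
    · rw [Herm.add_right h₂, Herm.add_right h₂, Herm.smul_right h₂, Herm.smul_right h₂,
        Herm.smul_right h₂, hzc, hzd]
      ring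
  obtain ⟨a, ha⟩ := exists_trace h₂.ne_refl h₂.involutive 1 (map_one σ)
  obtain ⟨c', hc'c', hcc', hzc'⟩ := hmk a
  obtain ⟨g, hgg, hcg, hzg⟩ := hmk (σ (t / f₂ z z))
  rw [h₂.involutive, div_mul_cancel₀ _ hzz] at hzg
  have hk : f₂ (z - c') (z - c') = 0 := by
    rw [Herm.sub_left h₂, Herm.sub_right h₂, Herm.sub_right h₂, hc'c', h₂.herm c' z, hzc',
      map_mul, h₂.involutive, hN]
    linear_combination (-(f₂ z z)) * ha
  have hcg' : f₂ (c + g) (c + g) = 0 := by
    rw [h₂.add_left, Herm.add_right h₂, Herm.add_right h₂, hcc, hgg, h₂.herm g c, hcg, ht]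
    ring
  have hnt : -t ≠ 0 := neg_ne_zero.2 ht0
  have hσnt : σ (-t) = - -t := by rw [map_neg, ht]
  have hck : f₂ c (z - c') = -t := by
    rw [Herm.sub_right h₂, (f_eq_zero_comm h₂).1 hzc, hcc', zero_sub]
  have hA := hE c hcc
  have hB := hD c' hc'c'
  have hK := hD (z - c') hk
  have hG := hE g hgg
  have hS : ten e (-(c + g)) ∈ hCentres (tf_unitary h₁ h₂) M := hE _ (by
    rw [Herm.neg_left h₂, Herm.neg_right h₂, hcg', neg_zero, neg_zero])
  have s1 := centre_add' hA hB (r := t) (by rw [tf_ten h₁ h₂, hed, hcc', one_mul]) ht0 ht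
  have s2 := centre_add' s1 hK (r := -t) (by
    rw [tf_add_left, tf_ten h₁ h₂, tf_ten h₁ h₂, hed, hdd, hck, one_mul, zero_mul, add_zero])
    hnt hσnt
  rw [add_assoc, ← ten_add_right, add_sub_cancel] at s2
  have s3 := centre_add' s2 hG (r := t) (by
    rw [tf_add_left, tf_ten h₁ h₂, tf_ten h₁ h₂, hee, hde, hzg, zero_mul, one_mul, zero_add])
    ht0 ht
  rw [add_right_comm, ← ten_add_right] at s3
  have s4 := centre_add' s3 hS (r := -t) (by
    rw [tf_add_left, tf_ten h₁ h₂, tf_ten h₁ h₂, hee, hde, Herm.neg_right h₂ z,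
      Herm.add_right h₂ z, hzc, hzg, zero_mul, one_mul, zero_add, zero_add])
    hnt hσnt
  rwa [add_right_comm, ← ten_add_right, add_neg_cancel, ten_zero_right, zero_add] at s4

end Two

variable {J : Type} [Fintype J] [DecidableEq J] {m : ℕ} {f : (Fin m → F) → (Fin m → F) → F}

theorem pur_univ_apply (hf : Geo.IsUnitaryForm σ f) (x : J → Fin m → F) (y : (J → Fin m) → F) :
    Pur hf Finset.univ x y = jf σ f y (pten x) • pten x := by
  have e : Pur hf Finset.univ x = (formH (jf_unitary hf J) (pten x)).smulRight (pten x) :=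
    eq_of_pten fun z => by
      rw [Pur, loc_pten, LinearMap.smulRight_apply, formH_apply, jf_pten hf]
      funext a
      simp [pten, Finset.prod_mul_distrib]
  rw [e, LinearMap.smulRight_apply, formH_apply]

theorem zero_centre {ι : Type} [Fintype ι] [DecidableEq ι] {g : (ι → F) → (ι → F) → F}
    (hg : Geo.IsUnitaryForm σ g) (M : Subgroup (GL ι F)) : (0 : ι → F) ∈ hCentres hg M := by
  refine ⟨Herm.zero_left hg _, fun c _ => ?_⟩
  rw [show htv hg 0 (Herm.zero_left hg _) c = 1 from ext_mv fun x => by rw [mv_htv, smul_zero, add_zero, mv_one]]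
  exact M.one_mem

/-- A pure family on all factors gives centres at pure isotropic tensors. -/
theorem centre_of_hasPur (hf : Geo.IsUnitaryForm σ f) [Nonempty J] {M : Subgroup (GL (J → Fin m) F)}
    (hM : M ≤ jIso σ f J) {r : F} (hr : r ≠ 0) (hH : HasPur hf M Finset.univ r) (x : J → Fin m → F)
    (hx : ∀ j, f (x j) (x j) = 0) : pten x ∈ hCentres (jf_unitary hf J) M := by
  classical
  by_cases hx0 : ∃ j, x j = 0
  · obtain ⟨j, hj⟩ := hx0
    rw [show pten x = 0 from funext fun a => Finset.prod_eq_zero (Finset.mem_univ j) (by rw [hj]; rfl)]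
    exact zero_centre _ M
  push Not at hx0
  have hJ := jf_unitary hf J
  have hvv : jf σ f (pten x) (pten x) = 0 := by
    obtain ⟨j⟩ := ‹Nonempty J›
    rw [jf_pten hf]
    exact Finset.prod_eq_zero (Finset.mem_univ j) (hx j)
  have hskew : σ r = -r := by
    obtain ⟨w, hw⟩ := (hJ.nondegenerate _ (pten_ne_zero hx0)).1
    obtain ⟨w', hw'⟩ : ∃ w', jf σ f w' (pten x) = 1 := ⟨(jf σ f w (pten x))⁻¹ • w, by
      rw [hJ.smul_left, inv_mul_cancel₀]
      intro h0
      first
        | exact hw h0
        | exact hw ((f_eq_zero_comm hJ).1 h0)⟩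
    obtain ⟨g, hg, hgx⟩ := hH x fun j _ => ⟨hx0 j, hx j⟩
    have e := mem_jIso.1 (hM hg) w' w'
    rw [hgx, LinearMap.smul_apply, pur_univ_apply hf, hw', one_smul] at e
    simp only [hJ.add_left, Herm.add_right hJ, hJ.smul_left, Herm.smul_right hJ, hvv, hw',
      hJ.herm (pten x) w', map_one, mul_zero, mul_one, add_zero] at e
    linear_combination e
  refine ⟨hvv, fun c hc => ?_⟩
  by_cases hc0 : c = 0
  · rw [hc0, htv_zero]; exact M.one_mem
  obtain ⟨ν, hν⟩ := exists_norm hf.ne_refl hf.involutive (c / r)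
    (by rw [map_div₀, hc, hskew, neg_div_neg_eq])
  have hν0 : ν ≠ 0 := fun h => by
    rw [h, zero_mul] at hν
    exact div_ne_zero hc0 hr hν.symm
  obtain ⟨j₀⟩ := ‹Nonempty J›
  set x' := Function.update x j₀ (ν • x j₀) with hx'
  obtain ⟨g, hg, hgx⟩ := hH x' fun j _ => by
    rcases eq_or_ne j j₀ with rfl | h
    · simp [hx', hx0 j, hν0, hf.smul_left, Herm.smul_right hf, hx j]
    · simp [hx', h, hx0 j, hx j]
  convert hg using 1
  refine ext_mv fun y => ?_
  rw [mv_htv, hgx, LinearMap.smul_apply, pur_univ_apply hf, hx', pten_update_smul, Function.update_eq_self,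
    Herm.smul_right hJ, smul_smul, smul_smul]
  rw [show r * (σ ν * jf σ f y (pten x)) * ν = r * (ν * σ ν) * jf σ f y (pten x) by ring, hν,
    mul_div_cancel₀ c hr]

theorem tg_htv (hf : Geo.IsUnitaryForm σ f) (i : J) (v : (J → Fin m) → F) (hv : jf σ f v v = 0) (c : F) :
    tg i m F (htv (jf_unitary hf J) v hv c) =
      htv (tf_unitary (jf_unitary hf {j // j ≠ i}) hf) (push i v) (by rw [← jf_push]; exact hv) c := by
  refine ext_mv fun y => ?_
  rw [mv_tg', mv_htv, mv_htv, map_add, map_smul, LinearEquiv.apply_symm_apply, jf_push i,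
    LinearEquiv.apply_symm_apply]

theorem centres_tg (hf : Geo.IsUnitaryForm σ f) (i : J) {M : Subgroup (GL (J → Fin m) F)}
    (v : (J → Fin m) → F) :
    push i v ∈ hCentres (tf_unitary (jf_unitary hf {j // j ≠ i}) hf) (M.map (tg i m F).toMonoidHom) ↔
      v ∈ hCentres (jf_unitary hf J) M := by
  constructor
  · rintro ⟨hv, h⟩
    have hv' : jf σ f v v = 0 := by rw [jf_push i]; exact hv
    refine ⟨hv', fun c hc => ?_⟩
    obtain ⟨g, hg, e⟩ := h c hc
    rw [← tg_htv hf i v hv'] at e
    rwa [← (tg i m F).injective e]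
  · rintro ⟨hv, h⟩
    refine ⟨by rw [← jf_push]; exact hv, fun c hc => ?_⟩
    rw [← tg_htv hf i v hv c]
    exact Subgroup.mem_map_of_mem _ (h c hc)

/-- An isometry of a one-factor power is an isometry of the factor. -/
theorem eq_fac_of_single (hf : Geo.IsUnitaryForm σ f) [Unique J] {B : GL (J → Fin m) F}
    (hB : B ∈ jIso σ f J ⊓ Geo.specialLinear (J → Fin m) F) :
    ∃ A ∈ preserving (Units.coeHom (Matrix (Fin m) (Fin m) F)) f ⊓ Geo.specialLinear (Fin m) F,
      B = fac default A := by
  classical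
  set e := Equiv.funUnique J (Fin m) with he
  set A : GL (Fin m) F := Geo.glReindex e B with hA
  have hBy : ∀ y : J → Fin m → F, mv B (pten y) = pten fun _ => mv A (y default) := by
    intro y
    funext a
    simp only [pten, Fintype.prod_unique, mv, Matrix.mulVec, dotProduct]
    refine Fintype.sum_equiv e _ _ fun b => ?_
    show _ = (B : Matrix (J → Fin m) (J → Fin m) F) (e.symm (a default)) (e.symm (e b)) * _
    rw [Equiv.symm_apply_apply, show e.symm (a default) = a from e.injective (by simp [he])]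
    simp [he]
  refine ⟨A, ⟨fun u v => ?_, ?_⟩, ext_pten fun y => ?_⟩
  · show f (mv A u) (mv A v) = f u v
    have := mem_jIso.1 hB.1 (pten fun _ => u) (pten fun _ => v)
    rw [hBy, hBy, jf_pten hf, jf_pten hf, Fintype.prod_unique, Fintype.prod_unique] at this
    exact this
  · show Matrix.GeneralLinearGroup.det A = 1
    refine Eq.trans (Units.ext ?_) (show Matrix.GeneralLinearGroup.det B = 1 from hB.2)
    rw [Matrix.GeneralLinearGroup.val_det_apply, Matrix.GeneralLinearGroup.val_det_apply]
    exact Matrix.det_submatrix_equiv_self e.symm _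
  · rw [hBy, mv_fac]
    refine congrArg pten (funext fun j => ?_)
    obtain rfl := Subsingleton.elim j (default : J)
    simp

/-- The homomorphism B ↦ B ⊗ 1. -/
noncomputable def kronLeft (α β : Type) [Fintype α] [DecidableEq α] [Fintype β] [DecidableEq β]
    (F : Type*) [Field F] : GL α F →* GL (α × β) F where
  toFun B := kronGL B 1
  map_one' := kronGL_one
  map_mul' B B' := by rw [kronGL_mul, mul_one]

/-- Pure isotropic centres make all isotropic vectors centres. -/
theorem centres_all (hm : 3 ≤ m) (hf : Geo.IsUnitaryForm σ f) :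
    ∀ (n : ℕ) (J : Type) [Fintype J] [DecidableEq J], Fintype.card J = n → 1 ≤ n →
    ∀ M : Subgroup (GL (J → Fin m) F), M ≤ jIso σ f J ⊓ Geo.specialLinear (J → Fin m) F → FacU σ f M →
      (∀ x : J → Fin m → F, (∀ j, f (x j) (x j) = 0) → pten x ∈ hCentres (jf_unitary hf J) M) →
      ∀ v, jf σ f v v = 0 → v ∈ hCentres (jf_unitary hf J) M := by
  intro n
  induction n using Nat.strong_induction_on with
  | _ n ih =>
    intro J _ _ hJ hn M hM hG hpure v hv
    classical
    obtain ⟨i⟩ : Nonempty J := Fintype.card_pos_iff.1 (by omega)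
    by_cases h1 : n = 1
    · haveI : Subsingleton J := Fintype.card_le_one_iff_subsingleton.1 (by omega)
      have e : v = pten fun _ : J => (fun k => v fun _ => k) := funext fun a => by
        rw [pten, Fintype.prod_subsingleton _ i]
        exact congrArg v (funext fun q => congrArg a (Subsingleton.elim q i))
      rw [e] at hv ⊢
      rw [jf_pten hf, Fintype.prod_subsingleton _ i] at hv
      exact hpure _ fun _ => hv
    have hcard : Fintype.card {j // j ≠ i} = n - 1 := by
      rw [Fintype.card_subtype_compl, Fintype.card_subtype_eq, hJ]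
    haveI : Nonempty {j // j ≠ i} := Fintype.card_pos_iff.1 (by omega)
    set h₁ := jf_unitary hf {j // j ≠ i}
    set M' := M.map (tg i m F).toMonoidHom with hM'
    have hM'f : M' ≤ preserving (Units.coeHom (Matrix (Rest i m × Fin m) (Rest i m × Fin m) F))
        (tf σ (jf (J := {j // j ≠ i}) σ f) f) ⊓ Geo.specialLinear (Rest i m × Fin m) F := by
      rintro _ ⟨k, hk, rfl⟩
      exact ⟨(mem_jIso_tg i).1 (hM hk).1, by
        show Matrix.GeneralLinearGroup.det _ = 1
        rw [MulEquiv.coe_toMonoidHom, det_tg]; exact (hM hk).2⟩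
    have hpure' : ∀ (y : {j // j ≠ i} → Fin m → F) (c : Fin m → F), (∀ j, f (y j) (y j) = 0) → f c c = 0 →
        ten (pten y) c ∈ hCentres (tf_unitary h₁ hf) M' := by
      intro y c hy hc
      have := (centres_tg hf i _).2 (hpure (extX i c y) fun j => by
        by_cases h : j = i
        · simp [extX, h, hc]
        · simp [extX, h, hy])
      rwa [push_pten, show (fun j : {j // j ≠ i} => extX i c y j) = y from funext fun j => by simp [extX, j.2],
        show extX i c y i = c by simp [extX]] at this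
    obtain ⟨z, -, hzz, hz⟩ := exists_orthonormal hf (Fintype.card (Fin m)) (nondeg_top hf)
      (by rw [finrank_top, Module.finrank_fintype_fun_eq_card])
    set L : Subgroup (GL (Rest i m) F) := M'.comap (kronLeft (Rest i m) (Fin m) F) ⊓
      (jIso σ f {j // j ≠ i} ⊓ Geo.specialLinear (Rest i m) F) with hL
    have hLG : FacU σ f L := fun j A hA => ⟨by
        show kronGL (fac j A) 1 ∈ M'
        rw [← tg_fac_other]
        exact Subgroup.mem_map_of_mem _ (hG _ A hA),
      fac_mem_jIso hf j hA.1, fac_mem_specialLinear j hA.2⟩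
    have hLpure : ∀ y : {j // j ≠ i} → Fin m → F, (∀ j, f (y j) (y j) = 0) →
        pten y ∈ hCentres h₁ L := by
      intro y hy
      by_cases hy0 : ∃ j, y j = 0
      · obtain ⟨j, hj⟩ := hy0
        rw [show pten y = 0 from funext fun a => Finset.prod_eq_zero (Finset.mem_univ j) (by rw [hj]; rfl)]
        exact zero_centre _ _
      push Not at hy0
      choose p hp using fun j => exists_partner hf (nondeg_top hf) Submodule.mem_top (hy0 j) (hy j)
      have hyy : jf σ f (pten y) (pten y) = 0 := by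
        rw [jf_pten hf]
        exact Finset.prod_eq_zero (Finset.mem_univ (Classical.arbitrary _)) (hy _)
      have hpp : jf σ f (pten p) (pten p) = 0 := by
        rw [jf_pten hf]
        exact Finset.prod_eq_zero (Finset.mem_univ (Classical.arbitrary _)) (hp _).2.2
      have hpy : jf σ f (pten p) (pten y) = 1 := by
        rw [jf_pten hf]
        exact Finset.prod_eq_one fun j _ => by rw [hf.herm, (hp j).2.1, map_one]
      have hany : ∀ w : Fin m → F, ten (pten y) w ∈ hCentres (tf_unitary h₁ hf) M' :=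
        iso_any' (by rw [Fintype.card_fin]; exact hm) h₁ hf (fun g hg => (hM'f hg).1) hyy hpp hpy
          (fun c hc => hpure' y c hy hc) (fun c hc => hpure' p c (fun j => (hp j).2.2) hc)
      refine ⟨hyy, fun c hc => ⟨?_, htv_mem h₁ _ hyy hc, htv_mem_specialLinear h₁ _ hyy c⟩⟩
      show kronGL (htv h₁ (pten y) hyy c) 1 ∈ M'
      have hsum : ∀ s : Finset (Fin (Fintype.card (Fin m))),
          Has M' (∑ k ∈ s, c • top (nop h₁ (pten y)) (nop hf (z k))) := by
        intro s
        induction s using Finset.induction with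
        | empty => simpa using has_zero M'
        | insert k s hk ih' =>
          rw [Finset.sum_insert hk]
          refine Has.add ?_ ih' ?_
          · obtain ⟨hvz, hh⟩ := hany (z k)
            refine ⟨_, hh c hc, fun x => ?_⟩
            rw [mv_htv, LinearMap.smul_apply, top_nop_apply, tf_ctr h₁ hf, nop_apply, ten_smul_left,
              smul_smul]
          · refine LinearMap.ext fun x => ?_
            simp only [LinearMap.comp_apply, LinearMap.sum_apply, map_sum, LinearMap.smul_apply, map_smul,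
              LinearMap.zero_apply]
            refine Finset.sum_eq_zero fun l _ => ?_
            have e1 : top (nop h₁ (pten y)) (nop hf (z k)) ∘ₗ top (nop h₁ (pten y)) (nop hf (z l)) = 0 := by
              rw [top_comp, nop_comp_eq_zero h₁ hyy]
              exact ext_ten fun u w => by simp [ten_zero_left]
            have := LinearMap.congr_fun e1 x
            rw [LinearMap.comp_apply, LinearMap.zero_apply] at this
            rw [this, smul_zero, smul_zero]
      obtain ⟨g, hg, hgx⟩ := hsum Finset.univ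
      convert hg using 1
      refine Units.ext (Matrix.toLin'.injective (ext_ten fun u w => ?_))
      rw [Matrix.toLin'_apply, Matrix.toLin'_apply]
      show mv (kronGL (htv h₁ (pten y) hyy c) 1) (ten u w) = mv g (ten u w)
      rw [mv_kronGL, mv_one, mv_htv, hgx, LinearMap.sum_apply, ten_add_left, ten_smul_left, mul_smul]
      congr 1
      simp only [LinearMap.smul_apply, top_ten, nop_apply]
      rw [← Finset.smul_sum]
      congr 1
      rw [← ten_smul_left]
      conv_lhs => rw [hz w Submodule.mem_top]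
      exact map_sum (lam _) _ _
    have hmemU : ∀ B ∈ jIso σ f {j // j ≠ i} ⊓ Geo.specialLinear (Rest i m) F, kronGL B 1 ∈ M' := by
      intro B hB
      by_cases h2 : n - 1 = 1
      · haveI : Subsingleton {j // j ≠ i} := Fintype.card_le_one_iff_subsingleton.1 (by omega)
        letI : Unique {j // j ≠ i} := uniqueOfSubsingleton (Classical.arbitrary _)
        obtain ⟨A, hA, rfl⟩ := eq_fac_of_single hf hB
        rw [← tg_fac_other]
        exact Subgroup.mem_map_of_mem _ (hG _ A hA)
      · have hc4 : 4 ≤ Fintype.card (Rest i m) := by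
          simp only [Fintype.card_fun, Fintype.card_fin, hcard]
          have := Nat.pow_le_pow_left hm (n - 1)
          have := Nat.pow_le_pow_right (by norm_num : 1 ≤ 3) (by omega : 2 ≤ n - 1)
          omega
        have hLc := ih (n - 1) (by omega) {j // j ≠ i} hcard (by omega) L inf_le_right hLG hLpure
        exact (su_le h₁ (fun u hu c hc => (hLc u hu).2 c hc) (Or.inr hc4) hB).1
    have hC : Ctx σ (jf (J := {j // j ≠ i}) σ f) f M' :=
      ⟨h₁, hf, hM'f, fun A hA => (show kronGL A (1 : GL (Fin m) F) = TensorMax.U.kr A 1 from Units.ext rfl) ▸ hmemU A hA,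
        fun B hB => (show kronGL 1 B = TensorMax.U.kr (1 : GL (Rest i m) F) B from Units.ext rfl) ▸
          ((tg_fac i B).symm ▸ Subgroup.mem_map_of_mem _ (hG i B hB))⟩
    obtain ⟨c₀, -, hc₀0, hc₀⟩ := exists_isotropic hf (nondeg_top hf)
      (by rw [finrank_top, Module.finrank_fintype_fun_eq_card, Fintype.card_fin]; omega)
    have hα : 2 ≤ Fintype.card (Rest i m) := by
      simp only [Fintype.card_fun, Fintype.card_fin, hcard]
      exact le_trans (by omega) (Nat.le_self_pow (by omega) m)
    rw [← centres_tg hf i]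
    exact all_centres_any hα (by rw [Fintype.card_fin]; exact hm) hC
      (e₀ := pten fun _ : {j // j ≠ i} => c₀) (c₀ := c₀) (pten_ne_zero fun _ => hc₀0) hc₀0
      (by rw [jf_pten hf]; exact Finset.prod_eq_zero (Finset.mem_univ (Classical.arbitrary _)) hc₀)
      hc₀ (hpure' _ _ (fun _ => hc₀) hc₀) (push i v) (by rw [← jf_push]; exact hv)

/-- A pure displacement on two or more factors yields the special unitary group. -/
theorem su_le_of_ex (hm : 3 ≤ m) (hf : Geo.IsUnitaryForm σ f) {M : Subgroup (GL (J → Fin m) F)}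
    (hM : M ≤ jIso σ f J ⊓ Geo.specialLinear (J → Fin m) F) (hG : FacU σ f M) (hP : PermMem M)
    (hEX : EX hf M) : jIso σ f J ⊓ Geo.specialLinear (J → Fin m) F ≤ M := by
  have h2 : 2 ≤ Fintype.card J := by
    obtain ⟨S, -, -, hS, -⟩ := hEX
    exact hS.trans S.card_le_univ
  haveI : Nonempty J := Fintype.card_pos_iff.1 (by omega)
  obtain ⟨r, hr, hH⟩ := hasPur_univ hm hf hG hP hEX
  have hc := centres_all hm hf _ J rfl (by omega) M hM hG
    fun x hx => centre_of_hasPur hf (fun g hg => (hM hg).1) hr hH x hx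
  refine su_le (jf_unitary hf J) (fun u hu c hc' => (hc u hu).2 c hc') (Or.inr ?_)
  simp only [Fintype.card_fun, Fintype.card_fin]
  have := Nat.pow_le_pow_left hm (Fintype.card J)
  have := Nat.pow_le_pow_right (by norm_num : 1 ≤ 3) h2
  omega

end Cfsg.Agent.UWreath
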