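/-
A similitude normalising a subgroup with scalar centres that sends one isotropic line to a line is
a Kronecker product.
-/
import Cfsg.Agent.Lib.UWreath.Block

set_option autoImplicit false
set_option linter.unusedSectionVars false

namespace Cfsg.Agent.UWreath

open scoped Matrix Kronecker
open Matrix Cfsg.Agent.Transvec Cfsg.Agent.Transvec.Herm Cfsg.Agent.TensorMax Cfsg.Agent.TensorMax.U
open Cfsg.Agent.WreathMax

variable {α β : Type} [Fintype α] [DecidableEq α] [Fintype β] [DecidableEq β] {F : Type*} [Field F]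
variable {σ : F ≃+* F} {f₁ : (α → F) → (α → F) → F} {f₂ : (β → F) → (β → F) → F}
variable {M M' : Subgroup (GL (α × β) F)}

theorem exists_norm_fixed_ne [Finite F] (hne : σ ≠ RingEquiv.refl F) (hinv : ∀ a, σ (σ a) = a)
    (h : Nat.card (fixedField σ) ≠ 2) : ∃ μ : F, μ ≠ 0 ∧ μ * σ μ ≠ 1 := by
  classical
  haveI := Fintype.ofFinite F
  obtain ⟨k, hk0, hk1⟩ : ∃ k : fixedField σ, k ≠ 0 ∧ k ≠ 1 := by
    by_contra hcon
    push Not at hcon
    have h2 : 2 ≤ Nat.card (fixedField σ) := Finite.one_lt_card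
    rw [Nat.card_eq_fintype_card] at h h2
    have : (Finset.univ : Finset (fixedField σ)) ⊆ {0, 1} := fun k _ => by
      by_cases hk : k = 0
      · simp [hk]
      · simp [hcon k hk]
    have := Finset.card_le_card this
    rw [Finset.card_univ] at this
    have := this.trans Finset.card_le_two
    omega
  obtain ⟨μ, hμ⟩ := exists_norm hne hinv (k : F) k.2
  refine ⟨μ, fun h0 => hk0 (Subtype.ext ?_), fun h1 => hk1 (Subtype.ext ?_)⟩
  · rw [h0, zero_mul] at hμ; exact hμ.symm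
  · rw [h1] at hμ; exact hμ.symm

/-- A similitude normalising M sending one isotropic line to a line is a Kronecker product. -/
theorem kron_of_stab [Finite F] [Nonempty α] (hm : 3 ≤ Fintype.card β) (C : Pre σ f₁ f₂ M)
    (C' : Pre σ f₁ f₂ M') (hC' : CentreScalar σ f₂ M')
    (hq : 4 ≤ Fintype.card β ∨ Nat.card (fixedField σ) ≠ 2) {g : GL (α × β) F} {τ : F} (hτ0 : τ ≠ 0)
    (hsim : ∀ x y, tf σ f₁ f₂ (mv g x) (mv g y) = τ * tf σ f₁ f₂ x y)
    (hnorm : ∀ h ∈ M, g * h * g⁻¹ ∈ M') {c c' : β → F} (hc : c ≠ 0) (hiso : f₂ c c = 0)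
    (hc' : c' ≠ 0) (hiso' : f₂ c' c' = 0) (hline : ∀ u, mv g (ten u c) ∈ line α c') : IsKron g := by
  classical
  obtain ⟨d, hdd, hcd, hdc⟩ := exists_norm_d C hc hiso
  obtain ⟨d', hdd', hcd', hdc'⟩ := exists_norm_d C' hc' hiso'
  obtain ⟨θ, hθ⟩ := exists_dot_one hc'
  -- the first factor
  set B : (α → F) →ₗ[F] α → F := (ctr θ).comp ((mvLin g).comp (rho c)) with hBdef
  have hB : ∀ u, mv g (ten u c) = ten (B u) c' := fun u => by
    obtain ⟨v, hv⟩ := mem_line.1 (hline u)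
    have : B u = v := by
      show ctr θ (mvLin g (rho c u)) = v
      rw [rho_apply, Matrix.toLin'_apply]
      show ctr θ (mv g _) = v
      rw [← hv, ctr_ten, hθ, one_smul]
    rw [this, hv]
  have hBinj : Function.Injective B := by
    rw [← LinearMap.ker_eq_bot, LinearMap.ker_eq_bot']
    intro u hu
    by_contra hu0
    have := hB u
    rw [hu, ten_zero_left] at this
    exact ten_ne_zero hu0 hc (mv_inj g (this.trans (mv_zero g).symm))
  have hBsurj : Function.Surjective B := LinearMap.surjective_of_injective hBinj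
  -- contraction by c' of images
  obtain ⟨s, hs0, hs⟩ := exists_anti C.h₂.ne_refl C.h₂.involutive
  have hperp : ∀ x, ctr (frow f₂ c') x = 0 → ctr (frow f₂ c) (mv g⁻¹ x) = 0 := by
    intro x hx
    refine eq_zero_of_orth₁ C fun v => mul_left_cancel₀ hτ0 ?_
    rw [mul_zero, ← tf_ctr C.h₁ C.h₂, ← hsim, mv_mv_inv, hB, tf_ctr C.h₁ C.h₂, hx, Herm.zero_left C.h₁]
  obtain ⟨ρ, hρ0, hρ⟩ : ∃ ρ : F, ρ ≠ 0 ∧ ∀ x, ctr (frow f₂ c') (mv g x) = ρ • B (ctr (frow f₂ c) x) := by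
    obtain ⟨s', -, hs'⟩ := hC' c' hc' hiso' _ (hnorm _ (htv_mem_pre C c hiso hs)) fun x hx => by
      rw [mv_mul, mv_mul, mv_kronGL_htv C, hperp x hx, ten_zero_left, smul_zero, add_zero, mv_mv_inv]
    have hkey : ∀ x, s • B (ctr (frow f₂ c) x) = s' • ctr (frow f₂ c') (mv g x) := by
      intro x
      have e := hs' (mv g x)
      rw [mv_mul, mv_mul, mv_inv_mv, mv_kronGL_htv C, mv_add, mv_smul, hB, add_right_inj,
        ← ten_smul_left, ← ten_smul_left] at e
      exact rho_injective hc' e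
    have hs'0 : s' ≠ 0 := fun h => by
      obtain ⟨i₀⟩ := ‹Nonempty α›
      have e := hkey (ten (Pi.single i₀ 1) d)
      rw [h, zero_smul, ctr_ten, frow_dot C.h₂, hdc, one_smul, smul_eq_zero] at e
      exact (by simp : (Pi.single i₀ (1 : F) : α → F) ≠ 0)
        (hBinj ((e.resolve_left hs0).trans (map_zero B).symm))
    exact ⟨s'⁻¹ * s, mul_ne_zero (inv_ne_zero hs'0) hs0, fun x => by
      rw [mul_smul, hkey, smul_smul, inv_mul_cancel₀ hs'0, one_smul]⟩
  obtain ⟨i₀⟩ := ‹Nonempty α›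
  set u₀ : α → F := Pi.single i₀ 1 with hu₀def
  have hu₀ : u₀ ≠ 0 := by simp [u₀]
  obtain ⟨ξ, hξ⟩ := exists_dot_one (c := B u₀) fun h => hu₀ (hBinj (h.trans (map_zero B).symm))
  -- the form on the first factor
  have hfB : ∀ u u', ρ * f₁ (B u) (B u') = τ * f₁ u u' := by
    intro u u'
    have e := hsim (ten u d) (ten u' c)
    rw [hB, tf_ctr C.h₁ C.h₂, hρ, ctr_ten, frow_dot C.h₂, hdc, one_smul, C.h₁.smul_left,
      tf_ten C.h₁ C.h₂, hdc, mul_one] at e
    exact e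
  obtain ⟨w₀, hw₀⟩ : ∃ w, f₁ u₀ w ≠ 0 := by
    by_contra hcon
    push Not at hcon
    exact hu₀ (eq_zero_of_orth₁ C hcon)
  have hτσ : σ τ = τ := by
    obtain ⟨j, hj⟩ : ∃ j, f₁ u₀ j = 1 := ⟨σ (f₁ u₀ w₀)⁻¹ • w₀, by
      rw [Herm.smul_right C.h₁, C.h₁.involutive, inv_mul_cancel₀ hw₀]⟩
    have e1 := hsim (ten u₀ d) (ten j c)
    have e2 := hsim (ten j c) (ten u₀ d)
    rw [C.hf.herm, e1, tf_ten C.h₁ C.h₂, tf_ten C.h₁ C.h₂, hdc, hcd, hj, C.h₁.herm j u₀, hj] at e2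
    simpa using e2
  have hρσ : σ ρ = ρ := by
    have e1 := congrArg σ (hfB u₀ w₀)
    have e2 := hfB w₀ u₀
    rw [map_mul, map_mul, ← C.h₁.herm, ← C.h₁.herm, hτσ, ← e2] at e1
    refine mul_right_cancel₀ (fun h => ?_) e1
    rw [h, mul_zero] at e2
    rw [C.h₁.herm] at hw₀
    exact hw₀ (by rw [(mul_eq_zero.1 e2.symm).resolve_left hτ0, map_zero])
  -- the images of the orthogonal of c
  set q : (α → F) →ₗ[F] α × β → F := (mvLin g).comp (rho d) - ρ • ((rho d').comp B) with hqdef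
  have hgd : ∀ u, mv g (ten u d) = ρ • ten (B u) d' + q u := fun u => by
    simp [q, mv]
  have hqperp : ∀ u, ctr (frow f₂ c') (q u) = 0 := fun u => by
    have e := congrArg (ctr (frow f₂ c')) (hgd u)
    rw [hρ, ctr_ten, frow_dot C.h₂, hdc, one_smul, map_add, map_smul, ctr_ten, frow_dot C.h₂, hdc',
      one_smul] at e
    exact add_left_cancel (e.symm.trans (add_zero _).symm)
  have hstep : ∀ v, f₂ v c = 0 → ∃ (w : β → F) (κ : F), f₂ w c' = 0 ∧ ∀ u,
      mv g (ten u v) = ten (B u) w + ten (-(σ ρ)⁻¹ • ctr (frow f₂ w) (q u) - κ • B u) c' := by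
    intro v hv
    obtain ⟨l, hl⟩ := exists_trace_neg C v
    obtain ⟨E, hE, -, hEx⟩ := exists_shear C hiso hv hl
    obtain ⟨E', hE'⟩ : ∃ E', E' = g * E * g⁻¹ := ⟨_, rfl⟩
    have hE'M : E' ∈ M' := hE' ▸ hnorm E hE
    have hEc : ∀ u, mv E (ten u c) = ten u c := fun u => by
      rw [hEx, ctr_ten, ctr_ten, frow_dot C.h₂, frow_dot C.h₂, hiso, (f_eq_zero_comm C.h₂).1 hv]
      simp [ten_zero_left]
    have hfix : ∀ u, mv E' (ten u c') = ten u c' := fun u => by
      obtain ⟨u', rfl⟩ := hBsurj u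
      rw [hE', mv_mul, mv_mul, ← hB, mv_inv_mv, hEc]
    have hmid : ∀ x, ctr (frow f₂ c') x = 0 → mv E' x - x ∈ line α c' := fun x hx => by
      rw [hE', mv_mul, mv_mul]
      conv in _ - x => rw [← mv_mv_inv g x]
      rw [mv_inv_mv, ← mv_sub, hEx, hperp x hx]
      simp only [ten_zero_left, add_zero, smul_zero, zero_sub, add_sub_cancel_left, hB]
      exact ten_mem_line _ _
    obtain ⟨A, hA⟩ := shear_of_mid C' hC' hc' hiso' hE'M hfix hmid
    have hAiso : ∀ y y', f₂ (mv A y) (mv A y') = f₂ y y' := by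
      intro y y'
      have e := C'.iso hE'M (ten u₀ y) (ten w₀ y')
      rw [hA, mv_kronGL, mv_kronGL, mv_one, mv_one, tf_ten C.h₁ C.h₂, tf_ten C.h₁ C.h₂] at e
      exact mul_left_cancel₀ hw₀ e
    have hAc : mv A c' = c' := by
      have e := congrArg (ctrL u₀) (hfix u₀)
      rwa [hA, mv_kronGL, mv_one, ctrL_ten, ctrL_ten, show u₀ ⬝ᵥ u₀ = 1 by simp [u₀], one_smul,
        one_smul] at e
    have hAperp : ∀ y, f₂ y c' = 0 → ∃ a : F, mv A y - y = a • c' := by
      intro y hy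
      obtain ⟨r, hr⟩ := mem_line.1 (hmid (ten u₀ y) (by rw [ctr_ten, frow_dot C.h₂, hy, zero_smul]))
      have e := congrArg (ctrL u₀) hr
      rw [hA, mv_kronGL, mv_one, map_sub, ctrL_ten, ctrL_ten, ctrL_ten,
        show u₀ ⬝ᵥ u₀ = 1 by simp [u₀], one_smul, one_smul] at e
      exact ⟨_, e.symm⟩
    obtain ⟨w, hw⟩ : ∃ w, w = ρ • (mv A d' - d') := ⟨_, rfl⟩
    have hwc : f₂ w c' = 0 := by
      rw [hw, C.h₂.smul_left, Herm.sub_left C.h₂]
      have := hAiso d' c'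
      rw [hAc] at this
      rw [this, sub_self, mul_zero]
    have hAq : ∀ u, mv E' (q u) = q u + ten (-(σ ρ)⁻¹ • ctr (frow f₂ w) (q u)) c' := by
      intro u
      obtain ⟨r, hr⟩ := mem_line.1 (hmid (q u) (hqperp u))
      rw [eq_add_of_sub_eq hr.symm, add_comm]
      congr 2
      have e : ∀ r', f₁ r r' = f₁ (-(σ ρ)⁻¹ • ctr (frow f₂ w) (q u)) r' := by
        intro r'
        have e := C'.iso hE'M (q u) (ten r' d')
        rw [eq_add_of_sub_eq hr.symm, hA, mv_kronGL, mv_one, tf_add_left, tf_ctr C.h₁ C.h₂,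
          tf_ctr C.h₁ C.h₂, tf_ctr C.h₁ C.h₂, ctr_ten, frow_dot C.h₂] at e
        have h1 : f₂ c' (mv A d') = 1 := by
          have := hAiso c' d'
          rwa [hAc, hcd'] at this
        rw [h1, one_smul] at e
        rw [C.h₁.smul_left, hw, frow_smul C.h₂, ctr_smul_vec, LinearMap.smul_apply, C.h₁.smul_left]
        have h2 : frow f₂ (mv A d' - d') = frow f₂ (mv A d') - frow f₂ d' :=
          funext fun k => Herm.sub_right C.h₂ _ _ _
        rw [h2, ctr_sub_vec, LinearMap.sub_apply, Herm.sub_left C.h₁, neg_mul, ← mul_assoc,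
          inv_mul_cancel₀ ((map_ne_zero_iff σ σ.injective).2 hρ0), one_mul]
        linear_combination e
      rw [← sub_eq_zero]
      exact eq_zero_of_orth₁ C fun r' => by rw [Herm.sub_left C.h₁, e, sub_self]
    refine ⟨w, l - f₂ d v, hwc, fun u => ?_⟩
    have e1 : mv E' (mv g (ten u d)) = mv g (mv E (ten u d)) := by
      rw [hE', mv_mul, mv_mul, mv_inv_mv]
    rw [hgd, mv_add, mv_smul, hAq, hA, mv_kronGL, mv_one, hEx, mv_add, mv_add, ctr_ten, ctr_ten,
      frow_dot C.h₂, frow_dot C.h₂, hdc, one_smul, hgd, ← sub_smul, hB, map_smul] at e1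
    rw [hw, ten_smul_right, show ten (B u) (mv A d' - d') = ten (B u) (mv A d') - ten (B u) d' from
      map_sub (lam (B u)) _ _, ← hw, ten_sub_left, ten_smul_left (l - f₂ d v), smul_sub]
    rw [ten_smul_left (l - f₂ d v)] at e1
    linear_combination (norm := module) -e1
  set W : (β → F) →ₗ[F] β → F := (ctrL ξ).comp ((mvLin g).comp (lam u₀)) with hWdef
  have hW : ∀ v, f₂ v c = 0 → ∀ u, mv g (ten u v) = ten (B u) (W v) := by
    intro v hv
    obtain ⟨w, κ, hwc, hw⟩ := hstep v hv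
    obtain ⟨μ, hμ⟩ := TensorMax.U.exists_not_fixed C.h₂.ne_refl
    obtain ⟨w₂, κ₂, hw₂c, hw₂⟩ := hstep (μ • v) (by rw [C.h₂.smul_left, hv, mul_zero])
    obtain ⟨a, ha⟩ : ∃ a : F, w₂ - μ • w = a • c' := by
      have e := hw₂ u₀
      rw [ten_smul_right, mv_smul, hw] at e
      have e' := congrArg (ctrL ξ) e
      simp only [map_add, map_smul, ctrL_ten, hξ, one_smul] at e'
      exact ⟨μ * (ξ ⬝ᵥ (-(σ ρ)⁻¹ • ctr (frow f₂ w) (q u₀) - κ • B u₀)) -
        ξ ⬝ᵥ (-(σ ρ)⁻¹ • ctr (frow f₂ w₂) (q u₀) - κ₂ • B u₀), by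
          linear_combination (norm := module) -e'⟩
    have hlin : ∀ u, ∃ r : F, (σ ρ)⁻¹ • ctr (frow f₂ w) (q u) = r • B u ∧
        r = (μ - σ μ)⁻¹ * (κ₂ - a - μ * κ) := by
      intro u
      refine ⟨_, ?_, rfl⟩
      have e := hw₂ u
      rw [ten_smul_right, mv_smul, hw, eq_add_of_sub_eq ha, frow_add C.h₂, frow_smul C.h₂, frow_smul C.h₂,
        ctr_add_vec, ctr_smul_vec, ctr_smul_vec, LinearMap.add_apply, LinearMap.smul_apply,
        LinearMap.smul_apply, hqperp, smul_zero, zero_add, ten_add_right, ten_smul_right, ten_smul_right,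
        smul_add, ← ten_smul_left, ← ten_smul_left, ← ten_smul_left] at e
      have e2 : ten ((μ - σ μ) • ((σ ρ)⁻¹ • ctr (frow f₂ w) (q u)) - (κ₂ - a - μ * κ) • B u) c' =
          (0 : α × β → F) := by
        simp only [ten_sub_left, ten_add_left, ten_smul_left, ten_neg_left, ten_smul_right] at e ⊢
        linear_combination (norm := module) -e
      rw [← ten_zero_left c'] at e2
      rw [mul_smul, ← sub_eq_zero.1 (rho_injective hc' e2), smul_smul, inv_mul_cancel₀ hμ, one_smul]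
    have hform : ∀ u, mv g (ten u v) =
        ten (B u) (w - ((μ - σ μ)⁻¹ * (κ₂ - a - μ * κ) + κ) • c') := by
      intro u
      obtain ⟨r, hr, hr'⟩ := hlin u
      rw [hw, neg_smul, hr, hr', show ten (B u) (w - ((μ - σ μ)⁻¹ * (κ₂ - a - μ * κ) + κ) • c') =
        ten (B u) w - ten (B u) (((μ - σ μ)⁻¹ * (κ₂ - a - μ * κ) + κ) • c') from map_sub (lam (B u)) _ _,
        ten_smul_right, ten_sub_left, ten_neg_left, ten_smul_left, ten_smul_left]
      module
    intro u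
    rw [hform u, show W v = w - ((μ - σ μ)⁻¹ * (κ₂ - a - μ * κ) + κ) • c' from by
      show ctrL ξ (mvLin g (lam u₀ v)) = _
      rw [lam_apply, Matrix.toLin'_apply]
      show ctrL ξ (mv g _) = _
      rw [hform, ctrL_ten, hξ, one_smul]]
  have hWc : W c = c' := by
    show ctrL ξ (mvLin g (lam u₀ c)) = _
    rw [lam_apply, Matrix.toLin'_apply]
    show ctrL ξ (mv g _) = _
    rw [hB, ctrL_ten, hξ, one_smul]
  have hBu₀ : B u₀ ≠ 0 := fun h => hu₀ (hBinj (h.trans (map_zero B).symm))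
  have hWperp : ∀ v, f₂ v c = 0 → f₂ (W v) c' = 0 := fun v hv => by
    have e := hρ (ten u₀ v)
    rw [hW v hv, ctr_ten, ctr_ten, frow_dot C.h₂, frow_dot C.h₂, hv, zero_smul, map_zero, smul_zero,
      smul_eq_zero] at e
    exact e.resolve_right hBu₀
  have hWinj : ∀ v, f₂ v c = 0 → W v = 0 → v = 0 := fun v hv h => by
    by_contra h0
    have e := hW v hv u₀
    rw [h, ten_zero_right] at e
    exact ten_ne_zero hu₀ h0 (mv_inj g (e.trans (mv_zero g).symm))
  set π : (β → F) →ₗ[F] β → F := LinearMap.id - (formH C.h₂ c).smulRight d with hπdef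
  have hπ : ∀ y, f₂ (π y) c = 0 := fun y => by
    simp [π, formH_apply, Herm.sub_left C.h₂, C.h₂.smul_left, hdc]
  have hπy : ∀ y, π y + f₂ y c • d = y := fun y => by simp [π, formH_apply]
  have hWsurj : ∀ w, f₂ w c' = 0 → ∃ v, f₂ v c = 0 ∧ W v = w := by
    intro w hw
    have hinj : Function.Injective (W ∘ₗ π + (formH C.h₂ c).smulRight d') := by
      rw [← LinearMap.ker_eq_bot, LinearMap.ker_eq_bot']
      intro y hy
      have e : W (π y) + f₂ y c • d' = 0 := hy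
      have h1 : f₂ y c = 0 := by
        have := congrArg (fun z => f₂ z c') e
        simpa [C.h₂.add_left, C.h₂.smul_left, hWperp _ (hπ y), hdc', Herm.zero_left C.h₂] using this
      rw [h1, zero_smul, add_zero] at e
      rw [← hπy y, h1, zero_smul, add_zero, hWinj _ (hπ y) e]
    obtain ⟨y, hy⟩ := LinearMap.surjective_of_injective hinj w
    have e : W (π y) + f₂ y c • d' = w := hy
    have h1 : f₂ y c = 0 := by
      have := congrArg (fun z => f₂ z c') e
      simpa [C.h₂.add_left, C.h₂.smul_left, hWperp _ (hπ y), hdc', hw] using this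
    exact ⟨π y, hπ y, by rw [← e, h1, zero_smul, add_zero]⟩
  -- the image of u ⊗ d
  have hk : ∀ v, f₂ v c = 0 → ∀ u,
      ctr (frow f₂ (W v)) (q u) = (ρ * (f₂ d v - f₂ d' (W v))) • B u := by
    intro v hv u
    rw [← sub_eq_zero]
    refine eq_zero_of_orth₁ C fun r => ?_
    obtain ⟨u', rfl⟩ := hBsurj r
    have e := hsim (ten u d) (ten u' v)
    rw [hW v hv, tf_ctr C.h₁ C.h₂, hgd, map_add, map_smul, ctr_ten, frow_dot C.h₂, C.h₁.add_left,
      C.h₁.smul_left, C.h₁.smul_left, tf_ten C.h₁ C.h₂] at e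
    rw [Herm.sub_left C.h₁, C.h₁.smul_left]
    linear_combination e - f₂ d v * hfB u u'
  obtain ⟨x₀, hx₀⟩ : ∃ x₀, x₀ = ctrL ξ (q u₀) := ⟨_, rfl⟩
  have hx₀c : f₂ x₀ c' = 0 := by
    rw [← frow_dot C.h₂, hx₀, dot_ctrL, hqperp, dotProduct_zero]
  have hx₀W : ∀ v, f₂ v c = 0 → f₂ x₀ (W v) = ρ * (f₂ d v - f₂ d' (W v)) := fun v hv => by
    rw [← frow_dot C.h₂, hx₀, dot_ctrL, hk v hv, dotProduct_smul, hξ, smul_eq_mul, mul_one]
  obtain ⟨z, hz⟩ : ∃ z, z = ρ • d' + x₀ := ⟨_, rfl⟩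
  obtain ⟨b, hb⟩ := exists_trace C.h₂.ne_refl C.h₂.involutive (-f₂ z z)
    (by rw [map_neg, self_fixed C.h₂])
  obtain ⟨ε, hε⟩ : ∃ ε, ε = b / ρ := ⟨_, rfl⟩
  obtain ⟨Ad, hAd⟩ : ∃ Ad, Ad = z + ε • c' := ⟨_, rfl⟩
  have hAdc : f₂ Ad c' = ρ := by
    rw [hAd, hz, C.h₂.add_left, C.h₂.add_left, C.h₂.smul_left, C.h₂.smul_left, hdc', hiso', hx₀c]
    ring
  have hc'z : f₂ c' z = ρ := by
    rw [C.h₂.herm, hz, C.h₂.add_left, C.h₂.smul_left, hdc', hx₀c, mul_one, add_zero, hρσ]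
  have hAdd : f₂ Ad Ad = 0 := by
    have hzc : f₂ z c' = ρ := by rw [C.h₂.herm, hc'z, hρσ]
    rw [hAd, C.h₂.add_left, Herm.add_right C.h₂, Herm.add_right C.h₂, C.h₂.smul_left, C.h₂.smul_left,
      Herm.smul_right C.h₂, Herm.smul_right C.h₂, hzc, hc'z, hiso', hε, map_div₀, hρσ,
      div_mul_cancel₀ _ hρ0, div_mul_cancel₀ _ hρ0]
    linear_combination hb
  have hWW : ∀ v v', f₂ v c = 0 → f₂ v' c = 0 → f₂ (W v) (W v') = ρ * f₂ v v' := by
    intro v v' hv hv'
    obtain ⟨r, hr⟩ : ∃ r, f₁ (B u₀) (B r) ≠ 0 := by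
      by_contra hcon
      push Not at hcon
      exact hBu₀ (eq_zero_of_orth₁ C fun r => by obtain ⟨r', rfl⟩ := hBsurj r; exact hcon r')
    have e := hsim (ten u₀ v) (ten r v')
    rw [hW v hv, hW v' hv', tf_ten C.h₁ C.h₂, tf_ten C.h₁ C.h₂] at e
    refine mul_left_cancel₀ hr ?_
    linear_combination e - f₂ v v' * hfB u₀ r
  set Af : (β → F) →ₗ[F] β → F := W ∘ₗ π + (formH C.h₂ c).smulRight Ad with hAfdef
  have hAf : ∀ y, Af y = W (π y) + f₂ y c • Ad := fun y => rfl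
  have hAfinj : Function.Injective Af := by
    rw [← LinearMap.ker_eq_bot, LinearMap.ker_eq_bot']
    intro y hy
    rw [hAf] at hy
    have h1 : f₂ y c = 0 := by
      have := congrArg (fun z => f₂ z c') hy
      simpa [C.h₂.add_left, C.h₂.smul_left, hWperp _ (hπ y), hAdc, Herm.zero_left C.h₂, hρ0] using this
    rw [h1, zero_smul, add_zero] at hy
    rw [← hπy y, h1, zero_smul, add_zero, hWinj _ (hπ y) hy]
  obtain ⟨A, hA⟩ := exists_gl_of_injective Af hAfinj
  obtain ⟨Bg, hBg⟩ := exists_gl_of_injective B hBinj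
  have hAdW : ∀ v, f₂ v c = 0 → f₂ Ad (W v) = ρ * f₂ d v := fun v hv => by
    rw [hAd, hz, C.h₂.add_left, C.h₂.add_left, C.h₂.smul_left, C.h₂.smul_left, hx₀W v hv,
      (f_eq_zero_comm C.h₂).1 (hWperp v hv)]
    ring
  have hAsim : ∀ y y', f₂ (mv A y) (mv A y') = ρ * f₂ y y' := by
    intro y y'
    have h3 : f₂ (W (π y)) Ad = ρ * f₂ (π y) d := by
      rw [C.h₂.herm, hAdW _ (hπ y), map_mul, hρσ, ← C.h₂.herm]
    conv_rhs => rw [← hπy y, ← hπy y']
    rw [hA, hA, hAf, hAf, C.h₂.add_left, Herm.add_right C.h₂, Herm.add_right C.h₂, C.h₂.smul_left,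
      C.h₂.smul_left, Herm.smul_right C.h₂, Herm.smul_right C.h₂, hWW _ _ (hπ y) (hπ y'), h3,
      hAdW _ (hπ y'), hAdd, C.h₂.add_left, Herm.add_right C.h₂, Herm.add_right C.h₂, C.h₂.smul_left,
      C.h₂.smul_left, Herm.smul_right C.h₂, Herm.smul_right C.h₂, hdd]
    ring
  have hAc : mv A c = c' := by
    rw [hA, hAf, hiso, zero_smul, add_zero,
      show π c = c by simp [π, formH_apply, hiso], hWc]
  -- the coefficient of the residual shear
  have hqline : ∀ u, q u - ten (B u) x₀ ∈ line α c' := by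
    intro u
    refine mem_line_of_ctr hc' fun φ hφ => ?_
    obtain ⟨w, rfl⟩ := frow_surj C.h₂ φ
    rw [frow_dot C.h₂] at hφ
    obtain ⟨v, hv, rfl⟩ := hWsurj w ((f_eq_zero_comm C.h₂).1 hφ)
    rw [map_sub, hk v hv, ctr_ten, frow_dot C.h₂, hx₀W v hv, sub_self]
  set Y : (α → F) →ₗ[F] α → F :=
    mvLin Bg⁻¹ ∘ₗ ((ctr θ).comp (q - (rho x₀).comp B) - ε • B) with hYdef
  have hBY : ∀ u, B (Y u) = ctr θ (q u - ten (B u) x₀) - ε • B u := fun u => by
    rw [← hBg (Y u)]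
    simp [Y, mv]
  set g₀ := kronGL Bg A with hg₀
  have hgY : ∀ u y, mv g (ten u y) = mv g₀ (ten u y + ten (Y u) (f₂ y c • c)) := by
    intro u y
    obtain ⟨r, hr⟩ := mem_line.1 (hqline u)
    have e1 : B (Y u) = r - ε • B u := by rw [hBY, ← hr, ctr_ten, hθ, one_smul]
    rw [mv_add, hg₀, mv_kronGL, mv_kronGL, hBg, hBg, mv_smul, hAc, hA, hAf, e1]
    conv_lhs => rw [← hπy y, ten_add_right, mv_add, hW _ (hπ y), ten_smul_right, mv_smul, hgd,
      eq_add_of_sub_eq hr.symm]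
    rw [hAd, hz]
    simp only [ten_add_right, ten_smul_right, ten_sub_left, ten_smul_left]
    module
  set u₁ := g₀⁻¹ * g with hu₁
  have hu₁mv : ∀ x, mv u₁ x = x + top Y (nop C.h₂ c) x := by
    have e : mvLin u₁ = LinearMap.id + top Y (nop C.h₂ c) := ext_ten fun u y => by
      rw [Matrix.toLin'_apply]
      show mv u₁ (ten u y) = _
      rw [hu₁, mv_mul, hgY, mv_inv_mv]
      simp
    intro x
    have := LinearMap.congr_fun e x
    rwa [Matrix.toLin'_apply] at this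
  -- the conjugated subgroup
  set M'' := M'.map (MulAut.conj g₀⁻¹).toMonoidHom with hM''
  have hg₀inv : ∀ h, g₀ * h * g₀⁻¹ ∈ M' → h ∈ M'' := fun h hh =>
    ⟨g₀ * h * g₀⁻¹, hh, by simp [MulAut.conj_apply, mul_assoc]⟩
  have hmemT : ∀ T ∈ preserving (Units.coeHom (Matrix β β F)) f₂ ⊓ Geo.specialLinear β F,
      kronGL 1 T ∈ M'' := by
    intro T hT
    refine hg₀inv _ ?_
    rw [hg₀, kronGL_inv, kronGL_mul, kronGL_mul, mul_one, mul_inv_cancel]
    refine C'.memW _ ⟨fun x y => ?_, ?_⟩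
    · show f₂ (mv (A * T * A⁻¹) x) (mv (A * T * A⁻¹) y) = f₂ x y
      rw [mv_mul, mv_mul, mv_mul, mv_mul, hAsim, show f₂ (mv T _) (mv T _) = f₂ (mv A⁻¹ x) (mv A⁻¹ y)
        from hT.1 _ _, ← hAsim, mv_mv_inv, mv_mv_inv]
    · show Matrix.GeneralLinearGroup.det (A * T * A⁻¹) = 1
      rw [map_mul, map_mul, show Matrix.GeneralLinearGroup.det T = 1 from hT.2, mul_one, ← map_mul,
        mul_inv_cancel, map_one]
  have hscalar : ∀ Z : (α → F) →ₗ[F] α → F, Has M'' (top Z (nop C.h₂ c)) → ∃ a : F, ∀ u, Z u = a • u := by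
    intro Z hZ
    obtain ⟨h, ⟨h', hh', rfl⟩, hh⟩ := hZ
    have e : dev h' = mvLin g₀ ∘ₗ top Z (nop C.h₂ c) ∘ₗ mvLin g₀⁻¹ := LinearMap.ext fun x => by
      have := congrArg (mv g₀) (hh (mv g₀⁻¹ x))
      simp only [MulEquiv.coe_toMonoidHom, MulAut.conj_apply, inv_inv, mv_mul, mv_mv_inv, mv_add] at this
      rw [dev_apply, this]
      simp [mv]
    rw [hg₀, conj_top, nop_conj C.h₂ hρ0 hAsim, hAc, top_smul_right, ← top_smul_left] at e
    obtain ⟨a, ha⟩ := centre_top C' hC' hc' hiso' (has_iff.2 ⟨h', hh', e⟩)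
    refine ⟨ρ * a, fun u => mv_inj Bg ?_⟩
    have e2 := ha (mv Bg u)
    simp only [LinearMap.smul_apply, LinearMap.comp_apply, Matrix.toLin'_apply] at e2
    change ρ⁻¹ • mv Bg (Z (mv Bg⁻¹ (mv Bg u))) = a • mv Bg u at e2
    rw [mv_inv_mv] at e2
    rw [mv_smul, mul_smul, ← e2, smul_smul, mul_inv_cancel₀ hρ0, one_smul]
  have hZ0 : ∀ x y : β → F, f₂ y x = 0 → ∀ Z Z' : (α → F) →ₗ[F] α → F,
      top Z (nop C.h₂ x) ∘ₗ top Z' (nop C.h₂ y) = 0 := fun x y h Z Z' => by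
    rw [top_comp, nop_comp_eq_zero C.h₂ h]
    exact ext_ten fun u w => by simp [ten_zero_right]
  have hW' : ∀ T ∈ preserving (Units.coeHom (Matrix β β F)) f₂ ⊓ Geo.specialLinear β F,
      f₂ (mv T c) c = 0 → Has M'' (top Y (nop C.h₂ c) - top Y (nop C.h₂ (mv T c))) := by
    intro T hT hTc
    have hT1 : ∀ x y, f₂ (mv T x) (mv T y) = 1 * f₂ x y := fun x y => (hT.1 x y).trans (one_mul _).symm
    refine ⟨u₁ * kronGL 1 T * u₁⁻¹ * (kronGL 1 T)⁻¹, M''.mul_mem (hg₀inv _ ?_) (M''.inv_mem (hmemT T hT)),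
      fun x => ?_⟩
    · rw [hu₁, _root_.mul_inv_rev, inv_inv,
        show g₀ * (g₀⁻¹ * g * kronGL 1 T * (g⁻¹ * g₀)) * g₀⁻¹ = g * kronGL 1 T * g⁻¹ by group]
      exact hnorm _ (C.memW T hT)
    · set x' := mv (kronGL 1 T)⁻¹ x with hx'
      have h1 : mv u₁⁻¹ x' = x' - top Y (nop C.h₂ c) x' := by
        rw [mv_eq_iff, inv_inv, hu₁mv, map_sub]
        have := LinearMap.congr_fun (hZ0 c c hiso Y Y) x'
        simp only [LinearMap.comp_apply, LinearMap.zero_apply] at this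
        rw [this, sub_zero, sub_add_cancel]
      have h2 : mv (kronGL 1 T) (top Y (nop C.h₂ c) x') = top Y (nop C.h₂ (mv T c)) x := by
        have e := conj_top (1 : GL α F) T Y (nop C.h₂ c)
        rw [conj_one_left, nop_conj C.h₂ one_ne_zero hT1, inv_one, one_smul] at e
        rw [← e]
        simp [hx', mv]
      rw [mv_mul, mv_mul, mv_mul, ← hx', h1, mv_sub, h2, hx', mv_mv_inv, mv_sub, hu₁mv, hu₁mv]
      have := LinearMap.congr_fun (hZ0 c (mv T c) hTc Y Y) x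
      simp only [LinearMap.comp_apply, LinearMap.zero_apply] at this
      rw [this, add_zero, LinearMap.sub_apply]
      abel
  -- the coefficient is scalar
  obtain ⟨a, ha⟩ : ∃ a : F, ∀ u, Y u = a • u := by
    by_cases hq2 : Nat.card (fixedField σ) = 2
    · have hb4 : 4 ≤ Fintype.card β := hq.resolve_right (not_not_intro hq2)
      obtain ⟨hn, h2⟩ := nondeg_pair C.h₂ hiso hdd hcd
      have hsum := finrank_orth_add C.h₂ hn
      rw [h2, Module.finrank_fintype_fun_eq_card] at hsum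
      obtain ⟨c₂, hc₂, hc₂0, hc₂iso⟩ := exists_isotropic C.h₂ (nondeg_orth C.h₂ hn) (by omega)
      obtain ⟨d₂, hd₂, hcd₂, hdd₂⟩ := exists_partner C.h₂ (nondeg_orth C.h₂ hn) hc₂ hc₂0 hc₂iso
      have hcc₂ : f₂ c c₂ = 0 := hc₂ c (Submodule.subset_span (Set.mem_insert _ _))
      have hc₂c : f₂ c₂ c = 0 := (f_eq_zero_comm C.h₂).1 hcc₂
      have hd₂c : f₂ d₂ c = 0 := (f_eq_zero_comm C.h₂).1 (hd₂ c (Submodule.subset_span (Set.mem_insert _ _)))
      obtain ⟨T, hT, hTc⟩ := exists_move_su C.h₂ hm hc hc₂0 hiso hc₂iso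
      have hW0 := hW' T hT (by rw [hTc, hc₂c])
      rw [hTc] at hW0
      have hL : ∀ l : F, ∃ L : GL β F, L ∈ preserving (Units.coeHom (Matrix β β F)) f₂ ⊓
          Geo.specialLinear β F ∧ mv L c = c ∧ mv L c₂ = c₂ + l • c := by
        intro l
        obtain ⟨L, hL, hLz⟩ := exists_eichler C.h₂ (y := (-σ l) • d₂) (l := 0) hiso
          (by rw [C.h₂.smul_left, hd₂c, mul_zero])
          (by simp [C.h₂.smul_left, Herm.smul_right C.h₂, Herm.neg_left C.h₂, Herm.neg_right C.h₂, hdd₂])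
        refine ⟨L, hL, ?_, ?_⟩
        · rw [hLz, hiso, Herm.smul_right C.h₂, (f_eq_zero_comm C.h₂).1 hd₂c]
          simp
        · rw [hLz, hc₂c, Herm.smul_right C.h₂, hcd₂, map_neg, C.h₂.involutive]
          simp
      have horth : ∀ a b a' b' : F, f₂ (a • c + b • c₂) (a' • c + b' • c₂) = 0 := fun a b a' b' => by
        simp [C.h₂.add_left, Herm.add_right C.h₂, C.h₂.smul_left, Herm.smul_right C.h₂, hiso, hc₂iso,
          hcc₂, hc₂c]
      have hdiff : ∀ p r, (∃ a b : F, p = a • c + b • c₂) → (∃ a b : F, r = a • c + b • c₂) →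
          ∀ p' r', (∃ a b : F, p' = a • c + b • c₂) → (∃ a b : F, r' = a • c + b • c₂) →
          Has M'' (top Y (nop C.h₂ p - nop C.h₂ r)) → Has M'' (top Y (nop C.h₂ p' - nop C.h₂ r')) →
          Has M'' (top Y ((nop C.h₂ p - nop C.h₂ r) - (nop C.h₂ p' - nop C.h₂ r'))) := by
        rintro p r ⟨a, b, rfl⟩ ⟨a', b', rfl⟩ p' r' ⟨a₂, b₂, rfl⟩ ⟨a₃, b₃, rfl⟩ h h'
        have hz : ∀ x y, (∃ a b : F, x = a • c + b • c₂) → (∃ a b : F, y = a • c + b • c₂) →
            nop C.h₂ x ∘ₗ nop C.h₂ y = 0 := by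
          rintro _ _ ⟨_, _, rfl⟩ ⟨_, _, rfl⟩
          exact nop_comp_eq_zero C.h₂ (horth _ _ _ _)
        have := h.add (h'.neg (by
          rw [top_comp, LinearMap.sub_comp, LinearMap.comp_sub, LinearMap.comp_sub,
            hz _ _ ⟨_, _, rfl⟩ ⟨_, _, rfl⟩, hz _ _ ⟨_, _, rfl⟩ ⟨_, _, rfl⟩,
            hz _ _ ⟨_, _, rfl⟩ ⟨_, _, rfl⟩, hz _ _ ⟨_, _, rfl⟩ ⟨_, _, rfl⟩]
          exact ext_ten fun u w => by simp [ten_zero_right]))
          (by
            rw [LinearMap.comp_neg, top_comp, LinearMap.sub_comp, LinearMap.comp_sub, LinearMap.comp_sub,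
              hz _ _ ⟨_, _, rfl⟩ ⟨_, _, rfl⟩, hz _ _ ⟨_, _, rfl⟩ ⟨_, _, rfl⟩,
              hz _ _ ⟨_, _, rfl⟩ ⟨_, _, rfl⟩, hz _ _ ⟨_, _, rfl⟩ ⟨_, _, rfl⟩]
            exact ext_ten fun u w => by simp [ten_zero_right])
        have e : top Y ((nop C.h₂ (a • c + b • c₂) - nop C.h₂ (a' • c + b' • c₂)) -
            (nop C.h₂ (a₂ • c + b₂ • c₂) - nop C.h₂ (a₃ • c + b₃ • c₂))) =
            top Y (nop C.h₂ (a • c + b • c₂) - nop C.h₂ (a' • c + b' • c₂)) +
            -top Y (nop C.h₂ (a₂ • c + b₂ • c₂) - nop C.h₂ (a₃ • c + b₃ • c₂)) :=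
          ext_ten fun u w => by simp [sub_eq_add_neg, ten_add_right, ← ten_neg_left,
            show ∀ y : β → F, ten (Y u) (-y) = ten (-(Y u)) y from fun y => by
              funext i; simp [ten]]
        rw [e]; exact this
      have hconj : ∀ p r, Has M'' (top Y (nop C.h₂ p - nop C.h₂ r)) → ∀ L ∈
          preserving (Units.coeHom (Matrix β β F)) f₂ ⊓ Geo.specialLinear β F,
          Has M'' (top Y (nop C.h₂ (mv L p) - nop C.h₂ (mv L r))) := by
        intro p r h L hL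
        have := h.conj (hmemT L hL)
        rw [conj_top, conj_one_left, LinearMap.sub_comp, LinearMap.comp_sub,
          nop_conj C.h₂ one_ne_zero (fun x y => (hL.1 x y).trans (one_mul _).symm),
          nop_conj C.h₂ one_ne_zero (fun x y => (hL.1 x y).trans (one_mul _).symm),
          inv_one, one_smul, one_smul] at this
        exact this
      have hspanc : ∃ a b : F, c = a • c + b • c₂ := ⟨1, 0, by simp⟩
      have hspan₂ : ∀ l : F, ∃ a b : F, c₂ + l • c = a • c + b • c₂ := fun l => ⟨l, 1, by module⟩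
      have hspan₂' : ∃ a b : F, c₂ = a • c + b • c₂ := ⟨0, 1, by simp⟩
      have hW0' : Has M'' (top Y (nop C.h₂ c - nop C.h₂ c₂)) := by
        have e : top Y (nop C.h₂ c - nop C.h₂ c₂) = top Y (nop C.h₂ c) - top Y (nop C.h₂ c₂) :=
          ext_ten fun u w => by
            simp only [top_ten, LinearMap.sub_apply]
            exact map_sub (lam (Y u)) _ _
        rw [e]; exact hW0
      obtain ⟨μ, hμ⟩ := exists_trace C.h₂.ne_refl C.h₂.involutive 1 (map_one σ)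
      obtain ⟨L₁, hL₁, hL₁c, hL₁c₂⟩ := hL 1
      obtain ⟨L₂, hL₂, hL₂c, hL₂c₂⟩ := hL μ
      have hD1 := hdiff c (c₂ + (1 : F) • c) hspanc (hspan₂ 1) c c₂ hspanc hspan₂'
        (by have := hconj _ _ hW0' L₁ hL₁; rwa [hL₁c, hL₁c₂] at this) hW0'
      have e1 : nop C.h₂ c - nop C.h₂ (c₂ + (1 : F) • c) - (nop C.h₂ c - nop C.h₂ c₂) =
          nop C.h₂ c₂ - nop C.h₂ (c₂ + (1 : F) • c) := by abel
      rw [e1] at hD1
      have hD1' := hconj _ _ hD1 L₂ hL₂
      rw [hL₂c₂, mv_add, hL₂c₂, mv_smul, hL₂c] at hD1'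
      have hD2 := hdiff _ _ (hspan₂ μ) (by obtain ⟨a, b, h⟩ := hspan₂ (μ + 1); exact ⟨a, b, by
        rw [← h]; module⟩) c₂ (c₂ + (1 : F) • c) hspan₂' (hspan₂ 1) hD1' hD1
      have e2 : nop C.h₂ (c₂ + μ • c) - nop C.h₂ (c₂ + μ • c + (1 : F) • c) -
          (nop C.h₂ c₂ - nop C.h₂ (c₂ + (1 : F) • c)) = (-1 : F) • nop C.h₂ c := by
        refine LinearMap.ext fun y => ?_
        have e : σ μ = 1 - μ := by linear_combination hμ
        simp only [LinearMap.sub_apply, LinearMap.smul_apply, nop_apply, Herm.add_right C.h₂,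
          Herm.smul_right C.h₂, map_one, e]
        module
      rw [e2, top_smul_right, ← top_smul_left] at hD2
      obtain ⟨a, ha⟩ := hscalar _ hD2
      exact ⟨-a, fun u => by
        have := ha u
        rw [LinearMap.smul_apply, neg_one_smul, neg_eq_iff_eq_neg] at this
        rw [this, neg_smul]⟩
    · obtain ⟨μ, hμ0, hμ⟩ := exists_norm_fixed_ne C.h₂.ne_refl C.h₂.involutive hq2
      obtain ⟨T, hT, hTc⟩ := exists_move_su C.h₂ hm hc (smul_ne_zero hμ0 hc) hiso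
        (by rw [C.h₂.smul_left, Herm.smul_right C.h₂, hiso, mul_zero, mul_zero])
      have h1 := hW' T hT (by rw [hTc, C.h₂.smul_left, hiso, mul_zero])
      rw [hTc, nop_smul, top_smul_right, show top Y (nop C.h₂ c) - (μ * σ μ) • top Y (nop C.h₂ c) =
        top ((1 - μ * σ μ) • Y) (nop C.h₂ c) by rw [top_smul_left]; module] at h1
      obtain ⟨a, ha⟩ := hscalar _ h1
      refine ⟨(1 - μ * σ μ)⁻¹ * a, fun u => ?_⟩
      rw [mul_smul, ← ha, LinearMap.smul_apply, smul_smul, inv_mul_cancel₀ (sub_ne_zero.2 (Ne.symm hμ)),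
        one_smul]
  haveI : Nonempty β := Fintype.card_pos_iff.1 (by omega)
  refine isKron_of_ten (Bg : Matrix α α F)
    ((A : Matrix β β F) * LinearMap.toMatrix' (LinearMap.id + a • nop C.h₂ c)) fun u w => ?_
  rw [hgY, ha, hg₀, ten_smul_left, ← ten_smul_right, ← ten_add_right, mv_kronGL,
    ← Matrix.mulVec_mulVec, LinearMap.toMatrix'_mulVec]
  simp [mv]

end Cfsg.Agent.UWreath
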