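/-
Orthogonals of arbitrary subspaces for a unitary form, and those of isotropic lines in a tensor
product.
-/
import Cfsg.Agent.Lib.UWreath.Block
import Cfsg.Agent.Lib.Transvec.HermFrameOddA

set_option autoImplicit false
set_option linter.unusedSectionVars false

namespace Cfsg.Agent.UWreath

open scoped Matrix Kronecker
open Matrix Cfsg.Agent.Transvec Cfsg.Agent.Transvec.Herm Cfsg.Agent.TensorMax Cfsg.Agent.TensorMax.U
open Cfsg.Agent.WreathMax

variable {F : Type*} [Field F] {σ : F ≃+* F}

section General

variable {ι : Type} [Fintype ι] [DecidableEq ι] {f : (ι → F) → (ι → F) → F}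

theorem finrank_orth (hf : Geo.IsUnitaryForm σ f) (U : Submodule F (ι → F)) :
    Module.finrank F (orth hf U) + Module.finrank F U = Fintype.card ι := by
  classical
  set b := Module.finBasis F U with hb
  let L : (ι → F) →ₗ[F] Fin (Module.finrank F U) → F :=
    LinearMap.pi fun j => formH hf (b j : ι → F)
  have hL : ∀ v j, L v j = f v (b j : ι → F) := fun v j => rfl
  have hker : LinearMap.ker L = orth hf U := by
    ext v
    rw [LinearMap.mem_ker, mem_orth]
    constructor
    · intro h u hu
      have hv : ∀ j, f (b j : ι → F) v = 0 := fun j => (f_eq_zero_comm hf).1 (by rw [← hL, h]; rfl)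
      have e := congrArg (Subtype.val) (b.sum_repr ⟨u, hu⟩)
      simp only [Submodule.coe_sum, Submodule.coe_smul] at e
      rw [← e, Herm.sum_left hf]
      exact Finset.sum_eq_zero fun j _ => by rw [hf.smul_left, hv, mul_zero]
    · intro h
      funext j
      rw [hL]
      exact (f_eq_zero_comm hf).1 (h _ (b j).2)
  have hsurj : LinearMap.range L = ⊤ := by
    by_contra hne
    obtain ⟨y, hy⟩ : ∃ y, y ∉ LinearMap.range L := by
      by_contra hcon
      push Not at hcon
      exact hne (Submodule.eq_top_iff'.2 hcon)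
    obtain ⟨φ, hφ, hφy⟩ := TensorMax.exists_dot hy
    set w : U := ∑ j, σ (φ j) • b j with hw
    have hw0 : (w : ι → F) = 0 := by
      by_contra hw0
      obtain ⟨v, hv⟩ := (hf.nondegenerate _ hw0).1
      apply hv
      have hzero : φ ⬝ᵥ L v = 0 := hφ _ (LinearMap.mem_range_self _ _)
      have e : f v (w : ι → F) = 0 := by
        rw [hw, Submodule.coe_sum, Herm.sum_right hf]
        refine Eq.trans (Finset.sum_congr rfl fun j _ => ?_) hzero
        rw [Submodule.coe_smul, Herm.smul_right hf, hf.involutive, hL]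
      first
        | exact e
        | exact (f_eq_zero_comm hf).1 e
    have hz : w = 0 := Subtype.ext hw0
    have hφ0 : φ = 0 := funext fun j => by
      have := Fintype.linearIndependent_iff.1 b.linearIndependent (fun j => σ (φ j)) hz j
      simpa using this
    rw [hφ0, zero_dotProduct] at hφy
    exact zero_ne_one hφy
  have h := LinearMap.finrank_range_add_finrank_ker L
  rw [hker, hsurj, finrank_top, Module.finrank_fin_fun, Module.finrank_fintype_fun_eq_card] at h
  omega

theorem orth_orth_eq (hf : Geo.IsUnitaryForm σ f) (U : Submodule F (ι → F)) :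
    orth hf (orth hf U) = U := by
  refine (Submodule.eq_of_le_of_finrank_eq (fun u hu => mem_orth hf |>.2 fun v hv => ?_) ?_).symm
  · exact (f_eq_zero_comm hf).1 ((mem_orth hf).1 hv u hu)
  · have h1 := finrank_orth hf U
    have h2 := finrank_orth hf (orth hf U)
    omega

theorem orth_sup (hf : Geo.IsUnitaryForm σ f) (U W : Submodule F (ι → F)) :
    orth hf (U ⊔ W) = orth hf U ⊓ orth hf W := by
  ext v
  simp only [Submodule.mem_inf, mem_orth]
  refine ⟨fun h => ⟨fun u hu => h u (Submodule.mem_sup_left hu), fun u hu => h u (Submodule.mem_sup_right hu)⟩,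
    fun ⟨h1, h2⟩ u hu => ?_⟩
  obtain ⟨a, ha, b, hb, rfl⟩ := Submodule.mem_sup.1 hu
  rw [hf.add_left, h1 a ha, h2 b hb, add_zero]

/-- The two crossed orthogonal meets differ as the subspaces do. -/
theorem finrank_cross' (hf : Geo.IsUnitaryForm σ f) (R S : Submodule F (ι → F)) :
    Module.finrank F (R ⊓ orth hf S : Submodule F (ι → F)) + Module.finrank F S =
      Module.finrank F (S ⊓ orth hf R : Submodule F (ι → F)) + Module.finrank F R := by
  have e : R ⊓ orth hf S = orth hf (orth hf R ⊔ S) := by rw [orth_sup, orth_orth_eq]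
  have h1 := finrank_orth hf (orth hf R ⊔ S)
  have h2 := Submodule.finrank_sup_add_finrank_inf_eq (orth hf R) S
  have h3 := finrank_orth hf R
  rw [inf_comm (orth hf R) S] at h2
  rw [e]
  omega

/-- For subspaces of equal dimension the two crossed orthogonal meets have the same dimension. -/
theorem finrank_cross (hf : Geo.IsUnitaryForm σ f) {R S : Submodule F (ι → F)}
    (h : Module.finrank F R = Module.finrank F S) :
    Module.finrank F (R ⊓ orth hf S : Submodule F (ι → F)) =
      Module.finrank F (S ⊓ orth hf R : Submodule F (ι → F)) := by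
  have := finrank_cross' hf R S
  omega

/-- Two non-conjugate involutions of a finite group centralise a third in their span. -/
theorem exists_central_involution {G : Type*} [Group G] [Finite G] {u t : G} (hu : u * u = 1)
    (ht : t * t = 1) (hc : ∀ w ∈ Subgroup.closure ({u, t} : Set G), w * t * w⁻¹ ≠ u) :
    ∃ z ∈ Subgroup.closure ({u, t} : Set G), z ≠ 1 ∧ z * z = 1 ∧ z * u = u * z ∧ z * t = t * z := by
  have hut : u * t ∈ Subgroup.closure ({u, t} : Set G) :=
    Subgroup.mul_mem _ (Subgroup.subset_closure (Or.inl rfl)) (Subgroup.subset_closure (Or.inr rfl))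
  rcases dihedral_cases hu ht with ⟨j, hj⟩ | ⟨n, h1, h2, h3, h4, -⟩
  · exact absurd hj (hc _ (Subgroup.pow_mem _ hut j))
  · exact ⟨_, Subgroup.pow_mem _ hut n, h1, h2, h3.symm, h4.symm⟩

end General

section Two

variable {α β : Type} [Fintype α] [DecidableEq α] [Fintype β] [DecidableEq β]
variable {f₁ : (α → F) → (α → F) → F} {f₂ : (β → F) → (β → F) → F}
variable {M : Subgroup (GL (α × β) F)}

theorem mem_orth_line (h₁ : Geo.IsUnitaryForm σ f₁) (h₂ : Geo.IsUnitaryForm σ f₂) {c : β → F}
    {x : α × β → F} : x ∈ orth (tf_unitary h₁ h₂) (line α c) ↔ ctr (frow f₂ c) x = 0 := by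
  rw [mem_orth]
  constructor
  · intro h
    by_contra h0
    obtain ⟨v, hv⟩ := (h₁.nondegenerate _ h0).1
    apply hv
    have e := (f_eq_zero_comm (tf_unitary h₁ h₂)).1 (h _ (ten_mem_line v c))
    rw [tf_ctr h₁ h₂] at e
    first
      | exact e
      | exact (f_eq_zero_comm h₁).1 e
  · intro h y hy
    obtain ⟨v, rfl⟩ := mem_line.1 hy
    rw [f_eq_zero_comm (tf_unitary h₁ h₂), tf_ctr h₁ h₂, h, Herm.zero_left h₁]

theorem blk_inf (P P' : Submodule F (β → F)) : blk α P ⊓ blk α P' ≤ blk α (P ⊓ P') := by
  rintro x ⟨h, h'⟩ φ hφ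
  funext i
  have hrow : ∀ Q : Submodule F (β → F), x ∈ blk α Q → (fun l => x (i, l)) ∈ Q := by
    intro Q hQ
    by_contra hni
    obtain ⟨ψ, h1, h2⟩ := TensorMax.exists_dot hni
    have e := congrFun (hQ ψ h1) i
    rw [ctr_apply, Pi.zero_apply] at e
    exact one_ne_zero (h2.symm.trans ((Finset.sum_congr rfl fun _ _ => mul_comm _ _).trans e))
  have := hφ _ ⟨hrow P h, hrow P' h'⟩
  rw [ctr_apply, Pi.zero_apply]
  exact (Finset.sum_congr rfl fun _ _ => mul_comm _ _).trans this

theorem blk_le_line {P : Submodule F (β → F)} {c : β → F} (hc : c ≠ 0) (hP : P ≤ Submodule.span F {c}) :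
    blk α P ≤ line α c := fun x hx =>
  mem_line_of_ctr hc fun φ hφ => hx φ fun c' hc' => by
    obtain ⟨a, rfl⟩ := Submodule.mem_span_singleton.1 (hP hc')
    rw [dotProduct_smul, hφ, smul_zero]

theorem blk_bot : blk α (⊥ : Submodule F (β → F)) = ⊥ :=
  (Submodule.eq_bot_iff _).2 fun x hx => eq_zero_of_ctr fun φ =>
    hx φ fun c hc => by rw [(Submodule.mem_bot F).1 hc, dotProduct_zero]

end Two

end Cfsg.Agent.UWreath
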