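/-
A finite linear group with an abelian subgroup of quadratic elements having trivial intersections
with its conjugates in the strong sense equals that subgroup.
-/
import Cfsg.Agent.Lib.WreathMax.Transfer

set_option autoImplicit false

namespace Cfsg.Agent.UWreath

open scoped Pointwise

/-- A unipotent quadratic element normalising a commutative group of order prime to p centralises it. -/
theorem commute_of_quadratic {R : Type*} [Ring R] {p : ℕ} [Fact p.Prime] [CharP R p] (hp : p ≠ 2)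
    (Z : Set R) (hcomm : ∀ x ∈ Z, ∀ y ∈ Z, x * y = y * x) (hmul : ∀ x ∈ Z, x * x ∈ Z) {Q : ℕ}
    (hQ : ∃ k, k ≠ 0 ∧ Q = p ^ k) (hpow : ∀ x ∈ Z, x ^ Q = x) {u : R} (hu : u * u = 0)
    (hT : ∀ x ∈ Z, (1 + u) * x * (1 - u) ∈ Z) {z : R} (hz : z ∈ Z) : u * z = z * u := by
  obtain ⟨k, hk, hQk⟩ := hQ
  have hpow' : ∀ x ∈ Z, x ^ p ^ k = x := fun x hx => hQk ▸ hpow x hx
  clear hpow hQk
  have hQ2 : 2 ≤ p ^ k :=
    le_trans (Fact.out (p := p.Prime)).two_le (Nat.le_self_pow hk p)
  have nil : ∀ y : R, y ^ p ^ k = y → y * y = 0 → y = 0 := by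
    intro y h1 h2
    obtain ⟨j, hj⟩ := Nat.exists_eq_add_of_le hQ2
    rw [← h1, hj, pow_add, pow_two, h2, zero_mul]
  have hu' : ∀ x, u * (u * x) = 0 := fun x => by rw [← mul_assoc, hu, zero_mul]
  have h2 : ∀ y : R, y + y = 0 → y = 0 := by
    intro y hy
    obtain ⟨j, hj⟩ := (Fact.out (p := p.Prime)).odd_of_ne_two hp
    have h1 : (p : R) * y = 0 := by rw [CharP.cast_eq_zero, zero_mul]
    rw [hj, Nat.cast_add, Nat.cast_mul, Nat.cast_one, add_mul, one_mul] at h1
    have : ((2 : ℕ) : R) * (j : R) * y = (j : R) * (y + y) := by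
      rw [← Nat.cast_mul, Nat.mul_comm, Nat.cast_mul, mul_assoc, Nat.cast_two, two_mul]
    rwa [this, hy, mul_zero, zero_add] at h1
  -- the cubic term vanishes
  have hcube : ∀ x ∈ Z, u * x * u = 0 := by
    intro x hx
    have hb := hT x hx
    have hc := hT _ hb
    have e : (1 + u) * ((1 + u) * x * (1 - u)) * (1 - u) -
        ((1 + u) * x * (1 - u) + (1 + u) * x * (1 - u)) + x = -(u * x * u + u * x * u) := by
      have e1 : (1 + u) * ((1 + u) * x * (1 - u)) * (1 - u) =
          x + (u * x + u * x) - (x * u + x * u) -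
            (u * x * u + u * x * u + (u * x * u + u * x * u)) := by
        simp only [mul_add, add_mul, sub_mul, mul_sub, one_mul, mul_one, mul_assoc, hu, hu', mul_zero,
          zero_mul]
        abel
      rw [e1]
      simp only [add_mul, mul_sub, one_mul, mul_one]
      abel
    set a := (1 + u) * ((1 + u) * x * (1 - u)) * (1 - u)
    set b := (1 + u) * x * (1 - u)
    have cab : Commute a b := hcomm a hc b hb
    have cax : Commute a x := hcomm a hc x hx
    have cbx : Commute b x := hcomm b hb x hx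
    have h1 : (a - (b + b) + x) ^ p ^ k = a - (b + b) + x := by
      rw [add_pow_char_pow_of_commute p k (cax.sub_left (cbx.add_left cbx)),
        sub_pow_char_pow_of_commute p k (cab.add_right cab),
        add_pow_char_pow_of_commute p k (Commute.refl b), hpow' a hc, hpow' b hb, hpow' x hx]
    rw [e] at h1
    have h3 := nil _ h1 (by
      simp only [neg_mul_neg, mul_add, add_mul, mul_assoc, hu', mul_zero, add_zero])
    exact h2 _ (neg_eq_zero.1 h3)
  -- the linear term vanishes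
  have hb := hT z hz
  have e : (1 + u) * z * (1 - u) - z = u * z - z * u := by
    simp only [add_mul, mul_sub, one_mul, mul_one, hcube z hz]
    abel
  have h1 : ((1 + u) * z * (1 - u) - z) ^ p ^ k = (1 + u) * z * (1 - u) - z := by
    rw [sub_pow_char_pow_of_commute p k (hcomm _ hb z hz), hpow' _ hb, hpow' z hz]
  rw [e] at h1
  have a1 : u * z * (u * z) = 0 := by rw [← mul_assoc, hcube z hz, zero_mul]
  have a2 : z * u * (z * u) = 0 := by rw [mul_assoc, ← mul_assoc u, hcube z hz, mul_zero]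
  have a3 : u * z * (z * u) = 0 := by rw [← mul_assoc, mul_assoc u z z, hcube _ (hmul z hz)]
  have a4 : z * u * (u * z) = 0 := by rw [mul_assoc, hu', mul_zero]
  exact sub_eq_zero.1 (nil _ h1 (by simp only [sub_mul, mul_sub, a1, a2, a3, a4, sub_zero]))

variable {G : Type*} [Group G] [Finite G] {H : Subgroup G} {p : ℕ} [Fact p.Prime]

theorem exists_mem_ne_one {G : Type*} [Group G] {H : Subgroup G} (h : H ≠ ⊥) :
    ∃ k ∈ H, k ≠ 1 := by
  by_contra hcon
  push Not at hcon
  exact h ((Subgroup.eq_bot_iff_forall H).2 hcon)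

/-- An abelian p-subgroup containing the normaliser of each of its non-trivial subgroups is Sylow. -/
theorem not_dvd_index_of_ti (hH : IsPGroup p H)
    (hTI : ∀ k ∈ H, k ≠ 1 → ∀ h : G, h⁻¹ * k * h ∈ H → h ∈ H) (hne : H ≠ ⊥) :
    ¬ p ∣ H.index := by
  obtain ⟨P, hP⟩ := hH.exists_le_sylow
  have e : (P : Subgroup G) = H := by
    refine le_antisymm ?_ hP
    by_contra hlt
    haveI : Group.IsNilpotent P := P.2.isNilpotent
    have hc := normalizerCondition_of_isNilpotent (G := P) (H.subgroupOf P)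
      (lt_top_iff_ne_top.2 fun h => hlt (Subgroup.subgroupOf_eq_top.1 h))
    obtain ⟨x, hx, hxn⟩ := SetLike.exists_of_lt hc
    obtain ⟨k, hk, hk1⟩ := exists_mem_ne_one hne
    apply hxn
    rw [Subgroup.mem_subgroupOf]
    refine hTI k hk hk1 _ ?_
    have := (Subgroup.mem_normalizer_iff''.1 hx ⟨k, hP hk⟩).1 (Subgroup.mem_subgroupOf.2 hk)
    exact this
  rw [← e]
  exact P.not_dvd_index

/-- Transfer: a linear group with such a subgroup of quadratic elements is that subgroup. -/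
theorem eq_top_of_quadratic_ti {R : Type*} [Ring R] [CharP R p] (ρ : G →* R) (hρ : Function.Injective ρ)
    (hne : H ≠ ⊥) (hcomm : ∀ a ∈ H, ∀ b ∈ H, a * b = b * a)
    (hquad : ∀ h ∈ H, (ρ h - 1) * (ρ h - 1) = 0)
    (hTI : ∀ k ∈ H, k ≠ 1 → ∀ h : G, h⁻¹ * k * h ∈ H → h ∈ H)
    (hfour : p ≠ 2 ∨ ∃ a ∈ H, ∃ b ∈ H, a ≠ 1 ∧ b ≠ 1 ∧ a ≠ b) : H = ⊤ := by
  classical
  letI : CommGroup H :=
    { (inferInstance : Group H) with mul_comm := fun a b => Subtype.ext (hcomm a a.2 b b.2) }
  have hexp : ∀ h ∈ H, h ^ p = 1 := by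
    intro h hh
    refine hρ ?_
    have h1 := sub_pow_char_of_commute p (Commute.one_right (ρ h))
    obtain ⟨j, hj⟩ := Nat.exists_eq_add_of_le (Fact.out (p := p.Prime)).two_le
    rw [one_pow] at h1
    rw [map_pow, map_one, ← sub_eq_zero, ← h1, hj, pow_add, pow_two, hquad h hh, zero_mul]
  have hPG : IsPGroup p H := fun h => ⟨1, Subtype.ext (by simpa using hexp h h.2)⟩
  set τ : G →* H := MonoidHom.transfer (MonoidHom.id H) with hτ
  have hτH : ∀ k : H, τ k = k := fun k => by
    refine WreathMax.transfer_eq_self (MonoidHom.id H) k fun l h hm => ?_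
    by_cases h1 : (k : G) ^ l = 1
    · exact Or.inr h1
    · exact Or.inl (hTI _ (H.pow_mem k.2 l) h1 h hm)
  set K := τ.ker with hK
  have hKH : ∀ x ∈ K, x ∈ H → x = 1 := fun x hx hxH => by
    have := hτH ⟨x, hxH⟩
    rw [show τ x = 1 from hx] at this
    exact (congrArg Subtype.val this).symm
  have hindex : H.index = Nat.card K := by
    have hrange : τ.range = ⊤ := MonoidHom.range_eq_top.2 fun k => ⟨k, hτH k⟩
    have h1 := K.card_mul_index
    rw [hK, Subgroup.index_ker, hrange, Subgroup.card_top, ← hK] at h1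
    have h2 := H.card_mul_index
    rw [← h1, Nat.mul_comm (Nat.card K)] at h2
    exact Nat.eq_of_mul_eq_mul_left Nat.card_pos h2
  have hpK : ¬ p ∣ Nat.card K := hindex ▸ not_dvd_index_of_ti hPG hTI hne
  by_contra hHtop
  have hK1 : Nat.card K ≠ 1 := fun h => hHtop (Subgroup.index_eq_one.1 (hindex.trans h))
  obtain ⟨r, hr, hrK⟩ := Nat.exists_prime_and_dvd hK1
  haveI : Fact r.Prime := ⟨hr⟩
  -- an invariant Sylow subgroup of the kernel
  let φ : H →* MulAut K := (MulAut.conjNormal (H := K)).comp H.subtype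
  letI : MulAction H (Sylow r K) := MulAction.compHom _ φ
  have hnd : ¬ p ∣ Nat.card (Sylow r K) := fun h => hpK (h.trans
    ((Sylow.card_dvd_index (default : Sylow r K)).trans (Subgroup.index_dvd_card _)))
  obtain ⟨P, hP⟩ := hPG.nonempty_fixed_point_of_prime_not_dvd_card (Sylow r K) hnd
  haveI : Nontrivial P := Finite.one_lt_card_iff_nontrivial.1 (by
    have h1 := P.dvd_card_of_dvd_card hrK
    exact lt_of_lt_of_le hr.one_lt (Nat.le_of_dvd Nat.card_pos h1))
  haveI := P.2.center_nontrivial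
  obtain ⟨z₀, hz₀⟩ := exists_ne (1 : Subgroup.center P)
  set Z : Subgroup G := ((Subgroup.center P).map (P : Subgroup K).subtype).map K.subtype with hZ
  have hZK : Z ≤ K := by
    rintro _ ⟨x, -, rfl⟩
    exact x.2
  have hZc : ∀ x ∈ Z, ∀ y ∈ Z, x * y = y * x := by
    rintro _ ⟨_, ⟨a, ha, rfl⟩, rfl⟩ _ ⟨_, ⟨b, -, rfl⟩, rfl⟩
    have := congrArg (fun w : P => ((w : K) : G)) (Subgroup.mem_center_iff.1 ha b)
    simpa using this.symm
  have hZn : ∀ h ∈ H, ∀ x ∈ Z, h * x * h⁻¹ ∈ Z := by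
    rintro h hh _ ⟨_, ⟨a, ha, rfl⟩, rfl⟩
    have hfix : ∀ h' : H, φ h' • P = P := fun h' => hP h'
    have hmem : ∀ h' : H, ∀ x : K, x ∈ (P : Subgroup K) → φ h' x ∈ (P : Subgroup K) := fun h' x hx => by
      have h2 : φ h' • x ∈ φ h' • (P : Subgroup K) := Subgroup.smul_mem_pointwise_smul _ _ _ hx
      rw [← Sylow.pointwise_smul_def, hfix h'] at h2
      exact h2
    refine ⟨φ ⟨h, hh⟩ (a : K), ⟨⟨_, hmem _ _ a.2⟩, Subgroup.mem_center_iff.2 fun b => ?_, rfl⟩,
      by simp [φ, MulAut.conjNormal_apply]⟩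
    refine Subtype.ext ?_
    have hb' : ((φ ⟨h, hh⟩)⁻¹ (b : K)) ∈ (P : Subgroup K) := by
      rw [← map_inv]
      exact hmem _ _ b.2
    have hc := congrArg (fun w : P => φ ⟨h, hh⟩ (w : K)) (Subgroup.mem_center_iff.1 ha ⟨_, hb'⟩)
    simp only [Subgroup.coe_mul, map_mul] at hc
    simpa using hc
  have hcent : ∀ a ∈ H, a ≠ 1 → ∀ x ∈ K, x * a = a * x → x = 1 := fun a ha ha1 x hx hc =>
    hKH x hx (hTI a ha ha1 x (by rw [mul_assoc, ← hc, inv_mul_cancel_left]; exact ha))
  set z : G := (((z₀ : P) : K) : G) with hzdef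
  have hzZ : z ∈ Z := ⟨_, ⟨_, z₀.2, rfl⟩, rfl⟩
  have hz1 : z ≠ 1 := fun h => hz₀ (Subtype.ext (Subtype.ext (Subtype.ext h)))
  by_cases hp : p = 2
  swap
  · obtain ⟨a, ha, ha1⟩ := exists_mem_ne_one hne
    refine hz1 (hcent a ha ha1 z (hZK hzZ) (hρ ?_))
    set n := Nat.card Z with hn
    have hcop : Nat.Coprime p n := by
      rw [Nat.Prime.coprime_iff_not_dvd Fact.out]
      exact fun h => hpK (h.trans (Subgroup.card_dvd_of_le hZK))
    have hk : n.totient ≠ 0 := (Nat.totient_pos.2 Nat.card_pos).ne'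
    have hpow : ∀ x ∈ Z, x ^ p ^ n.totient = x := by
      intro x hx
      have h1 : x ^ n = 1 := congrArg Subtype.val (pow_card_eq_one' (x := (⟨x, hx⟩ : Z)))
      rw [pow_eq_pow_mod _ h1, Nat.ModEq.pow_totient hcop, ← pow_eq_pow_mod _ h1, pow_one]
    have key := commute_of_quadratic hp (ρ '' Z) (by
        rintro _ ⟨x, hx, rfl⟩ _ ⟨y, hy, rfl⟩
        rw [← map_mul, ← map_mul, hZc x hx y hy])
      (by rintro _ ⟨x, hx, rfl⟩; exact ⟨x * x, Z.mul_mem hx hx, map_mul _ _ _⟩)
      (Q := p ^ n.totient) ⟨_, hk, rfl⟩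
      (by rintro _ ⟨x, hx, rfl⟩; rw [← map_pow, hpow x hx]) (hquad a ha) (by
        rintro _ ⟨x, hx, rfl⟩
        refine ⟨a * x * a⁻¹, hZn a ha x hx, ?_⟩
        have e : ρ a⁻¹ = 1 - (ρ a - 1) := by
          have h1 : ρ a * (1 - (ρ a - 1)) = 1 := by
            have e1 : ρ a * (1 - (ρ a - 1)) = 1 - (ρ a - 1) * (ρ a - 1) := by
              simp only [mul_sub, sub_mul, mul_one, one_mul]; abel
            rw [e1, hquad a ha, sub_zero]
          calc ρ a⁻¹ = ρ a⁻¹ * (ρ a * (1 - (ρ a - 1))) := by rw [h1, mul_one]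
            _ = 1 - (ρ a - 1) := by rw [← mul_assoc, ← map_mul, inv_mul_cancel, map_one, one_mul]
        rw [map_mul, map_mul, e, add_sub_cancel])
      (Set.mem_image_of_mem ρ hzZ)
    rw [sub_mul, mul_sub, one_mul, mul_one, sub_left_inj] at key
    rw [map_mul, map_mul, key]
  · obtain ⟨a, ha, b, hb, ha1, hb1, hab⟩ := hfour.resolve_left (not_not_intro hp)
    subst hp
    have hinv : ∀ c ∈ H, c ≠ 1 → c * z * c⁻¹ = z⁻¹ := by
      intro c hc hc1
      have hcc : c * c = 1 := by rw [← pow_two]; exact hexp c hc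
      have hci : c⁻¹ = c := inv_eq_of_mul_eq_one_right hcc
      have hm := hZn c hc z hzZ
      have h1 := hcent c hc hc1 (z * (c * z * c⁻¹)) (K.mul_mem (hZK hzZ) (hZK hm)) (by
        conv_rhs => rw [hZc z hzZ _ hm]
        rw [hci]
        simp only [← mul_assoc, hcc, one_mul]
        simp only [mul_assoc, hcc, mul_one])
      exact (inv_eq_of_mul_eq_one_right h1).symm
    have hab1 : a * b ≠ 1 := fun h => hab (by
      have hbb : b * b = 1 := by rw [← pow_two]; exact hexp b hb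
      exact mul_right_cancel (h.trans hbb.symm))
    refine hz1 (hcent (a * b) (H.mul_mem ha hb) hab1 z (hZK hzZ) ?_)
    have e : a * b * z * (a * b)⁻¹ = z := by
      have e1 := hinv b hb hb1
      have e2 := congrArg Inv.inv (hinv a ha ha1)
      simp only [_root_.mul_inv_rev, inv_inv] at e2
      rw [_root_.mul_inv_rev, show a * b * z * (b⁻¹ * a⁻¹) = a * (b * z * b⁻¹) * a⁻¹ by group, e1,
        mul_assoc]
      exact e2
    exact (mul_inv_eq_iff_eq_mul.1 e).symm

end Cfsg.Agent.UWreath
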