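/-
Members stabilising an isotropic line and supported on it and a second totally isotropic subspace;
the transfer dichotomy.
-/
import Cfsg.Agent.Lib.UWreath.KronStab
import Cfsg.Agent.Lib.UWreath.Orth
import Cfsg.Agent.Lib.UWreath.Transfer

set_option autoImplicit false
set_option linter.unusedSectionVars false

namespace Cfsg.Agent.UWreath

open scoped Matrix Kronecker
open Matrix Cfsg.Agent.Transvec Cfsg.Agent.Transvec.Herm Cfsg.Agent.TensorMax Cfsg.Agent.TensorMax.U
open Cfsg.Agent.WreathMax

variable {F : Type*} [Field F] {σ : F ≃+* F}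

theorem finrank_map_add_le {ι κ : Type} [Fintype ι] [Fintype κ] (L : (ι → F) →ₗ[F] κ → F)
    {T U : Submodule F (ι → F)} (hU : U ≤ T) (hk : U ≤ LinearMap.ker L) :
    Module.finrank F (T.map L) + Module.finrank F U ≤ Module.finrank F T := by
  have h := LinearMap.finrank_range_add_finrank_ker (L.domRestrict T)
  rw [LinearMap.range_domRestrict] at h
  have h2 : Module.finrank F U ≤ Module.finrank F (LinearMap.ker (L.domRestrict T)) := by
    let ψ : U →ₗ[F] LinearMap.ker (L.domRestrict T) :=
      LinearMap.codRestrict _ (Submodule.inclusion hU) fun x => by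
        rw [LinearMap.mem_ker]; exact hk x.2
    refine LinearMap.finrank_le_finrank_of_injective (f := ψ) fun x y h => Subtype.ext ?_
    exact congrArg (fun z : LinearMap.ker (L.domRestrict T) => ((z : T) : ι → F)) h
  omega

theorem inj_cod {V W : Type*} [AddCommGroup V] [Module F V] [AddCommGroup W] [Module F W]
    {p : Submodule F W} {L : V →ₗ[F] W} {h : ∀ v, L v ∈ p} (hL : Function.Injective L) :
    Function.Injective (L.codRestrict p h) := fun _ _ e => hL (congrArg Subtype.val e)

theorem scalar_of_lines {V : Type*} [AddCommGroup V] [Module F V] (T : V →ₗ[F] V)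
    (h : ∀ v, T v ∈ Submodule.span F {v}) : ∃ ν : F, ∀ v, T v = ν • v := by
  by_cases hV : ∀ v : V, v = 0
  · exact ⟨0, fun v => by rw [hV v, map_zero, smul_zero]⟩
  push Not at hV
  obtain ⟨w, hw⟩ := hV
  obtain ⟨ν, hν⟩ := Submodule.mem_span_singleton.1 (h w)
  refine ⟨ν, fun v => ?_⟩
  obtain ⟨a, ha⟩ := Submodule.mem_span_singleton.1 (h v)
  obtain ⟨b, hb⟩ := Submodule.mem_span_singleton.1 (h (v + w))
  by_cases hv : v ∈ Submodule.span F {w}
  · obtain ⟨x, rfl⟩ := Submodule.mem_span_singleton.1 hv
    rw [map_smul, ← hν, smul_comm]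
  · have e : (b - a) • v = (ν - b) • w := by
      rw [map_add, ← ha, ← hν] at hb
      linear_combination (norm := module) hb
    have hba : b = a := by
      by_contra hba
      refine hv (Submodule.mem_span_singleton.2 ⟨(b - a)⁻¹ * (ν - b), ?_⟩)
      rw [mul_smul, ← e, smul_smul, inv_mul_cancel₀ (sub_ne_zero.2 hba), one_smul]
    rw [hba, sub_self, zero_smul, eq_comm, smul_eq_zero] at e
    rw [← ha, sub_eq_zero.1 (e.resolve_right hw)]

variable {α β : Type} [Fintype α] [DecidableEq α] [Fintype β] [DecidableEq β]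
variable {f₁ : (α → F) → (α → F) → F} {f₂ : (β → F) → (β → F) → F}
variable {M : Subgroup (GL (α × β) F)}

/-- A split: scalar centres and large displacements of the first parts. -/
structure Split (σ : F ≃+* F) (f₁ : (α → F) → (α → F) → F) (f₂ : (β → F) → (β → F) → F)
    (M : Subgroup (GL (α × β) F)) : Prop where
  pre : Pre σ f₁ f₂ M
  scalar : CentreScalar σ f₂ M
  hm : 3 ≤ Fintype.card β
  hq : 4 ≤ Fintype.card β ∨ Nat.card (fixedField σ) ≠ 2
  hMR : ∀ g ∈ M, ∀ (B : GL α F) (A : GL β F), g = kronGL B A → ∀ ν : F, (∃ u, ν • mv B u ≠ u) →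
    Fintype.card α ≤ Fintype.card β * Module.finrank F (LinearMap.range (ν • mvLin B - LinearMap.id))

/-- The subgroup of transvections of the second factor at c. -/
def radGroup (h₂ : Geo.IsUnitaryForm σ f₂) (c : β → F) (hiso : f₂ c c = 0) :
    Subgroup (GL (α × β) F) where
  carrier := {h | ∃ s : F, σ s = -s ∧ ∀ x, mv h x = x + s • ten (ctr (frow f₂ c) x) c}
  one_mem' := ⟨0, by rw [map_zero, neg_zero], fun x => by rw [mv_one, zero_smul, add_zero]⟩
  mul_mem' := by
    rintro g h ⟨a, ha, hg⟩ ⟨b, hb, hh⟩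
    refine ⟨a + b, by rw [map_add, ha, hb, neg_add], fun x => ?_⟩
    rw [mv_mul, hh, hg, map_add, map_smul, ctr_ten, frow_dot h₂, hiso, zero_smul, smul_zero, add_zero]
    module
  inv_mem' := by
    rintro g ⟨a, ha, hg⟩
    refine ⟨-a, by rw [map_neg, ha], fun x => ?_⟩
    rw [mv_eq_iff, inv_inv, hg, map_add, map_smul, ctr_ten, frow_dot h₂, hiso, zero_smul, smul_zero,
      add_zero]
    module

variable [Nonempty α] [Finite F]

theorem isometry_kron (C : Pre σ f₁ f₂ M) {g : GL (α × β) F} (hg : g ∈ M) {Bl : (α → F) →ₗ[F] α → F}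
    {Al : (β → F) →ₗ[F] β → F} (h : ∀ u w, mv g (ten u w) = ten (Bl u) (Al w)) (u u' : α → F)
    (w w' : β → F) : f₁ (Bl u) (Bl u') * f₂ (Al w) (Al w') = f₁ u u' * f₂ w w' := by
  rw [← tf_ten C.h₁ C.h₂, ← tf_ten C.h₁ C.h₂, ← h, ← h, C.iso hg]

/-- A member stabilising an isotropic line, supported on it and S, is small or radical, or S lies in
U ⊗ P for a plane P. -/
theorem stab_bound (C : Split σ f₁ f₂ M) {S : Submodule F (α × β → F)}
    (hdim : Module.finrank F S = Fintype.card α) {c : β → F}
    (hc : c ≠ 0) (hiso : f₂ c c = 0) {k : GL (α × β) F} (hk : k ∈ M)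
    (hR : ∀ u, mv k (ten u c) ∈ line α c)
    (hK : ∀ x ∈ orth C.pre.hf (line α c), x ∈ orth C.pre.hf S → mv k x = x)
    (hdev : ∀ x, mv k x - x ∈ line α c ⊔ S) (hD : ∀ x ∈ line α c ⊓ S, mv k x = x)
    (hnr : ∃ x ∈ orth C.pre.hf (line α c), mv k x ≠ x)
    (hcase : line α c ⊓ S ≠ ⊥ ∨ S ⊓ orth C.pre.hf (line α c) = ⊥) :
    (line α c ⊓ S ≠ ⊥ ∧
      Fintype.card β * Module.finrank F (line α c ⊓ S : Submodule F (α × β → F)) ≤ Fintype.card α ∧
      Fintype.card α < Fintype.card β *
        Module.finrank F (S ⊓ orth C.pre.hf (line α c) : Submodule F (α × β → F))) ∨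
      (line α c ⊓ S = ⊥ ∧ ∃ P : Submodule F (β → F), Module.finrank F P = 2 ∧ c ∈ P ∧ S ≤ blk α P) := by
  classical
  have h₁ := C.pre.h₁
  have h₂ := C.pre.h₂
  set R := line α c with hRdef
  set T := S ⊓ orth C.pre.hf R with hT
  have hRperp : R ≤ orth C.pre.hf R := fun x hx => by
    rw [hRdef, mem_orth_line h₁ h₂]
    exact ctr_line (by rw [frow_dot h₂, hiso]) hx
  have hdT : R ⊓ S ≤ T := le_inf inf_le_right (inf_le_left.trans hRperp)
  have hfR : Module.finrank F R = Fintype.card α := finrank_line hc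
  have hTa : Module.finrank F T ≤ Fintype.card α := hdim ▸ Submodule.finrank_mono inf_le_left
  have hapos : 0 < Fintype.card α := Fintype.card_pos
  have hzero : Module.finrank F (R ⊓ S : Submodule F (α × β → F)) = 0 ↔ R ⊓ S = ⊥ :=
    Submodule.finrank_eq_zero
  have hTz : T = ⊥ → Module.finrank F T = 0 := fun h => by rw [h, finrank_bot]
  -- the factors
  obtain ⟨B, A, hBA⟩ := kron_of_stab C.hm C.pre C.pre C.scalar C.hq one_ne_zero
    (fun x y => by rw [C.pre.iso hk, one_mul]) (fun h hh => M.mul_mem (M.mul_mem hk hh) (M.inv_mem hk))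
    hc hiso hc hiso hR
  have hkBA : k = kronGL B A := eq_kronGL hBA
  obtain ⟨i₀⟩ := ‹Nonempty α›
  set u₀ : α → F := Pi.single i₀ 1 with hu₀def
  have hu₀ : u₀ ≠ 0 := by simp [u₀]
  obtain ⟨lm, hlam⟩ : ∃ lm : F, mv A c = lm • c := by
    obtain ⟨θ, hθ⟩ := exists_dot_one (c := mv B u₀) fun h => hu₀ (mv_inj B (h.trans (mv_zero B).symm))
    obtain ⟨v, hv⟩ := mem_line.1 (hR u₀)
    have e := congrArg (ctrL θ) hv
    rw [hkBA, mv_kronGL, ctrL_ten, ctrL_ten, hθ, one_smul] at e
    exact ⟨_, e.symm⟩
  have hlam0 : lm ≠ 0 := fun h => hc (mv_inj A (by rw [hlam, h, zero_smul, mv_zero]))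
  set Bl : (α → F) →ₗ[F] α → F := lm • mvLin B with hBl
  set Al : (β → F) →ₗ[F] β → F := lm⁻¹ • mvLin A with hAl
  have hk' : ∀ u w, mv k (ten u w) = ten (Bl u) (Al w) := fun u w => by
    rw [hkBA, mv_kronGL, hBl, hAl, LinearMap.smul_apply, LinearMap.smul_apply, Matrix.toLin'_apply,
      Matrix.toLin'_apply, ten_smul_left, ten_smul_right, smul_smul, mul_inv_cancel₀ hlam0, one_smul]
  have hAlc : Al c = c := by
    rw [hAl, LinearMap.smul_apply, Matrix.toLin'_apply]
    show lm⁻¹ • mv A c = c
    rw [hlam, smul_smul, inv_mul_cancel₀ hlam0, one_smul]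
  have hBinj : ∀ u, Bl u = 0 → u = 0 := fun u h => by
    rw [hBl, LinearMap.smul_apply, smul_eq_zero, Matrix.toLin'_apply] at h
    exact mv_inj B ((h.resolve_left hlam0).trans (mv_zero B).symm)
  obtain ⟨w₁, hw₁⟩ : ∃ w, f₁ (Bl u₀) (Bl w) ≠ 0 := by
    by_contra hcon
    push Not at hcon
    refine hu₀ (hBinj _ (eq_zero_of_orth₁ C.pre fun v => ?_))
    obtain ⟨w, rfl⟩ := LinearMap.surjective_of_injective (LinearMap.ker_eq_bot.1
      (LinearMap.ker_eq_bot'.2 hBinj)) v
    exact hcon w
  have hperpA : ∀ w, f₂ w c = 0 → f₂ (Al w) c = 0 := fun w hw => by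
    have e := isometry_kron C.pre hk hk' u₀ w₁ w c
    rw [hw, mul_zero, hAlc] at e
    exact (mul_eq_zero.1 e).resolve_left hw₁
  -- the middle
  obtain ⟨d, hdd, hcd, hdc⟩ := exists_norm_d C.pre hc hiso
  obtain ⟨hn, h2⟩ := nondeg_pair h₂ hiso hdd hcd
  set W := orth h₂ (Submodule.span F ({c, d} : Set (β → F))) with hW
  have hWdim : Module.finrank F W + 2 = Fintype.card β := by
    have := finrank_orth_add h₂ hn
    rw [h2, Module.finrank_fintype_fun_eq_card, ← hW] at this
    omega
  have hWmem : ∀ w ∈ W, f₂ w c = 0 ∧ f₂ w d = 0 := fun w hw =>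
    ⟨(f_eq_zero_comm h₂).1 (hw c (Submodule.subset_span (Set.mem_insert _ _))),
      (f_eq_zero_comm h₂).1 (hw d (Submodule.subset_span (Set.mem_insert_of_mem _ rfl)))⟩
  set P2 : (β → F) →ₗ[F] β → F := LinearMap.id - (formH h₂ d).smulRight c - (formH h₂ c).smulRight d
    with hP2
  have hP2a : ∀ y, P2 y = y - f₂ y d • c - f₂ y c • d := fun y => rfl
  have hP2W : ∀ w ∈ W, P2 w = w := fun w hw => by
    rw [hP2a, (hWmem w hw).1, (hWmem w hw).2, zero_smul, zero_smul, sub_zero, sub_zero]
  have hP2c : P2 c = 0 := by rw [hP2a, hcd, hiso, one_smul, zero_smul, sub_self, sub_zero]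
  set π : (α × β → F) →ₗ[F] α × β → F := top LinearMap.id P2 with hπ
  have hπR : ∀ x ∈ R, π x = 0 := fun x hx => by
    obtain ⟨u, rfl⟩ := mem_line.1 hx
    rw [hπ, top_ten, hP2c, ten_zero_right]
  set Mid := T.map π with hMid
  have hMidle : Module.finrank F Mid + Module.finrank F (R ⊓ S : Submodule F (α × β → F)) ≤
      Module.finrank F T :=
    finrank_map_add_le π hdT fun x hx => LinearMap.mem_ker.2 (hπR x hx.1)
  have hin : ∀ u, ∀ w ∈ W, ten (Bl u) (P2 (Al w)) - ten u w ∈ Mid := by
    intro u w hw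
    obtain ⟨r, hr, s, hs, hrs⟩ := Submodule.mem_sup.1 (hdev (ten u w))
    have hx : mv k (ten u w) - ten u w ∈ orth C.pre.hf R := by
      rw [hRdef, mem_orth_line h₁ h₂, map_sub, hk', ctr_ten, ctr_ten, frow_dot h₂, frow_dot h₂,
        hperpA w (hWmem w hw).1, (hWmem w hw).1, zero_smul, zero_smul, sub_zero]
    have hsT : s ∈ T := by
      refine ⟨hs, ?_⟩
      rw [show s = (mv k (ten u w) - ten u w) - r by rw [← hrs, add_sub_cancel_left]]
      exact Submodule.sub_mem _ hx (hRperp hr)
    refine ⟨s, hsT, ?_⟩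
    rw [show s = (mv k (ten u w) - ten u w) - r by rw [← hrs, add_sub_cancel_left], map_sub, map_sub,
      hπR r hr, sub_zero, hk', hπ, top_ten, top_ten, hP2W w hw]
    rfl
  by_cases hsc : ∃ μ : F, ∀ u, Bl u = μ • u
  · -- the first part is scalar
    obtain ⟨μ, hμ⟩ := hsc
    set A' : (β → F) →ₗ[F] β → F := μ • Al with hA'
    have hk1 : ∀ u w, mv k (ten u w) = ten u (A' w) := fun u w => by
      rw [hk', hμ]; simp only [hA', hAl, LinearMap.smul_apply, ten_smul_left, ten_smul_right]; module
    have hmid : ∀ w ∈ W, P2 (A' w) = w := by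
      intro w hw
      by_contra hne
      have hinj : Function.Injective
          ((rho (α := α) (P2 (A' w) - w)).codRestrict Mid fun u => by
            have := hin u w hw
            rw [hμ, ten_smul_left, ← ten_smul_right, ← map_smul] at this
            rw [rho_apply]
            convert this using 1
            exact map_sub (lam u) _ _) :=
        inj_cod (rho_injective (sub_ne_zero.2 hne))
      have h1 := LinearMap.finrank_le_finrank_of_injective hinj
      rw [Module.finrank_fintype_fun_eq_card] at h1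
      rcases hcase with h | h
      · have := mt hzero.1 h
        omega
      · have := hTz h
        omega
    have hA'perp : ∀ y, f₂ y c = 0 → ∃ γ : F, A' y - y = γ • c := by
      intro y hy
      have hy2 : P2 y ∈ W := fun z hz => by
        refine (f_eq_zero_comm h₂).1 ?_
        obtain ⟨a, b, rfl⟩ := Submodule.mem_span_pair.1 hz
        simp [hP2a, Herm.sub_left h₂, Herm.add_right h₂, Herm.smul_right h₂, h₂.smul_left, hy, hiso, hcd,
          hdd]
      set w := P2 y with hw
      have e := hmid w hy2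
      have hwc := (hWmem w hy2).1
      have hA'w : f₂ (A' w) c = 0 := by
        rw [hA', LinearMap.smul_apply, h₂.smul_left, hperpA w hwc, mul_zero]
      rw [hP2a, hA'w, zero_smul, sub_zero] at e
      have hyw : y = w + f₂ y d • c := by rw [hw, hP2a, hy, zero_smul, sub_zero, sub_add_cancel]
      have hA'c : A' c = μ • c := by rw [hA', LinearMap.smul_apply, hAlc]
      refine ⟨f₂ (A' w) d + f₂ y d * μ - f₂ y d, ?_⟩
      obtain ⟨κ, hκ⟩ : ∃ κ, κ = f₂ y d := ⟨_, rfl⟩
      rw [← hκ] at hyw ⊢
      rw [hyw, map_add, map_smul, hA'c]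
      linear_combination (norm := module) e
    obtain ⟨y₀, hy₀, γ, hγ, hγ0⟩ : ∃ y₀, f₂ y₀ c = 0 ∧ ∃ γ : F, A' y₀ - y₀ = γ • c ∧ γ ≠ 0 := by
      by_contra hcon
      push Not at hcon
      obtain ⟨x, hx, hxne⟩ := hnr
      rw [hRdef, mem_orth_line h₁ h₂] at hx
      apply hxne
      set P0 : (β → F) →ₗ[F] β → F := LinearMap.id - (formH h₂ c).smulRight d with hP0
      have e1 : mvLin k ∘ₗ top LinearMap.id P0 = top LinearMap.id P0 := ext_ten fun u w => by
        rw [LinearMap.comp_apply, top_ten, Matrix.toLin'_apply]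
        show mv k (ten (LinearMap.id u) (P0 w)) = _
        rw [hk1]
        obtain ⟨γ, hγ⟩ := hA'perp (P0 w) (by simp [P0, formH_apply, Herm.sub_left h₂, h₂.smul_left, hdc])
        have hP0w : f₂ (P0 w) c = 0 := by simp [P0, formH_apply, Herm.sub_left h₂, h₂.smul_left, hdc]
        rw [hcon _ hP0w γ hγ, zero_smul, sub_eq_zero] at hγ
        rw [hγ]
      have e2 : top (LinearMap.id : (α → F) →ₗ[F] α → F) P0 =
          LinearMap.id - (rho d).comp (ctr (frow f₂ c)) := ext_ten fun u w => by
        simp only [P0, top_ten, LinearMap.sub_apply, LinearMap.id_apply, LinearMap.comp_apply, rho_apply,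
          LinearMap.smulRight_apply, formH_apply, ctr_ten, frow_dot h₂, ten_smul_left]
        rw [show ten u (w - f₂ w c • d) = ten u w - ten u (f₂ w c • d) from map_sub (lam u) _ _,
          ten_smul_right]
      have e3 := LinearMap.congr_fun e1 x
      rw [LinearMap.comp_apply, e2, LinearMap.sub_apply, LinearMap.id_apply, LinearMap.comp_apply, hx,
        map_zero, sub_zero, Matrix.toLin'_apply] at e3
      exact e3
    set dz := A' d - d with hdz
    have hdzP : dz ∉ Submodule.span F {c} := fun hm => by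
      obtain ⟨κ, hκ⟩ := Submodule.mem_span_singleton.1 hm
      have e := isometry_kron C.pre hk (Bl := LinearMap.id) (Al := A') (fun u w => hk1 u w) u₀ w₁ y₀ d
      rw [LinearMap.id_apply, LinearMap.id_apply] at e
      have hne : f₁ u₀ w₁ ≠ 0 := fun h => hw₁ (by
        rw [hμ, hμ, h₁.smul_left, Herm.smul_right h₁, h, mul_zero, mul_zero])
      have e' := mul_left_cancel₀ hne e
      rw [eq_add_of_sub_eq hγ, eq_add_of_sub_eq hκ.symm, h₂.add_left, Herm.add_right h₂, Herm.add_right h₂,
        h₂.smul_left, h₂.smul_left, Herm.smul_right h₂, Herm.smul_right h₂, hiso, hy₀, hcd] at e'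
      exact hγ0 (by linear_combination e')
    have hrange : ∀ x ∈ LinearMap.range (dev k), x ∈ R ⊔ S := by
      rintro _ ⟨x, rfl⟩
      rw [dev_apply]
      exact hdev x
    have hc1 : ∀ u, ten u c ∈ LinearMap.range (dev k) := fun u => ⟨ten (γ⁻¹ • u) y₀, by
      rw [dev_apply, hk1, show ten (γ⁻¹ • u) (A' y₀) - ten (γ⁻¹ • u) y₀ = ten (γ⁻¹ • u) (A' y₀ - y₀) from
        (map_sub (lam _) _ _).symm, hγ, ten_smul_right, ← ten_smul_left, smul_smul, mul_inv_cancel₀ hγ0,
        one_smul]⟩
    have hc2 : ∀ u, ten u dz ∈ LinearMap.range (dev k) := fun u => ⟨ten u d, by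
      rw [dev_apply, hk1, hdz]
      exact (map_sub (lam u) _ _).symm⟩
    set L : (α → F) × (α → F) →ₗ[F] LinearMap.range (dev k) := LinearMap.codRestrict _
      ((rho c).comp (LinearMap.fst F (α → F) (α → F)) + (rho dz).comp (LinearMap.snd F (α → F) (α → F)))
      fun p => by
        simp only [LinearMap.add_apply, LinearMap.comp_apply, rho_apply, LinearMap.fst_apply,
          LinearMap.snd_apply]
        exact Submodule.add_mem _ (hc1 _) (hc2 _) with hL
    have hLinj : Function.Injective L := by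
      refine inj_cod ?_
      rw [← LinearMap.ker_eq_bot, LinearMap.ker_eq_bot']
      rintro ⟨u₁, u₂⟩ hu
      obtain ⟨φ, hφ1, hφ2⟩ := exists_dot hdzP
      have hu' : ten u₁ c + ten u₂ dz = 0 := hu
      have e := congrArg (ctr φ) hu'
      rw [map_add, map_zero, ctr_ten, ctr_ten, hφ1 c (Submodule.mem_span_singleton_self c), hφ2, zero_smul,
        zero_add, one_smul] at e
      rw [e, ten_zero_left, add_zero] at hu'
      rw [rho_injective hc (hu'.trans (map_zero (rho c)).symm), e]
      rfl
    have h1 := LinearMap.finrank_le_finrank_of_injective hLinj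
    rw [Module.finrank_prod, Module.finrank_fintype_fun_eq_card] at h1
    have h3 := Submodule.finrank_mono (show LinearMap.range (dev k) ≤ R ⊔ S from hrange)
    have h4 := Submodule.finrank_sup_add_finrank_inf_eq R S
    refine Or.inr ⟨hzero.1 (by omega), Submodule.span F {c, dz}, ?_, Submodule.subset_span (Set.mem_insert _ _), ?_⟩
    · apply le_antisymm
      · refine le_trans (finrank_span_le_card _) ?_
        rw [Set.toFinset_insert, Set.toFinset_singleton]
        exact Finset.card_le_two
      · have hlt : Submodule.span F {c} < Submodule.span F {c, dz} := by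
          refine lt_of_le_of_ne (Submodule.span_mono (by simp)) fun e => hdzP ?_
          rw [e]
          exact Submodule.subset_span (Set.mem_insert_of_mem _ rfl)
        have := Submodule.finrank_lt_finrank_of_lt hlt
        rw [finrank_span_singleton hc] at this
        omega
    · have heq : LinearMap.range (dev k) = R ⊔ S :=
        Submodule.eq_of_le_of_finrank_le hrange (by omega)
      intro x hx
      have hx' : x ∈ LinearMap.range (dev k) := heq ▸ Submodule.mem_sup_right hx
      obtain ⟨y, rfl⟩ := hx'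
      intro φ hφ
      have e : ctr φ ∘ₗ dev k = 0 := ext_ten fun u w => by
        rw [LinearMap.comp_apply, LinearMap.zero_apply, dev_apply, hk1, ← show ten u (A' w - w) =
          ten u (A' w) - ten u w from map_sub (lam u) _ _, ctr_ten]
        obtain ⟨γ', hγ'⟩ := hA'perp (w - f₂ w c • d) (by rw [Herm.sub_left h₂, h₂.smul_left, hdc, mul_one, sub_self])
        have : A' w - w = γ' • c + f₂ w c • dz := by
          rw [map_sub, map_smul] at hγ'
          rw [hdz, smul_sub]
          linear_combination (norm := module) hγ'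
        rw [this, dotProduct_add, dotProduct_smul, dotProduct_smul, hφ c (Submodule.subset_span (Set.mem_insert _ _)),
          hφ dz (Submodule.subset_span (Set.mem_insert_of_mem _ rfl)), smul_zero, smul_zero, add_zero, zero_smul]
      exact LinearMap.congr_fun e y
  · -- the first part is not scalar
    have hMR : ∀ ν : F, Fintype.card α ≤
        Fintype.card β * Module.finrank F (LinearMap.range (ν • Bl - LinearMap.id)) := by
      intro ν
      rw [hBl, smul_smul]
      refine C.hMR k hk B A hkBA _ ?_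
      by_contra hcon
      push Not at hcon
      by_cases hν : ν = 0
      · have := hcon u₀
        rw [hν, zero_mul, zero_smul] at this
        exact hu₀ this.symm
      · exact hsc ⟨ν⁻¹, fun u => by
          have h := hcon u
          rw [hBl, LinearMap.smul_apply, Matrix.toLin'_apply]
          show lm • mv B u = ν⁻¹ • u
          conv_rhs => rw [← h, smul_smul, ← mul_assoc, inv_mul_cancel₀ hν, one_mul]⟩
    have hr0 : Module.finrank F (LinearMap.range (Bl - LinearMap.id)) + Module.finrank F T ≤
        Fintype.card α := by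
      have h1 := LinearMap.finrank_range_add_finrank_ker (Bl - LinearMap.id)
      rw [Module.finrank_fintype_fun_eq_card] at h1
      set N := R ⊓ orth C.pre.hf S with hN
      have hNT : Module.finrank F N = Module.finrank F T := finrank_cross C.pre.hf (hfR.trans hdim.symm)
      have h2 : Module.finrank F N ≤ Module.finrank F (LinearMap.ker (Bl - LinearMap.id)) := by
        have hNle : N ≤ (LinearMap.ker (Bl - LinearMap.id)).map (rho c) := by
          intro x hx
          obtain ⟨u, rfl⟩ := mem_line.1 hx.1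
          refine ⟨u, ?_, rfl⟩
          have e := hK (ten u c) (hRperp hx.1) hx.2
          rw [hk', hAlc] at e
          rw [SetLike.mem_coe, LinearMap.mem_ker, LinearMap.sub_apply, LinearMap.id_apply,
            rho_injective hc e, sub_self]
        exact (Submodule.finrank_mono hNle).trans (Submodule.finrank_map_le _ _)
      omega
    have hrpos := hMR 1
    rw [one_smul] at hrpos
    have hTlt : Module.finrank F T < Fintype.card α := by
      rcases Nat.eq_zero_or_pos (Module.finrank F (LinearMap.range (Bl - LinearMap.id))) with h | h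
      · rw [h, mul_zero] at hrpos; omega
      · omega
    -- the middle acts by a scalar
    set T' : W →ₗ[F] W := LinearMap.codRestrict W (P2 ∘ₗ Al ∘ₗ W.subtype) fun w => by
      show P2 (Al w) ∈ W
      intro z hz
      refine (f_eq_zero_comm h₂).1 ?_
      obtain ⟨a, b, rfl⟩ := Submodule.mem_span_pair.1 hz
      simp [hP2a, Herm.sub_left h₂, Herm.add_right h₂, Herm.smul_right h₂, h₂.smul_left,
        hperpA _ (hWmem _ w.2).1, hiso, hcd, hdd, hdc] with hT'
    obtain ⟨ν, hν⟩ := scalar_of_lines T' fun w => by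
      by_contra hmv
      have hmv' : P2 (Al w) ∉ Submodule.span F {(w : β → F)} := fun h => by
        obtain ⟨a, ha⟩ := Submodule.mem_span_singleton.1 h
        exact hmv (Submodule.mem_span_singleton.2 ⟨a, Subtype.ext ha⟩)
      obtain ⟨φ, hφ1, hφ2⟩ := exists_dot hmv'
      have hinj : Function.Injective (LinearMap.codRestrict Mid
          ((rho (P2 (Al w))).comp Bl - rho (α := α) (w : β → F)) fun u => hin u w w.2) := by
        refine inj_cod ?_
        rw [← LinearMap.ker_eq_bot, LinearMap.ker_eq_bot']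
        intro u hu
        have e := congrArg (ctr φ) hu
        rw [LinearMap.sub_apply, LinearMap.comp_apply, rho_apply, rho_apply, map_sub, map_zero, ctr_ten,
          ctr_ten, hφ2, hφ1 _ (Submodule.mem_span_singleton_self _), one_smul, zero_smul, sub_zero] at e
        exact hBinj u e
      have := LinearMap.finrank_le_finrank_of_injective hinj
      rw [Module.finrank_fintype_fun_eq_card] at this
      omega
    set Rg := LinearMap.range (ν • Bl - LinearMap.id) with hRg
    set b := Module.finBasis F W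
    have hmidR : Module.finrank F W * Module.finrank F Rg ≤ Module.finrank F Mid := by
      set L : (Fin (Module.finrank F W) → Rg) →ₗ[F] α × β → F :=
        ∑ j, (rho (b j : β → F)).comp (Rg.subtype.comp (LinearMap.proj j)) with hL
      have hLmid : ∀ v, L v ∈ Mid := fun v => by
        rw [hL, LinearMap.sum_apply]
        refine Submodule.sum_mem _ fun j _ => ?_
        obtain ⟨u, hu⟩ := (v j).2
        show ten (v j : α → F) (b j : β → F) ∈ Mid
        rw [← hu]
        have := hin u _ (b j).2
        have e : P2 (Al (b j : β → F)) = ν • (b j : β → F) := congrArg Subtype.val (hν (b j))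
        rw [e, ten_smul_right, ← ten_smul_left] at this
        rw [LinearMap.sub_apply, LinearMap.smul_apply, LinearMap.id_apply, ten_sub_left]
        exact this
      have hinj : Function.Injective (LinearMap.codRestrict Mid L hLmid) := by
        refine inj_cod ?_
        rw [← LinearMap.ker_eq_bot, LinearMap.ker_eq_bot']
        intro v hv
        funext j
        refine Subtype.ext (funext fun i => ?_)
        have hrow : ∑ l, ((v l : α → F) i) • b l = 0 := by
          refine Subtype.ext (funext fun q => ?_)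
          have := congrFun hv (i, q)
          simp only [hL, LinearMap.sum_apply, Finset.sum_apply, LinearMap.comp_apply, rho_apply, ten_apply,
            Pi.zero_apply] at this
          simpa [Finset.sum_apply] using this
        exact Fintype.linearIndependent_iff.1 b.linearIndependent _ hrow j
      have := LinearMap.finrank_le_finrank_of_injective hinj
      rwa [Module.finrank_pi_fintype, Finset.sum_const, Finset.card_univ, Fintype.card_fin,
        smul_eq_mul] at this
    have hν1 := hMR ν
    rw [← hRg] at hν1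
    have hm := C.hm
    have hd := hzero
    set a := Fintype.card α
    set m := Fintype.card β
    set e := Module.finrank F T
    set d₀ := Module.finrank F (R ⊓ S : Submodule F (α × β → F))
    set r0 := Module.finrank F (LinearMap.range (Bl - LinearMap.id))
    set rk := Module.finrank F Rg
    have g1 : Module.finrank F W * rk + d₀ ≤ e := le_trans (Nat.add_le_add_right hmidR _) hMidle
    have g2 : m * (Module.finrank F W * rk + d₀) ≤ m * e := Nat.mul_le_mul_left m g1
    have g3 : Module.finrank F W * a ≤ Module.finrank F W * (m * rk) := Nat.mul_le_mul_left _ hν1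
    have g4 : m * (r0 + e) ≤ m * a := Nat.mul_le_mul_left m hr0
    rw [Nat.mul_add, Nat.mul_left_comm] at g2
    rw [Nat.mul_add] at g4
    by_cases hd0 : R ⊓ S = ⊥
    · exfalso
      have hT0 := hTz (hcase.resolve_left (not_not_intro hd0))
      have : a ≤ Module.finrank F W * a := Nat.le_mul_of_pos_left _ (by omega)
      have : m * e = 0 := by rw [show e = 0 from hT0, mul_zero]
      omega
    · refine Or.inl ⟨hd0, ?_, ?_⟩
      · have : m * a = Module.finrank F W * a + 2 * a := by rw [← Nat.add_mul, hWdim]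
        omega
      · have : a ≤ Module.finrank F W * a := Nat.le_mul_of_pos_left _ (by omega)
        have : 0 < m * d₀ := Nat.mul_pos (by omega) (Nat.pos_of_ne_zero (mt hd.1 hd0))
        omega

/-- For q at least three: S is the line, or small, or in U ⊗ P. -/
theorem transfer_dich [Fintype F] (C : Split σ f₁ f₂ M) (hq2 : Nat.card (fixedField σ) ≠ 2)
    {S : Submodule F (α × β → F)} (hS : S ≤ orth C.pre.hf S) (hdim : Module.finrank F S = Fintype.card α)
    {c : β → F} (hc : c ≠ 0) (hiso : f₂ c c = 0) {u : GL (α × β) F} (hu : u ∈ M)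
    (hufix : ∀ x ∈ orth C.pre.hf S, mv u x = x) (hurange : LinearMap.range (dev u) = S)
    (hcase : line α c ⊓ S ≠ ⊥ ∨ S ⊓ orth C.pre.hf (line α c) = ⊥) :
    S = line α c ∨
    (line α c ⊓ S ≠ ⊥ ∧
      Fintype.card β * Module.finrank F (line α c ⊓ S : Submodule F (α × β → F)) ≤ Fintype.card α ∧
      Fintype.card α < Fintype.card β *
        Module.finrank F (S ⊓ orth C.pre.hf (line α c) : Submodule F (α × β → F))) ∨
      (line α c ⊓ S = ⊥ ∧ ∃ P : Submodule F (β → F), Module.finrank F P = 2 ∧ c ∈ P ∧ S ≤ blk α P) := by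
  classical
  have h₁ := C.pre.h₁
  have h₂ := C.pre.h₂
  set H₀ := radGroup (α := α) h₂ c hiso with hH₀
  have hH₀M : ∀ h ∈ H₀, h ∈ M := by
    rintro h ⟨s, hs, hx⟩
    rw [show h = kronGL 1 (htv h₂ c hiso s) from ext_mv fun x => by rw [hx, mv_kronGL_htv C.pre]]
    exact htv_mem_pre C.pre c hiso hs
  set G := Subgroup.closure ((H₀ : Set (GL (α × β) F)) ∪ {u}) with hG
  have hprop : ∀ h ∈ G, h ∈ M ∧ (∀ x ∈ orth C.pre.hf (line α c), x ∈ orth C.pre.hf S → mv h x = x) ∧
      (∀ x, mv h x - x ∈ line α c ⊔ S) ∧ (∀ x ∈ line α c ⊓ S, mv h x = x) := by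
    intro h hh
    induction hh using Subgroup.closure_induction with
    | mem h hh =>
      rcases hh with hh | hh
      · obtain ⟨s, hs, hx⟩ := hh
        refine ⟨hH₀M h ⟨s, hs, hx⟩, fun x hx' _ => ?_, fun x => ?_, fun x hx' => ?_⟩
        · rw [hx, (mem_orth_line h₁ h₂).1 hx', ten_zero_left, smul_zero, add_zero]
        · rw [hx, add_sub_cancel_left]
          exact Submodule.mem_sup_left (Submodule.smul_mem _ _ (ten_mem_line _ _))
        · rw [hx, ctr_line (by rw [frow_dot h₂, hiso]) hx'.1, ten_zero_left, smul_zero, add_zero]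
      · rw [Set.mem_singleton_iff.1 hh]
        refine ⟨hu, fun x _ hx => hufix x hx, fun x => ?_, fun x hx => hufix x (hS hx.2)⟩
        rw [← dev_apply]
        exact Submodule.mem_sup_right (hurange ▸ LinearMap.mem_range_self _ x)
    | one => exact ⟨M.one_mem, fun x _ _ => mv_one x, fun x => by simp [mv_one], fun x _ => mv_one x⟩
    | mul g h _ _ hg hh =>
      refine ⟨M.mul_mem hg.1 hh.1, fun x h1 h2 => by rw [mv_mul, hh.2.1 x h1 h2, hg.2.1 x h1 h2], fun x => ?_,
        fun x hx => by rw [mv_mul, hh.2.2.2 x hx, hg.2.2.2 x hx]⟩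
      rw [mv_mul, show mv g (mv h x) - x = (mv g (mv h x) - mv h x) + (mv h x - x) by abel]
      exact Submodule.add_mem _ (hg.2.2.1 _) (hh.2.2.1 x)
    | inv g _ hg =>
      refine ⟨M.inv_mem hg.1, fun x h1 h2 => by conv_lhs => rw [← hg.2.1 x h1 h2, mv_inv_mv], fun x => ?_,
        fun x hx => by conv_lhs => rw [← hg.2.2.2 x hx, mv_inv_mv]⟩
      have := Submodule.neg_mem _ (hg.2.2.1 (mv g⁻¹ x))
      rwa [mv_mv_inv, neg_sub] at this
  by_cases hex : ∃ k ∈ G, (∀ v, mv k (ten v c) ∈ line α c) ∧ ∃ x ∈ orth C.pre.hf (line α c), mv k x ≠ x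
  · obtain ⟨k, hk, hkR, hknr⟩ := hex
    obtain ⟨p1, p2, p3, p4⟩ := hprop k hk
    exact Or.inr (stab_bound C hdim hc hiso p1 hkR p2 p3 p4 hknr hcase)
  push Not at hex
  left
  -- transfer
  obtain ⟨p, hp⟩ := CharP.exists F
  haveI := hp
  haveI : Fact p.Prime := ⟨CharP.char_is_prime F p⟩
  haveI : Nonempty (α × β) := by
    obtain ⟨b⟩ : Nonempty β := Fintype.card_pos_iff.1 (by have := C.hm; omega)
    exact ‹Nonempty α›.map fun a => (a, b)
  obtain ⟨d, -, -, hdc⟩ := exists_norm_d C.pre hc hiso
  obtain ⟨i₀⟩ := ‹Nonempty α›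
  set v₀ : α → F := Pi.single i₀ 1 with hv₀
  have hne : ∀ s : F, s • ten v₀ c = 0 → s = 0 := fun s h =>
    (smul_eq_zero.1 h).resolve_right (ten_ne_zero (by simp [v₀]) hc)
  have hle : H₀ ≤ G := fun h hh => Subgroup.subset_closure (Or.inl hh)
  set H : Subgroup G := H₀.subgroupOf G with hH
  have mkH : ∀ s, σ s = -s → ∃ a : G, a ∈ H ∧ ∀ x, mv (a : GL (α × β) F) x = x + s • ten (ctr (frow f₂ c) x) c :=
    fun s hs => by
      have hm : kronGL (1 : GL α F) (htv h₂ c hiso s) ∈ H₀ := ⟨s, hs, fun x => mv_kronGL_htv C.pre c hiso s x⟩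
      exact ⟨⟨_, hle hm⟩, hm, fun x => mv_kronGL_htv C.pre c hiso s x⟩
  obtain ⟨s₀, hs0, hs₀⟩ := exists_anti h₂.ne_refl h₂.involutive
  obtain ⟨μ, hμ0, hμ⟩ := exists_norm_fixed_ne h₂.ne_refl h₂.involutive hq2
  obtain ⟨a, ha, hax⟩ := mkH s₀ hs₀
  obtain ⟨b, hb, hbx⟩ := mkH (μ * σ μ * s₀) (by rw [map_mul, map_mul, h₂.involutive, hs₀]; ring)
  have hμσ : μ * σ μ ≠ 0 := mul_ne_zero hμ0 ((map_ne_zero_iff σ σ.injective).2 hμ0)
  have heval : ∀ {x : G} {s : F}, (∀ y, mv (x : GL (α × β) F) y = y + s • ten (ctr (frow f₂ c) y) c) →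
      mv (x : GL (α × β) F) (ten v₀ d) = ten v₀ d + s • ten v₀ c := fun hx => by
    rw [hx, ctr_ten, frow_dot h₂, hdc, one_smul]
  have ha1 : a ≠ 1 := fun h => hs0 (hne _ (by
    have := heval hax
    rw [h, Subgroup.coe_one, mv_one] at this
    exact left_eq_add.1 this))
  have hb1 : b ≠ 1 := fun h => mul_ne_zero hμσ hs0 (hne _ (by
    have := heval hbx
    rw [h, Subgroup.coe_one, mv_one] at this
    exact left_eq_add.1 this))
  have hab : a ≠ b := fun h => by
    have e1 := heval hax
    rw [h, heval hbx, add_right_inj, ← sub_eq_zero, ← sub_smul] at e1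
    exact hμ (mul_right_cancel₀ hs0 (by rw [sub_eq_zero.1 (hne _ e1), one_mul]))
  have htop : H = ⊤ := by
    refine eq_top_of_quadratic_ti (p := p) ((Units.coeHom (Matrix (α × β) (α × β) F)).comp G.subtype)
      (fun x y h => Subtype.ext (Units.ext h)) ?_ ?_ ?_ ?_ (Or.inr ⟨a, ha, b, hb, ha1, hb1, hab⟩)
    · exact fun h => ha1 (by rw [h] at ha; exact Subgroup.mem_bot.1 ha)
    · rintro x ⟨s, -, hsx⟩ y ⟨s', -, hsy⟩
      refine Subtype.ext (ext_mv fun v => ?_)
      simp only [Subgroup.coe_mul, mv_mul]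
      simp only [Subgroup.coe_subtype] at hsx hsy
      rw [hsy, hsx, hsx, hsy]
      simp only [map_add, map_smul, ctr_ten, frow_dot h₂, hiso, zero_smul, smul_zero, add_zero]
      module
    · rintro x ⟨s, -, hsx⟩
      refine Matrix.ext_of_mulVec_single fun j => ?_
      simp only [Subgroup.coe_subtype] at hsx
      simp only [MonoidHom.coe_comp, Function.comp_apply, Units.coeHom_apply, Subgroup.coe_subtype,
        ← Matrix.mulVec_mulVec, Matrix.sub_mulVec, Matrix.one_mulVec, Matrix.zero_mulVec, Matrix.mulVec_sub]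
      have e1 : ∀ v, ((x : GL (α × β) F) : Matrix (α × β) (α × β) F) *ᵥ v = v + s • ten (ctr (frow f₂ c) v) c :=
        hsx
      rw [e1, e1, map_add, map_smul, ctr_ten, frow_dot h₂, hiso, zero_smul, smul_zero, add_zero]
      abel
    · rintro k ⟨s, hs, hsk⟩ hk1 h ⟨s', hs', hsh⟩
      simp only [Subgroup.coe_subtype] at hsk hsh
      have hs'0 : s' ≠ 0 := fun h0 => hk1 (by
        have e : h⁻¹ * k * h = 1 := Subtype.ext (ext_mv fun x => by
          rw [hsh, h0, zero_smul, add_zero, Subgroup.coe_one, mv_one])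
        calc k = h * (h⁻¹ * k * h) * h⁻¹ := by group
          _ = 1 := by rw [e, mul_one, mul_inv_cancel])
      have hstab : ∀ v, mv (h : GL (α × β) F) (ten v c) ∈ line α c := by
        intro v
        have e := congrArg (mv (h : GL (α × β) F)) (hsh (ten v d))
        simp only [Subgroup.coe_mul, Subgroup.coe_inv, mv_mul, mv_mv_inv] at e
        rw [hsk, mv_add, mv_smul, add_right_inj, ctr_ten, frow_dot h₂, hdc, one_smul] at e
        rw [show mv (h : GL (α × β) F) (ten v c) =
          (s'⁻¹ * s) • ten (ctr (frow f₂ c) (mv (h : GL (α × β) F) (ten v d))) c by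
          rw [mul_smul, e, smul_smul, inv_mul_cancel₀ hs'0, one_smul]]
        exact Submodule.smul_mem _ _ (ten_mem_line _ _)
      obtain ⟨r, hr, hrx⟩ := C.scalar c hc hiso _ (hprop _ h.2).1 fun x hx =>
        hex _ h.2 hstab x ((mem_orth_line h₁ h₂).2 hx)
      exact ⟨r, hr, hrx⟩
  have huG : u ∈ G := Subgroup.subset_closure (Or.inr rfl)
  have : (⟨u, huG⟩ : G) ∈ H := htop ▸ Subgroup.mem_top _
  obtain ⟨s, -, hsx⟩ := this
  refine Submodule.eq_of_le_of_finrank_eq ?_ (hdim.trans (finrank_line hc).symm)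
  rw [← hurange]
  rintro _ ⟨x, rfl⟩
  rw [dev_apply, show mv u x = x + s • ten (ctr (frow f₂ c) x) c from hsx x, add_sub_cancel_left]
  exact Submodule.smul_mem _ _ (ten_mem_line _ _)

end Cfsg.Agent.UWreath
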