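/-
The smallest field: an involution pair conjugate in the dihedral group.
-/
import Cfsg.Agent.Lib.UWreath.Stab

set_option autoImplicit false
set_option linter.unusedSectionVars false

namespace Cfsg.Agent.UWreath

open scoped Matrix Kronecker
open Matrix Cfsg.Agent.Transvec Cfsg.Agent.Transvec.Herm Cfsg.Agent.TensorMax Cfsg.Agent.TensorMax.U
open Cfsg.Agent.WreathMax

variable {F : Type*} [Field F] {σ : F ≃+* F}

theorem two_eq_zero_of_card [Finite F] (h : Nat.card (fixedField σ) = 2) : (2 : F) = 0 := by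
  classical
  haveI := Fintype.ofFinite (fixedField σ)
  rw [Nat.card_eq_fintype_card] at h
  have h2 : (2 : fixedField σ) = 0 := by
    have := FiniteField.cast_card_eq_zero (fixedField σ)
    rwa [h, Nat.cast_two] at this
  have := congrArg (fixedField σ).subtype h2
  rwa [map_ofNat, map_zero] at this

theorem add_self_zero (h2 : (2 : F) = 0) {V : Type*} [AddCommGroup V] [Module F V] (v : V) : v + v = 0 := by
  rw [← two_smul F v, h2, zero_smul]

theorem eq_one_of_sq (h2 : (2 : F) = 0) {a : F} (h : a * a = 1) : a = 1 := by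
  have : (a - 1) * (a - 1) = 0 := by linear_combination h - (a - 1) * h2
  exact sub_eq_zero.1 (mul_self_eq_zero.1 this)

theorem exists_sqrt_char_two [Finite F] (h2 : (2 : F) = 0) (b : F) : ∃ ν, ν * ν = b := by
  refine (Finite.injective_iff_surjective.1 fun x y (hxy : x * x = y * y) => ?_) b
  have : (x - y) * (x - y) = 0 := by linear_combination hxy + (y * y - x * y) * h2
  exact sub_eq_zero.1 (mul_self_eq_zero.1 this)

variable {α β : Type} [Fintype α] [DecidableEq α] [Fintype β] [DecidableEq β]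
variable {f₁ : (α → F) → (α → F) → F} {f₂ : (β → F) → (β → F) → F}
variable {M : Subgroup (GL (α × β) F)}

theorem blk_row {X : Submodule F (β → F)} {x : α × β → F} (hx : x ∈ blk α X) (i : α) :
    (fun l => x (i, l)) ∈ X := by
  by_contra hni
  obtain ⟨ψ, h1, h2⟩ := TensorMax.exists_dot hni
  have e := congrFun (hx ψ h1) i
  rw [ctr_apply, Pi.zero_apply] at e
  exact one_ne_zero (h2.symm.trans ((Finset.sum_congr rfl fun _ _ => mul_comm _ _).trans e))

theorem sum_rows (x : α × β → F) : x = ∑ i, ten (Pi.single i 1) (fun l => x (i, l)) :=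
  funext fun p => by simp [Finset.sum_apply, ten, Pi.single_apply]

theorem range_top_id (N : (β → F) →ₗ[F] β → F) :
    LinearMap.range (top (LinearMap.id : (α → F) →ₗ[F] α → F) N) = blk α (LinearMap.range N) := by
  refine le_antisymm ?_ fun x hx => ?_
  · rintro _ ⟨x, rfl⟩ φ hφ
    have e : ctr φ ∘ₗ top (LinearMap.id : (α → F) →ₗ[F] α → F) N = 0 := ext_ten fun u w => by
      rw [LinearMap.comp_apply, top_ten, ctr_ten, hφ _ ⟨w, rfl⟩, zero_smul, LinearMap.zero_apply]
    exact LinearMap.congr_fun e x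
  · rw [sum_rows x]
    refine Submodule.sum_mem _ fun i _ => ?_
    obtain ⟨y, hy⟩ := blk_row hx i
    exact ⟨ten (Pi.single i 1) y, by rw [top_ten, hy]; rfl⟩

theorem stab_range_of_comm {ι : Type} [Fintype ι] [DecidableEq ι] {z u : GL ι F} (h : z * u = u * z)
    {x : ι → F} (hx : x ∈ LinearMap.range (dev u)) : mv z x ∈ LinearMap.range (dev u) := by
  obtain ⟨y, rfl⟩ := hx
  exact ⟨mv z y, by rw [dev_apply, dev_apply, mv_sub, ← mv_mul, ← mv_mul, h]⟩

variable [Nonempty α] [Finite F]

/-- The odd dihedral case. -/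
theorem odd_case [Fintype F] (C : Split σ f₁ f₂ M) (hq : Nat.card (fixedField σ) = 2)
    {S : Submodule F (α × β → F)} (hS : S ≤ orth C.pre.hf S) (hdim : Module.finrank F S = Fintype.card α)
    {c : β → F} (hc : c ≠ 0) (hiso : f₂ c c = 0) {u : GL (α × β) F} (hu : u ∈ M) (huu : u * u = 1)
    (hufix : ∀ x ∈ orth C.pre.hf S, mv u x = x) (hurange : LinearMap.range (dev u) = S)
    (hT : S ⊓ orth C.pre.hf (line α c) ≤ line α c) {w : GL (α × β) F}
    (hwK : ∀ x ∈ orth C.pre.hf (line α c), x ∈ orth C.pre.hf S → mv w x = x) :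
    (∃ c₁ c₁' : β → F, c₁ ≠ 0 ∧ f₂ c₁ c₁ = 0 ∧ c₁' ≠ 0 ∧ (line α c₁).map (mvLin u) = line α c₁') ∨
      (line α c ⊓ S = ⊥ ∧ ∃ e : β → F, e ≠ 0 ∧ f₂ e e = 0 ∧ line α e ⊓ (line α e).map (mvLin w) ≠ ⊥) := by
  classical
  have h₁ := C.pre.h₁
  have h₂ := C.pre.h₂
  have two : (2 : F) = 0 := two_eq_zero_of_card hq
  have hb4 : 4 ≤ Fintype.card β := C.hq.resolve_right (not_not_intro hq)
  obtain ⟨i₀⟩ := ‹Nonempty α›
  set u₀ : α → F := Pi.single i₀ 1 with hu₀
  have hu₀0 : u₀ ≠ 0 := by simp [u₀]
  -- the plane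
  obtain ⟨d, hdd, hcd, hdc⟩ := exists_norm_d C.pre hc hiso
  obtain ⟨hn, h2⟩ := nondeg_pair h₂ hiso hdd hcd
  have hsum := finrank_orth_add h₂ hn
  rw [h2, Module.finrank_fintype_fun_eq_card] at hsum
  obtain ⟨v, hv, hv0, hvv⟩ := exists_isotropic h₂ (nondeg_orth h₂ hn) (by omega)
  obtain ⟨dv, hdv, hvdv, -⟩ := exists_partner h₂ (nondeg_orth h₂ hn) hv hv0 hvv
  have hcv : f₂ c v = 0 := hv c (Submodule.subset_span (Set.mem_insert _ _))
  have hvc := (f_eq_zero_comm h₂).1 hcv
  have hcdv : f₂ c dv = 0 := hdv c (Submodule.subset_span (Set.mem_insert _ _))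
  have hdvv : f₂ dv v = 1 := by rw [h₂.herm, hvdv, map_one]
  have hdvc : f₂ dv c = 0 := (f_eq_zero_comm h₂).1 hcdv
  have hdv' : f₂ d v = 0 := hv d (Submodule.subset_span (Set.mem_insert_of_mem _ rfl))
  have hcv' : v ∉ Submodule.span F {c} := fun h => by
    obtain ⟨a, ha⟩ := Submodule.mem_span_singleton.1 h
    rw [← ha, h₂.smul_left, hcdv, mul_zero] at hvdv
    exact zero_ne_one hvdv
  set E : Submodule F (β → F) := Submodule.span F {c, v} with hE
  have hcE : c ∈ E := Submodule.subset_span (Set.mem_insert _ _)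
  have hvE : v ∈ E := Submodule.subset_span (Set.mem_insert_of_mem _ rfl)
  have hEiso : ∀ a ∈ E, ∀ b ∈ E, f₂ a b = 0 := by
    intro a ha b hb
    obtain ⟨p, q, rfl⟩ := Submodule.mem_span_pair.1 ha
    obtain ⟨p', q', rfl⟩ := Submodule.mem_span_pair.1 hb
    simp [h₂.add_left, Herm.add_right h₂, h₂.smul_left, Herm.smul_right h₂, hiso, hvv, hcv, hvc]
  have hE2 : 2 ≤ Module.finrank F E := by
    have hlt : Submodule.span F {c} < E :=
      lt_of_le_of_ne (Submodule.span_mono (by simp)) fun e => hcv' (e ▸ hvE)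
    have := Submodule.finrank_lt_finrank_of_lt hlt
    rw [finrank_span_singleton hc] at this
    omega
  set RE := blk α E with hRE
  have hREperp : ∀ x ∈ RE, x ∈ orth C.pre.hf RE := by
    intro x hx
    rw [mem_orth]
    intro y hy
    rw [sum_rows y, Herm.sum_left C.pre.hf]
    refine Finset.sum_eq_zero fun i _ => ?_
    rw [sum_rows x, Herm.sum_right C.pre.hf]
    refine Finset.sum_eq_zero fun j _ => ?_
    rw [tf_ten h₁ h₂, hEiso _ (blk_row hy i) _ (blk_row hx j), mul_zero]
  have hline : line α c ≤ RE := fun x hx => by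
    obtain ⟨r, rfl⟩ := mem_line.1 hx
    exact ten_mem_blk r hcE
  have hRdim : Module.finrank F (line α c) = Fintype.card α := finrank_line hc
  set D := line α c ⊓ S with hDdef
  have hSperp : S ⊓ orth C.pre.hf RE ≤ D := fun x hx => ⟨hT ⟨hx.1, fun y hy => hx.2 y (hline hy)⟩, hx.1⟩
  have hDle : D ≤ S ⊓ orth C.pre.hf RE := fun x hx => ⟨hx.2, hREperp x (hline hx.1)⟩
  -- the second involution
  obtain ⟨s₀, hs0, hs₀⟩ := exists_anti h₂.ne_refl h₂.involutive
  set Tv := htv h₂ c hiso s₀ * htv h₂ v hvv s₀ with hTv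
  have hTvx : ∀ y, mv Tv y = y + (s₀ * f₂ y c) • c + (s₀ * f₂ y v) • v := fun y => by
    rw [hTv, mv_mul, mv_htv, mv_htv, h₂.add_left, h₂.smul_left, hvc, mul_zero, add_zero]
    module
  set N : (β → F) →ₗ[F] β → F := s₀ • nop h₂ c + s₀ • nop h₂ v with hN
  have hTvN : ∀ y, mv Tv y = y + N y := fun y => by
    rw [hTvx, hN, LinearMap.add_apply, LinearMap.smul_apply, LinearMap.smul_apply, nop_apply, nop_apply]
    module
  set uu := kronGL (1 : GL α F) Tv with huuDef
  have huuM : uu ∈ M := C.pre.memW _ (Subgroup.mul_mem _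
    ⟨htv_mem h₂ c hiso hs₀, htv_mem_specialLinear h₂ c hiso s₀⟩
    ⟨htv_mem h₂ v hvv hs₀, htv_mem_specialLinear h₂ v hvv s₀⟩)
  have huudev : dev uu = top LinearMap.id N := ext_ten fun r y => by
    rw [dev_apply, huuDef, mv_kronGL, mv_one, hTvN, top_ten, ten_add_right, add_sub_cancel_left]
    rfl
  have hNrange : LinearMap.range N = E := by
    refine le_antisymm ?_ ?_
    · rintro _ ⟨y, rfl⟩
      simp only [hN, LinearMap.add_apply, LinearMap.smul_apply, nop_apply]
      exact E.add_mem (E.smul_mem _ (E.smul_mem _ hcE)) (E.smul_mem _ (E.smul_mem _ hvE))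
    · rw [hE, Submodule.span_le]
      rintro y (rfl | rfl)
      · exact ⟨s₀⁻¹ • d, by simp [hN, hdc, hdv', h₂.smul_left, smul_smul, hs0]⟩
      · exact ⟨s₀⁻¹ • dv, by simp [hN, hdvc, hdvv, h₂.smul_left, smul_smul, hs0]⟩
  have huurange : LinearMap.range (dev uu) = RE := by rw [huudev, range_top_id, hNrange]
  have hNN : ∀ y, N (N y) = 0 := fun y => by
    simp [hN, h₂.add_left, h₂.smul_left, hiso, hvv, hcv, hvc]
  have huu2 : uu * uu = 1 := ext_mv fun x => by
    have e : ∀ z, mv uu z = z + top LinearMap.id N z := fun z => by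
      rw [← huudev, dev_apply, add_sub_cancel]
    rw [mv_mul, e, e, mv_one, map_add]
    have h0 : top (LinearMap.id : (α → F) →ₗ[F] α → F) N (top LinearMap.id N x) = 0 := by
      have e1 : top (LinearMap.id : (α → F) →ₗ[F] α → F) N ∘ₗ top LinearMap.id N = 0 := by
        rw [top_comp]
        exact ext_ten fun r y => by simp [hNN, ten_zero_right]
      exact LinearMap.congr_fun e1 x
    rw [h0, add_zero, add_assoc, add_self_zero two, add_zero]
  -- the central involution
  have hnc : ∀ g ∈ Subgroup.closure ({u, uu} : Set (GL (α × β) F)), g * uu * g⁻¹ ≠ u := by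
    intro g _ e
    have h1 : LinearMap.range (dev u) = (LinearMap.range (dev uu)).map (mvLin g) := by
      rw [← range_dev_conj, e]
    have h3 := congrArg (fun X : Submodule F (α × β → F) => Module.finrank F X) h1
    rw [hurange, hdim, WreathMax.finrank_map_gl, huurange] at h3
    have h4 : line α c < RE := by
      refine lt_of_le_of_ne hline fun e4 => ?_
      have hm : ten u₀ v ∈ line α c := by rw [e4, hRE]; exact ten_mem_blk u₀ hvE
      obtain ⟨r, hr⟩ := mem_line.1 hm
      obtain ⟨φ, hφ1, hφ2⟩ := exists_dot hcv'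
      have e5 := congrArg (ctr φ) hr
      rw [ctr_ten, ctr_ten, hφ1 c (Submodule.mem_span_singleton_self c), hφ2, zero_smul, one_smul] at e5
      exact hu₀0 e5.symm
    have := Submodule.finrank_lt_finrank_of_lt h4
    rw [hRdim] at this
    omega
  obtain ⟨z, hz, hz1, hzz, hzu, hzuu⟩ := exists_central_involution huu huu2 hnc
  have hprop : ∀ g ∈ Subgroup.closure ({u, uu} : Set (GL (α × β) F)),
      g ∈ M ∧ (∀ x ∈ orth C.pre.hf RE, x ∈ orth C.pre.hf S → mv g x = x) ∧
        (∀ x, mv g x - x ∈ RE ⊔ S) := by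
    intro g hg
    induction hg using Subgroup.closure_induction with
    | mem g hg =>
      rcases hg with rfl | rfl
      · refine ⟨hu, fun x _ hx => hufix x hx, fun x => ?_⟩
        rw [← dev_apply]
        exact Submodule.mem_sup_right (hurange ▸ LinearMap.mem_range_self _ x)
      · refine ⟨huuM, fun x hx _ => ?_, fun x => ?_⟩
        · rw [← sub_eq_zero, ← dev_apply]
          refine eq_zero_of_ctr fun φ => ?_
          obtain ⟨y, rfl⟩ := frow_surj h₂ φ
          rw [huudev]
          have e : ∀ a : β → F, a ∈ E → ctr (frow f₂ a) x = 0 := fun a ha => by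
            have : x ∈ orth C.pre.hf (line α a) := fun z hz => by
              obtain ⟨r, rfl⟩ := mem_line.1 hz
              exact hx _ (ten_mem_blk r ha)
            exact (mem_orth_line h₁ h₂).1 this
          have e2 : top (LinearMap.id : (α → F) →ₗ[F] α → F) N =
              s₀ • (rho c).comp (ctr (frow f₂ c)) + s₀ • (rho v).comp (ctr (frow f₂ v)) :=
            ext_ten fun r b => by
              simp [hN, ctr_ten, frow_dot h₂, ten_add_right, ten_smul_right, ten_smul_left]
          rw [e2]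
          simp [e c hcE, e v hvE, ten_zero_left]
        · rw [← dev_apply]
          exact Submodule.mem_sup_left (huurange ▸ LinearMap.mem_range_self _ x)
    | one => exact ⟨M.one_mem, fun x _ _ => mv_one x, fun x => by simp [mv_one]⟩
    | mul g h _ _ hg hh =>
      refine ⟨M.mul_mem hg.1 hh.1, fun x a b => by rw [mv_mul, hh.2.1 x a b, hg.2.1 x a b], fun x => ?_⟩
      rw [mv_mul, show mv g (mv h x) - x = (mv g (mv h x) - mv h x) + (mv h x - x) by abel]
      exact Submodule.add_mem _ (hg.2.2 _) (hh.2.2 x)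
    | inv g _ hg =>
      refine ⟨M.inv_mem hg.1, fun x a b => by conv_lhs => rw [← hg.2.1 x a b, mv_inv_mv], fun x => ?_⟩
      have := Submodule.neg_mem _ (hg.2.2 (mv g⁻¹ x))
      rwa [mv_mv_inv, neg_sub] at this
  obtain ⟨hzM, hzfix, hzdev⟩ := hprop z hz
  have hzRE : ∀ x ∈ RE, mv z x ∈ RE := fun x hx => by
    rw [← huurange] at hx ⊢
    exact stab_range_of_comm hzuu hx
  -- the factors of z
  have hzn : ∀ h ∈ M, z * h * z⁻¹ ∈ M := fun h hh => M.mul_mem (M.mul_mem hzM hh) (M.inv_mem hzM)
  have hzsim : ∀ x y, tf σ f₁ f₂ (mv z x) (mv z y) = 1 * tf σ f₁ f₂ x y := fun x y => by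
    rw [C.pre.iso hzM, one_mul]
  obtain ⟨c', hc'0, hc'iso, hc'⟩ :=
    line_of_block_stab C.pre C.scalar hEiso hE2 one_ne_zero hzsim hzn hzRE hcE hc
  obtain ⟨B, A, hBA⟩ := kron_of_stab C.hm C.pre C.pre C.scalar C.hq one_ne_zero hzsim hzn hc hiso hc'0
    hc'iso hc'
  have hzBA : z = kronGL B A := eq_kronGL hBA
  obtain ⟨θ, hθ⟩ := exists_dot_one hc
  set β₀ := θ ⬝ᵥ mv A (mv A c) with hβ₀
  have hsq : ∀ r y, ten (mv B (mv B r)) (mv A (mv A y)) = ten r y := fun r y => by
    rw [← mv_kronGL, ← mv_kronGL, ← hzBA, ← mv_mul, hzz, mv_one]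
  have hB2 : ∀ r, β₀ • mv B (mv B r) = r := fun r => by
    have e := congrArg (ctr θ) (hsq r c)
    rwa [ctr_ten, ctr_ten, hθ, one_smul] at e
  have hβ0 : β₀ ≠ 0 := fun h => by
    have := hB2 u₀
    rw [h, zero_smul] at this
    exact hu₀0 this.symm
  obtain ⟨ν, hν⟩ := exists_sqrt_char_two two β₀
  have hν0 : ν ≠ 0 := fun h => hβ0 (by rw [← hν, h, mul_zero])
  set Bl : (α → F) →ₗ[F] α → F := ν • mvLin B with hBl
  set Al : (β → F) →ₗ[F] β → F := ν⁻¹ • mvLin A with hAl
  have hk : ∀ r y, mv z (ten r y) = ten (Bl r) (Al y) := fun r y => by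
    rw [hzBA, mv_kronGL, hBl, hAl, LinearMap.smul_apply, LinearMap.smul_apply, Matrix.toLin'_apply,
      Matrix.toLin'_apply, ten_smul_left, ten_smul_right, smul_smul, mul_inv_cancel₀ hν0, one_smul]
  have hBl2 : ∀ r, Bl (Bl r) = r := fun r => by
    simp only [hBl, LinearMap.smul_apply, Matrix.toLin'_apply, map_smul, smul_smul]
    show (ν * ν) • mv B (mv B r) = r
    rw [hν, hB2]
  have hAl2 : ∀ y, Al (Al y) = y := fun y => by
    obtain ⟨ψ, hψ⟩ := exists_dot_one hu₀0
    have e : mv z (mv z (ten u₀ y)) = ten u₀ y := by rw [← mv_mul, hzz, mv_one]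
    rw [hk, hk, hBl2] at e
    have := congrArg (ctrL ψ) e
    rwa [ctrL_ten, ctrL_ten, hψ, one_smul, one_smul] at this
  obtain ⟨r₁, hr₁⟩ : ∃ r, f₁ u₀ r ≠ 0 := by
    by_contra hcon
    push Not at hcon
    exact hu₀0 (eq_zero_of_orth₁ C.pre hcon)
  have hBlne : ∀ r, r ≠ 0 → Bl r ≠ 0 := fun r hr h => hr (by rw [← hBl2 r, h, map_zero])
  have hAliso : ∀ y y', f₂ (Al y) (Al y') = f₂ y y' := by
    intro y y'
    set κ := f₁ (Bl u₀) (Bl r₁) / f₁ u₀ r₁ with hκ
    have hκ' : ∀ p q, κ * f₂ (Al p) (Al q) = f₂ p q := fun p q => by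
      have e := isometry_kron C.pre hzM hk u₀ r₁ p q
      rw [hκ, div_mul_eq_mul_div, div_eq_iff hr₁]
      linear_combination e
    have h2' := hκ' (Al y) (Al y')
    rw [hAl2, hAl2] at h2'
    by_cases hy : f₂ y y' = 0
    · rw [hy] at h2' ⊢
      rw [← h2', mul_zero]
    · have : (κ * κ - 1) * f₂ y y' = 0 := by
        rw [sub_mul, one_mul, sub_eq_zero, mul_assoc, h2', hκ']
      have hκ1 : κ = 1 := eq_one_of_sq two (sub_eq_zero.1 ((mul_eq_zero.1 this).resolve_right hy))
      rw [← h2', hκ1, one_mul]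
  have hAlE : ∀ y ∈ E, Al y ∈ E := by
    intro y hy
    by_contra hni
    obtain ⟨φ, hφ1, hφ2⟩ := exists_dot hni
    have e := hzRE _ (ten_mem_blk u₀ hy) φ hφ1
    rw [hk, ctr_ten, hφ2, one_smul] at e
    exact hBlne u₀ hu₀0 e
  have hKfix : ∀ x ∈ RE, x ∈ orth C.pre.hf S → mv z x = x := fun x hx hx' => hzfix x (hREperp x hx) hx'
  by_cases hB1 : ∀ r, Bl r = r
  · -- z is an isometry of the second factor
    left
    have hzdev : dev z = top LinearMap.id (Al - LinearMap.id) := ext_ten fun r y => by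
      rw [dev_apply, hk, hB1, top_ten, LinearMap.sub_apply, LinearMap.id_apply, LinearMap.id_apply]
      exact (map_sub (lam r) _ _).symm
    set X := LinearMap.range (Al - LinearMap.id) with hX
    have hXiso : ∀ a ∈ X, ∀ b ∈ X, f₂ a b = 0 := by
      rintro _ ⟨p, rfl⟩ _ ⟨q, rfl⟩
      have e1 : f₂ (Al p) q = f₂ p (Al q) := by rw [← hAliso (Al p) q, hAl2]
      simp only [LinearMap.sub_apply, LinearMap.id_apply, Herm.sub_left h₂, Herm.sub_right h₂, hAliso, e1]
      linear_combination (f₂ p q - f₂ p (Al q)) * two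
    have hurX : ∀ x ∈ blk α X, mv u x ∈ blk α X := fun x hx => by
      rw [hX, ← range_top_id, ← hzdev] at hx ⊢
      exact stab_range_of_comm hzu.symm hx
    have hX0 : X ≠ ⊥ := fun h => hz1 (dev_eq_zero.1 (by
      rw [hzdev, LinearMap.range_eq_bot.1 h]
      exact ext_ten fun r y => by simp [ten_zero_right]))
    obtain ⟨c₁, hc₁, hc₁0⟩ := Submodule.exists_mem_ne_zero_of_ne_bot hX0
    have himg : ∀ c₁', c₁' ≠ 0 → (∀ r, mv u (ten r c₁) ∈ line α c₁') →
        (line α c₁).map (mvLin u) = line α c₁' := fun c₁' h0 h => by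
      refine Submodule.eq_of_le_of_finrank_le (fun x hx => ?_) (by
        rw [TensorMax.finrank_map_mv, finrank_line hc₁0, finrank_line h0])
      obtain ⟨y, hy, rfl⟩ := mem_map_mv.1 hx
      obtain ⟨r, rfl⟩ := mem_line.1 hy
      exact h r
    by_cases hX2 : 2 ≤ Module.finrank F X
    · obtain ⟨c₁', h0, -, h⟩ := line_of_block_stab C.pre C.scalar hXiso hX2 one_ne_zero
        (fun x y => by rw [C.pre.iso hu, one_mul])
        (fun h hh => M.mul_mem (M.mul_mem hu hh) (M.inv_mem hu)) hurX hc₁ hc₁0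
      exact ⟨c₁, c₁', hc₁0, hXiso _ hc₁ _ hc₁, h0, himg c₁' h0 h⟩
    · have hXle : X ≤ Submodule.span F {c₁} := by
        refine le_of_eq (Submodule.eq_of_le_of_finrank_le ((Submodule.span_singleton_le_iff_mem _ _).2 hc₁) ?_).symm
        rw [finrank_span_singleton hc₁0]
        omega
      exact ⟨c₁, c₁, hc₁0, hXiso _ hc₁ _ hc₁, hc₁0,
        himg c₁ hc₁0 fun r => blk_le_line hc₁0 hXle (hurX _ (ten_mem_blk r hc₁))⟩
  -- otherwise the dimension of the second factor is four
  have hperpE : ∀ y, f₂ y c = 0 → f₂ y v = 0 → y ∈ E := by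
    intro y hyc hyv
    by_contra hyE
    obtain ⟨φ, hφ1, hφ2⟩ := exists_dot hyE
    apply hB1
    have hin : ∀ r, ctr φ (mv z (ten r y) - ten r y) = 0 := by
      intro r
      have hry : ten r y ∈ orth C.pre.hf RE := fun x hx => by
        rw [sum_rows x, Herm.sum_left C.pre.hf]
        refine Finset.sum_eq_zero fun i _ => ?_
        rw [tf_ten h₁ h₂]
        obtain ⟨p, q, hpq⟩ := Submodule.mem_span_pair.1 (blk_row hx i)
        rw [← hpq, h₂.add_left, h₂.smul_left, h₂.smul_left, (f_eq_zero_comm h₂).1 hyc,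
          (f_eq_zero_comm h₂).1 hyv]
        ring
      obtain ⟨p, hp, q, hq', hpq⟩ := Submodule.mem_sup.1 (hzdev (ten r y))
      have hq2 : q ∈ orth C.pre.hf RE := by
        rw [show q = (mv z (ten r y) - ten r y) - p by rw [← hpq, add_sub_cancel_left]]
        refine Submodule.sub_mem _ (Submodule.sub_mem _ (fun x hx => ?_) hry) (hREperp p hp)
        have hzi : ∀ x, mv z x = mv z⁻¹ x := fun x => by rw [inv_eq_of_mul_eq_one_right hzz]
        rw [← mv_mv_inv z x, C.pre.iso hzM]
        exact hry _ (hzi x ▸ hzRE x hx)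
      have : q ∈ RE := hline (hSperp ⟨hq', hq2⟩).1
      rw [← hpq]
      exact Submodule.add_mem _ hp this φ hφ1
    have hval : ∀ r, (φ ⬝ᵥ Al y) • Bl r = r := fun r => by
      have := hin r
      rwa [hk, map_sub, ctr_ten, ctr_ten, hφ2, one_smul, sub_eq_zero] at this
    intro r
    have h0 : φ ⬝ᵥ Al y = 1 := eq_one_of_sq two (by
      refine smul_left_injective F hu₀0 ?_
      show ((φ ⬝ᵥ Al y) * (φ ⬝ᵥ Al y)) • u₀ = (1 : F) • u₀
      rw [mul_smul]
      conv_lhs => arg 2; arg 2; rw [← hBl2 u₀]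
      rw [hval, hval, one_smul])
    have := hval r
    rwa [h0, one_smul] at this
  set K' := RE ⊓ orth C.pre.hf S with hK'
  have hK'dim : Fintype.card α + Module.finrank F D ≤ Module.finrank F K' := by
    have h := finrank_cross' C.pre.hf RE S
    rw [← hK', hdim, le_antisymm hSperp hDle] at h
    have h4 : 2 * Fintype.card α ≤ Module.finrank F RE := by
      set L : (α → F) × (α → F) →ₗ[F] RE := LinearMap.codRestrict _
        ((rho c).comp (LinearMap.fst F (α → F) (α → F)) + (rho v).comp (LinearMap.snd F (α → F) (α → F)))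
        fun p => Submodule.add_mem _ (ten_mem_blk _ hcE) (ten_mem_blk _ hvE)
      have hinj : Function.Injective L := by
        refine inj_cod ?_
        rw [← LinearMap.ker_eq_bot, LinearMap.ker_eq_bot']
        rintro ⟨r₁, r₂⟩ hr
        obtain ⟨φ, hφ1, hφ2⟩ := exists_dot hcv'
        have hr' : ten r₁ c + ten r₂ v = 0 := hr
        have e := congrArg (ctr φ) hr'
        rw [map_add, map_zero, ctr_ten, ctr_ten, hφ1 c (Submodule.mem_span_singleton_self c), hφ2, zero_smul,
          zero_add, one_smul] at e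
        rw [e, ten_zero_left, add_zero] at hr'
        rw [rho_injective hc (hr'.trans (map_zero (rho c)).symm), e]
        rfl
      have := LinearMap.finrank_le_finrank_of_injective hinj
      rw [Module.finrank_prod, Module.finrank_fintype_fun_eq_card] at this
      omega
    omega
  by_cases hAc : Al c ∈ Submodule.span F {c}
  · exfalso
    apply hB1
    obtain ⟨γ, hγ⟩ := Submodule.mem_span_singleton.1 hAc
    have hγ1 : γ = 1 := eq_one_of_sq two (by
      refine smul_left_injective F hc ?_
      show (γ * γ) • c = (1 : F) • c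
      rw [mul_smul, hγ, ← map_smul, hγ, hAl2, one_smul])
    rw [hγ1, one_smul] at hγ
    obtain ⟨p, q, hpq⟩ := Submodule.mem_span_pair.1 (hAlE v hvE)
    obtain ⟨φ, hφ1, hφ2⟩ := exists_dot hcv'
    have hφc := hφ1 c (Submodule.mem_span_singleton_self c)
    have hq1 : q = 1 := eq_one_of_sq two (by
      have e := congrArg (fun y => φ ⬝ᵥ y) (hAl2 v)
      rw [← hpq, map_add, map_smul, map_smul, ← hγ, ← hpq] at e
      simpa [dotProduct_add, dotProduct_smul, hφc, hφ2] using e)
    set Φ : (α × β → F) →ₗ[F] α → F := ctr φ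
    have h5 := LinearMap.finrank_range_add_finrank_ker (Φ.domRestrict K')
    have hker : Module.finrank F (LinearMap.ker (Φ.domRestrict K')) ≤
        Module.finrank F (line α c ⊓ orth C.pre.hf S : Submodule F (α × β → F)) := by
      refine LinearMap.finrank_le_finrank_of_injective (f := LinearMap.codRestrict _
        (K'.subtype.comp (LinearMap.ker (Φ.domRestrict K')).subtype) fun x => ?_) ?_
      · have hxK := (x : K').2
        refine ⟨mem_line_of_ctr hc fun ψ hψ => ?_, hxK.2⟩
        have h6 : ctr φ ((x : K') : α × β → F) = 0 := x.2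
        have hrest : ∀ a ∈ E, (ψ - (ψ ⬝ᵥ v) • φ) ⬝ᵥ a = 0 := fun a ha => by
          obtain ⟨p, q, rfl⟩ := Submodule.mem_span_pair.1 ha
          simp [sub_dotProduct, smul_dotProduct, dotProduct_add, dotProduct_smul, hψ, hφc, hφ2]
        have h7 := hxK.1 _ hrest
        rw [ctr_sub_vec, ctr_smul_vec, LinearMap.sub_apply, LinearMap.smul_apply, h6, smul_zero, sub_zero] at h7
        exact h7
      · intro x y h
        apply Subtype.ext
        apply Subtype.ext
        exact congrArg (fun t : (line α c ⊓ orth C.pre.hf S : Submodule F (α × β → F)) => (t : α × β → F)) h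
    have h8 := finrank_cross C.pre.hf (hRdim.trans hdim.symm)
    have h9 : Module.finrank F (S ⊓ orth C.pre.hf (line α c) : Submodule F (α × β → F)) ≤
        Module.finrank F D := Submodule.finrank_mono (fun x hx => ⟨hT hx, hx.1⟩)
    have htop : LinearMap.range (Φ.domRestrict K') = ⊤ := Submodule.eq_top_of_finrank_eq (by
      have := Submodule.finrank_le (LinearMap.range (Φ.domRestrict K'))
      rw [Module.finrank_fintype_fun_eq_card] at this ⊢
      omega)
    intro r
    obtain ⟨x, hx⟩ := LinearMap.range_eq_top.1 htop r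
    have e1 : ctr φ (mv z (x : α × β → F)) = r := by rw [hKfix _ x.2.1 x.2.2]; exact hx
    have e2 : ctr φ (mv z (x : α × β → F)) = Bl (ctr φ (x : α × β → F)) := by
      conv_lhs => rw [sum_rows (x : α × β → F)]
      conv_rhs => rw [sum_rows (x : α × β → F)]
      rw [mv_sum, map_sum, map_sum, map_sum]
      refine Finset.sum_congr rfl fun i _ => ?_
      obtain ⟨a, b, hab⟩ := Submodule.mem_span_pair.1 (blk_row x.2.1 i)
      rw [hk, ctr_ten, ctr_ten, ← hab, map_add, map_smul, map_smul, ← hγ, ← hpq, hq1, map_smul]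
      simp [dotProduct_add, dotProduct_smul, hφc, hφ2]
    have hx' : ctr φ (x : α × β → F) = r := hx
    rw [hx'] at e2
    exact e2.symm.trans e1
  · right
    set e := Al c + c with he
    have heE : e ∈ E := E.add_mem (hAlE c hcE) hcE
    have hec : e ∉ Submodule.span F {c} := fun h => hAc (by
      have := Submodule.sub_mem _ h (Submodule.mem_span_singleton_self c)
      rwa [he, add_sub_cancel_right] at this)
    have hEe : ∀ a ∈ E, ∃ p q : F, p • c + q • e = a := by
      intro a ha
      have hE2' : Submodule.span F {c, e} = E := by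
        refine Submodule.eq_of_le_of_finrank_le (Submodule.span_le.2 (by rintro y (rfl | rfl) <;> assumption)) ?_
        have hle : Module.finrank F E ≤ 2 := by
          refine le_trans (finrank_span_le_card _) ?_
          rw [Set.toFinset_insert, Set.toFinset_singleton]
          exact Finset.card_le_two
        have hlt : Submodule.span F {c} < Submodule.span F {c, e} :=
          lt_of_le_of_ne (Submodule.span_mono (by simp)) fun h => hec (h ▸
            Submodule.subset_span (Set.mem_insert_of_mem _ rfl))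
        have := Submodule.finrank_lt_finrank_of_lt hlt
        rw [finrank_span_singleton hc] at this
        omega
      exact Submodule.mem_span_pair.1 (hE2' ▸ ha)
    have hAlc : Al c = c + e := by rw [he, add_left_comm, add_self_zero two, add_zero]
    have hAle : Al e = e := by rw [he, map_add, hAl2, add_comm]
    obtain ⟨φe, hφe1, hφe2⟩ := exists_dot hec
    have hφec := hφe1 c (Submodule.mem_span_singleton_self c)
    have hce : c ∉ Submodule.span F {e} := fun h => by
      obtain ⟨a, ha⟩ := Submodule.mem_span_singleton.1 h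
      have := congrArg (fun y => φe ⬝ᵥ y) ha
      simp only [dotProduct_smul, hφe2, hφec, smul_eq_mul, mul_one] at this
      rw [this, zero_smul] at ha
      exact hc ha.symm
    obtain ⟨φc, hφc1, hφc2⟩ := exists_dot hce
    have hφce := hφc1 e (Submodule.mem_span_singleton_self e)
    have hdec : ∀ x ∈ RE, x = ten (ctr φc x) c + ten (ctr φe x) e := by
      intro x hx
      conv_lhs => rw [sum_rows x]
      conv_rhs => rw [sum_rows x]
      rw [map_sum, map_sum, ← rho_apply (c := c), ← rho_apply (c := e), map_sum, map_sum,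
        ← Finset.sum_add_distrib]
      refine Finset.sum_congr rfl fun i _ => ?_
      obtain ⟨p, q, hpq⟩ := hEe _ (blk_row hx i)
      simp only [rho_apply, ctr_ten, ← hpq, dotProduct_add, dotProduct_smul, hφc2, hφce, hφec, hφe2,
        smul_zero, add_zero, zero_add, smul_eq_mul, mul_one]
      rw [ten_add_right, ten_smul_right, ten_smul_right, ten_smul_left, ten_smul_left]
      module
    have hrel : ∀ x ∈ K', ctr φc x = ctr φe x + Bl (ctr φe x) := by
      intro x hx
      have e1 := hKfix x hx.1 hx.2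
      rw [hdec x hx.1, mv_add, hk, hk, hAlc, hAle, ten_add_right, add_assoc, ← ten_add_left] at e1
      set r := ctr φc x
      set q := ctr φe x
      have p1 := congrArg (ctr φc) e1
      have p2 := congrArg (ctr φe) e1
      rw [map_add, map_add, ctr_ten, ctr_ten, ctr_ten, ctr_ten, hφc2, hφce, one_smul, one_smul, zero_smul,
        zero_smul, add_zero, add_zero] at p1
      rw [map_add, map_add, ctr_ten, ctr_ten, ctr_ten, ctr_ten, hφe2, hφec, one_smul, one_smul, zero_smul,
        zero_smul, zero_add, zero_add] at p2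
      rw [p1] at p2
      rw [eq_sub_of_add_eq p2, sub_eq_add_neg, neg_eq_of_add_eq_zero_left (add_self_zero two (Bl q))]
    have hinj : Function.Injective ((ctr φe).domRestrict K') := by
      rw [← LinearMap.ker_eq_bot, LinearMap.ker_eq_bot']
      rintro ⟨x, hx⟩ h
      have h' : ctr φe x = 0 := h
      refine Subtype.ext ?_
      show x = 0
      rw [hdec x hx.1, hrel x hx, h', map_zero, add_zero, ten_zero_left, ten_zero_left, add_zero]
    have hle := LinearMap.finrank_le_finrank_of_injective hinj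
    rw [Module.finrank_fintype_fun_eq_card] at hle
    refine ⟨Submodule.finrank_eq_zero.1 (show Module.finrank F D = 0 by omega), e,
      fun h => hec (by rw [h]; exact zero_mem _), hEiso e heE e heE, ?_⟩
    have hsurj : LinearMap.range ((ctr φe).domRestrict K') = ⊤ := Submodule.eq_top_of_finrank_eq (by
      rw [LinearMap.finrank_range_of_inj hinj, Module.finrank_fintype_fun_eq_card]
      omega)
    push Not at hB1
    obtain ⟨r₀, hr₀⟩ := hB1
    set q := r₀ + Bl r₀ with hq'
    have hq0 : q ≠ 0 := fun h => hr₀ (by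
      have e1 := eq_neg_of_add_eq_zero_right h
      rwa [neg_eq_of_add_eq_zero_left (add_self_zero two r₀)] at e1)
    have hqB : Bl q = q := by rw [hq', map_add, hBl2, add_comm]
    obtain ⟨x, hx⟩ := LinearMap.range_eq_top.1 hsurj q
    have hx' : ctr φe (x : α × β → F) = q := hx
    have hxe : (x : α × β → F) = ten q e := by
      rw [hdec _ x.2.1, hrel _ x.2, hx', hqB, add_self_zero two, ten_zero_left, zero_add]
    have hS' : ten q e ∈ orth C.pre.hf S := hxe ▸ x.2.2
    have hR' : ten q e ∈ orth C.pre.hf (line α c) := by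
      rw [mem_orth_line h₁ h₂, ctr_ten, frow_dot h₂, hEiso e heE c hcE, zero_smul]
    intro hbot
    have hm : ten q e ∈ line α e ⊓ (line α e).map (mvLin w) :=
      ⟨ten_mem_line q e, mem_map_mv.2 ⟨_, ten_mem_line q e, hwK _ hR' hS'⟩⟩
    rw [hbot, Submodule.mem_bot] at hm
    exact ten_ne_zero hq0 (fun h => hec (by rw [h]; exact zero_mem _)) hm

end Cfsg.Agent.UWreath
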