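/-
The groups of first parts inherit the hypotheses; tools on monomial similitudes.
-/
import Cfsg.Agent.Lib.UWreath.Centres
import Cfsg.Agent.Lib.UWreath.Odd

set_option autoImplicit false
set_option linter.unusedSectionVars false

namespace Cfsg.Agent.UWreath

open scoped Matrix Kronecker
open Matrix Cfsg.Agent.Transvec Cfsg.Agent.Transvec.Herm Cfsg.Agent.TensorMax Cfsg.Agent.TensorMax.U
open Cfsg.Agent.WreathMax

variable {F : Type*} [Field F] [Finite F] {σ : F ≃+* F}
variable {J : Type} [Fintype J] [DecidableEq J] {m : ℕ} {f : (Fin m → F) → (Fin m → F) → F}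

/-- A similitude normalising M. -/
def Nrm (σ : F ≃+* F) (f : (Fin m → F) → (Fin m → F) → F) (M : Subgroup (GL (J → Fin m) F))
    (g : GL (J → Fin m) F) : Prop :=
  (∃ τ : F, τ ≠ 0 ∧ ∀ x y, jf σ f (mv g x) (mv g y) = τ * jf σ f x y) ∧ ∀ h ∈ M, g * h * g⁻¹ ∈ M

theorem Nrm.of_mem {M : Subgroup (GL (J → Fin m) F)} (hM : M ≤ jIso σ f J) {g : GL (J → Fin m) F}
    (hg : g ∈ M) : Nrm σ f M g :=
  ⟨⟨1, one_ne_zero, fun x y => by rw [one_mul]; exact hM hg x y⟩,
    fun _ hh => M.mul_mem (M.mul_mem hg hh) (M.inv_mem hg)⟩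

theorem Nrm.mul {M : Subgroup (GL (J → Fin m) F)} {g h : GL (J → Fin m) F} (hg : Nrm σ f M g)
    (hh : Nrm σ f M h) : Nrm σ f M (g * h) := by
  obtain ⟨⟨a, ha, hga⟩, hgn⟩ := hg
  obtain ⟨⟨b, hb, hhb⟩, hhn⟩ := hh
  refine ⟨⟨a * b, mul_ne_zero ha hb, fun x y => by rw [mv_mul, mv_mul, hga, hhb, mul_assoc]⟩,
    fun k hk => ?_⟩
  rw [show g * h * k * (g * h)⁻¹ = g * (h * k * h⁻¹) * g⁻¹ by group]
  exact hgn _ (hhn k hk)

theorem Nrm.inv {M : Subgroup (GL (J → Fin m) F)} {g : GL (J → Fin m) F} (hg : Nrm σ f M g) :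
    Nrm σ f M g⁻¹ := by
  obtain ⟨⟨a, ha, hga⟩, hgn⟩ := hg
  refine ⟨⟨a⁻¹, inv_ne_zero ha, fun x y => by
    rw [eq_inv_mul_iff_mul_eq₀ ha, ← hga, mv_mv_inv, mv_mv_inv]⟩, fun k hk => ?_⟩
  let φ : M → M := fun h => ⟨g * h * g⁻¹, hgn _ h.2⟩
  have hinj : Function.Injective φ := fun x y h => by
    have := congrArg Subtype.val h
    simp only [φ, mul_left_inj, mul_right_inj] at this
    exact Subtype.ext this
  obtain ⟨⟨h, hh⟩, hφ⟩ := Finite.surjective_of_injective hinj ⟨k, hk⟩
  have : g * h * g⁻¹ = k := congrArg Subtype.val hφ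
  rw [inv_inv, ← this, show g⁻¹ * (g * h * g⁻¹) * g = h by group]
  exact hh

theorem Nrm.iso {M : Subgroup (GL (J → Fin m) F)} {g : GL (J → Fin m) F} (hg : Nrm σ f M g) (i : J) :
    ∃ τ : F, τ ≠ 0 ∧ ∀ x y, tf σ (jf (J := {j // j ≠ i}) σ f) f (mv (tg i m F g) x) (mv (tg i m F g) y) =
      τ * tf σ (jf (J := {j // j ≠ i}) σ f) f x y := by
  obtain ⟨⟨a, ha, hga⟩, -⟩ := hg
  refine ⟨a, ha, fun x y => ?_⟩
  have e := hga ((push i).symm x) ((push i).symm y)
  rwa [jf_push i, jf_push i, ← mv_tg', ← mv_tg', LinearEquiv.apply_symm_apply,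
    LinearEquiv.apply_symm_apply] at e

theorem pm_mem_jIso (π : Equiv.Perm J) : (pm π : GL (J → Fin m) F) ∈ jIso σ f J := by
  rw [mem_jIso]
  intro x y
  simp only [jf, mv_pm]
  refine Fintype.sum_equiv (Equiv.arrowCongr π.symm (Equiv.refl (Fin m))) _ _ fun a => ?_
  refine Fintype.sum_equiv (Equiv.arrowCongr π.symm (Equiv.refl (Fin m))) _ _ fun b => ?_
  simp only [Equiv.arrowCongr_apply, Equiv.symm_symm, Equiv.coe_refl, Function.id_comp, Function.comp_apply]
  congr 2
  exact (Fintype.prod_equiv π _ _ fun j => rfl).symm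

theorem pm_inv (π : Equiv.Perm J) : (pm π : GL (J → Fin m) F)⁻¹ = pm π⁻¹ :=
  inv_eq_of_mul_eq_one_right (by rw [pm_mul, mul_inv_cancel, pm_one])

theorem fac_conj_pm (π : Equiv.Perm J) (q : J) (A : GL (Fin m) F) :
    (pm π : GL (J → Fin m) F) * fac q A * (pm π)⁻¹ = fac (π q) A := by
  rw [mul_inv_eq_iff_eq_mul]
  refine ext_pten fun y => ?_
  rw [mv_mul, mv_mul, mv_fac, mv_pm_pten, mv_pm_pten, mv_fac]
  refine congrArg pten (funext fun j => ?_)
  rcases eq_or_ne j (π q) with rfl | h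
  · simp
  · rw [Function.update_of_ne h, Function.update_of_ne fun e => h (by rw [← e]; simp)]

theorem mono_of_single [Unique J] (B : GL (J → Fin m) F) : Mono B := by
  classical
  set e := Equiv.funUnique J (Fin m) with he
  set A : GL (Fin m) F := Geo.glReindex e B with hA
  refine ⟨1, fun _ => A, fun y => ?_⟩
  funext a
  simp only [pten, Fintype.prod_unique, mv, Matrix.mulVec, dotProduct]
  refine Fintype.sum_equiv e _ _ fun b => ?_
  show _ = (B : Matrix (J → Fin m) (J → Fin m) F) (e.symm (a default)) (e.symm (e b)) * _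
  rw [Equiv.symm_apply_apply, show e.symm (a default) = a from e.injective (by simp [he])]
  simp [he]

/-- A map with a moved factor has displacement larger than a line when m is at least four. -/
theorem rank_gt_of_moved (hm : 4 ≤ m) {π : Equiv.Perm J} {g : GL (J → Fin m) F} (hg : MonoOf π g)
    (hπ : π ≠ 1) : m ^ Fintype.card J < m * Module.finrank F (LinearMap.range (dev g)) := by
  classical
  haveI : NeZero m := ⟨by omega⟩
  obtain ⟨A, hA⟩ := hg
  obtain ⟨k, hk⟩ : ∃ k, π k ≠ k := by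
    by_contra hcon
    push Not at hcon
    exact hπ (Equiv.ext hcon)
  set j := π k with hj
  have hjk : j ≠ k := hk
  obtain ⟨n, hn⟩ : ∃ n, m = n + 4 := ⟨m - 4, by omega⟩
  subst hn
  have f01 : (0 : Fin (n + 4)) ≠ 1 := by simp [Fin.ext_iff, Nat.mod_eq_of_lt]
  have f20 : (2 : Fin (n + 4)) ≠ 0 := by simp [Fin.ext_iff, Fin.val_ofNat, Nat.mod_eq_of_lt]
  have f21 : (2 : Fin (n + 4)) ≠ 1 := by simp [Fin.ext_iff, Fin.val_ofNat, Nat.mod_eq_of_lt]
  have f30 : (3 : Fin (n + 4)) ≠ 0 := by simp [Fin.ext_iff, Fin.val_ofNat, Nat.mod_eq_of_lt]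
  have f31 : (3 : Fin (n + 4)) ≠ 1 := by simp [Fin.ext_iff, Fin.val_ofNat, Nat.mod_eq_of_lt]
  have f32 : (3 : Fin (n + 4)) ≠ 2 := by simp [Fin.ext_iff, Fin.val_ofNat, Nat.mod_eq_of_lt]
  set D : GL (J → Fin (n + 4)) F := fac k (A k) with hD
  set h := D⁻¹ * g * D with hh
  have H : ∀ x : J → Fin (n + 4) → F, ∃ y, mv h (pten x) = pten y ∧ y k = x j := fun x =>
    ⟨_, by rw [hh, hD, mv_mul, mv_mul, mv_fac, hA, fac_inv, mv_fac], by simp [← hj, hjk, mv_inv_mv]⟩
  have hrk : Module.finrank F (LinearMap.range (dev h)) = Module.finrank F (LinearMap.range (dev g)) := by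
    have : LinearMap.range (dev h) = (LinearMap.range (dev g)).map (mvLin D⁻¹) := by
      rw [← range_dev_conj, inv_inv]
    rw [this, WreathMax.finrank_map_gl]
  set a₁ : J → Fin (n + 4) := Function.update (fun _ => 2) k 3 with ha₁
  have hnot : a₁ ∉ Finset.univ.image (countMap (m := n + 4) j k) := fun ha => by
    obtain ⟨r, -, hr⟩ := Finset.mem_image.1 ha
    rcases countMap_spec (by omega) hjk r with ⟨h1, -⟩ | ⟨h1, -⟩ <;>
      · rw [hr, ha₁, Function.update_of_ne hjk] at h1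
        first | exact f20 h1 | exact f21 h1
  set P := insert a₁ (Finset.univ.image (countMap (m := n + 4) j k)) with hP
  have hmem : ∀ a ∈ P, (a j = 0 ∧ a k ≠ 0) ∨ (a j = 1 ∧ a k = 2) ∨ (a j = 2 ∧ a k = 3) := by
    intro a ha
    rcases Finset.mem_insert.1 ha with rfl | ha
    · exact Or.inr (Or.inr ⟨by rw [ha₁, Function.update_of_ne hjk], by rw [ha₁, Function.update_self]⟩)
    · obtain ⟨r, -, rfl⟩ := Finset.mem_image.1 ha
      rcases countMap_spec (by omega) hjk r with h | h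
      · exact Or.inl h
      · exact Or.inr (Or.inl h)
  have hle := card_le_rank_of_support P h (by
    intro z hz hfix
    have step : ∀ a, z a ≠ 0 → ∃ b, z b ≠ 0 ∧ b j = a k := fun a ha =>
      exists_of_mv_ne H (by rw [hfix]; exact ha)
    have h23 : ∀ a, z a ≠ 0 → a j ≠ 2 := by
      intro a ha h2
      obtain ⟨b, hb, hbj⟩ := step a ha
      rcases hmem a (hz a ha) with ⟨e, -⟩ | ⟨e, -⟩ | ⟨-, e⟩
      · exact f20 (h2.symm.trans e)
      · exact f21 (h2.symm.trans e)
      · rcases hmem b (hz b hb) with ⟨e', -⟩ | ⟨e', -⟩ | ⟨e', -⟩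
        · exact f30 (e.symm.trans (hbj.symm.trans e'))
        · exact f31 (e.symm.trans (hbj.symm.trans e'))
        · exact f32 (e.symm.trans (hbj.symm.trans e'))
    have hj0 : ∀ a, z a ≠ 0 → a j = 0 := by
      intro a ha
      rcases hmem a (hz a ha) with ⟨e, -⟩ | ⟨-, e⟩ | ⟨e, -⟩
      · exact e
      · obtain ⟨b, hb, hbj⟩ := step a ha
        exact absurd (hbj.trans e) (h23 b hb)
      · exact absurd e (h23 a ha)
    funext a
    by_contra ha
    obtain ⟨b, hb, hbj⟩ := step a ha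
    rcases hmem a (hz a ha) with ⟨-, e⟩ | ⟨e, -⟩ | ⟨e, -⟩
    · exact e (hbj.symm.trans (hj0 b hb))
    · exact f01 ((hj0 a ha).symm.trans e)
    · exact f20 (e.symm.trans (hj0 a ha)))
  rw [hP, Finset.card_insert_of_notMem hnot, Finset.card_image_of_injective _ (countMap_injective (by omega) hjk),
    Finset.card_univ, hrk] at hle
  have := Nat.mul_le_mul_left (n + 4) hle
  rw [Nat.mul_add, Nat.mul_comm (n + 4) (Fintype.card (Rest j (n + 4))), card_rest, Nat.mul_one] at this
  omega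

/-- The first parts in the splitting at i. -/
def leftGroup (σ : F ≃+* F) (f : (Fin m → F) → (Fin m → F) → F) (M : Subgroup (GL (J → Fin m) F))
    (i : J) : Subgroup (GL (Rest i m) F) where
  carrier := {B | B ∈ jIso σ f {j // j ≠ i} ∧ ∃ A : GL (Fin m) F, kronGL B A ∈ M.map (tg i m F).toMonoidHom}
  one_mem' := ⟨Subgroup.one_mem _, 1, by rw [kronGL_one]; exact one_mem _⟩
  mul_mem' := fun {B B'} ⟨hB, A, hA⟩ ⟨hB', A', hA'⟩ =>
    ⟨Subgroup.mul_mem _ hB hB', A * A', by rw [← kronGL_mul]; exact mul_mem hA hA'⟩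
  inv_mem' := fun {B} ⟨hB, A, hA⟩ =>
    ⟨Subgroup.inv_mem _ hB, A⁻¹, by rw [← kronGL_inv]; exact inv_mem hA⟩

theorem facU_left (hf : Geo.IsUnitaryForm σ f) {M : Subgroup (GL (J → Fin m) F)} (hG : FacU σ f M)
    (i : J) : FacU σ f (leftGroup σ f M i) := fun j A hA =>
  ⟨fac_mem_jIso hf j hA.1, 1, by rw [← tg_fac_other]; exact Subgroup.mem_map_of_mem _ (hG _ A hA)⟩

theorem perm_left {M : Subgroup (GL (J → Fin m) F)} (hP : PermMem M) (i : J) :
    PermMem (leftGroup σ f M i) := by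
  intro j k l hjk hjl hkl
  refine ⟨pm_mem_jIso _, 1, ?_⟩
  set a : J := (j : J) with ha
  set b : J := (k : J) with hb
  set c : J := (l : J) with hc
  have hab : a ≠ b := fun e => hjk (Subtype.ext e)
  have hac : a ≠ c := fun e => hjl (Subtype.ext e)
  have hbc : b ≠ c := fun e => hkl (Subtype.ext e)
  have hmem := Subgroup.mem_map_of_mem (tg i m F).toMonoidHom (hP a b c hab hac hbc)
  convert hmem using 1
  rw [MulEquiv.coe_toMonoidHom, ← (tg i m F).symm_apply_eq, eq_comm]
  refine ext_pten fun y => (push i).injective ?_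
  rw [← mv_tg i ((tg i m F).symm _), MulEquiv.apply_symm_apply, mv_pm_pten, push_pten, push_pten,
    mv_kronGL, mv_one, mv_pm_pten]
  have hcoe : ∀ (p q : {x // x ≠ i}) (x : {x // x ≠ i}),
      ((Equiv.swap p q x : {x // x ≠ i}) : J) = Equiv.swap (p : J) (q : J) (x : J) := fun p q x =>
    (Function.Injective.swap_apply Subtype.val_injective p q x).symm
  congr 1
  · refine congrArg pten (funext fun x => ?_)
    simp only [_root_.mul_inv_rev, Equiv.swap_inv, Equiv.Perm.mul_apply, hcoe, ha, hb, hc]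
  · simp [Equiv.swap_inv, Equiv.swap_apply_of_ne_of_ne, j.2.symm, k.2.symm, l.2.symm, ha, hb, hc]

theorem pre_tg (hf : Geo.IsUnitaryForm σ f) {M : Subgroup (GL (J → Fin m) F)} (hM : M ≤ jIso σ f J)
    (hG : FacU σ f M) (i : J) :
    Pre σ (jf (J := {j // j ≠ i}) σ f) f (M.map (tg i m F).toMonoidHom) where
  h₁ := jf_unitary hf _
  h₂ := hf
  le_iso := by
    rintro _ ⟨k, hk, rfl⟩
    exact (mem_jIso_tg i).1 (hM hk)
  memW B hB := by
    rw [← tg_fac]
    exact Subgroup.mem_map_of_mem _ (hG i B hB)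

theorem not_ex_left (hm : 3 ≤ m) (hf : Geo.IsUnitaryForm σ f) {M : Subgroup (GL (J → Fin m) F)}
    (hM : M ≤ jIso σ f J) (hG : FacU σ f M) (hEX : ¬ EX hf M) (i : J) :
    ¬ EX hf (leftGroup σ f M i) := by
  classical
  rintro ⟨S, x, r, hS2, hr, hx, B, ⟨-, A, hA⟩, hBx⟩
  obtain ⟨j, hj, l, hl, hjl⟩ := Finset.one_lt_card.1 hS2
  obtain ⟨d, -, hxd, hdd⟩ := exists_partner hf (nondeg_top hf) Submodule.mem_top (hx j hj).1 (hx j hj).2
  have hdx : f d (x j) = 1 := by rw [hf.herm, hxd, map_one]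
  have hd0 : d ≠ 0 := fun h => by rw [h, Herm.zero_left hf] at hdx; exact zero_ne_one hdx
  obtain ⟨T, hT, hTx⟩ := exists_move_su hf (by rw [Fintype.card_fin]; exact hm) (hx j hj).1 hd0 (hx j hj).2 hdd
  set u := fac j T with hu
  set M' := M.map (tg i m F).toMonoidHom with hM'
  have huM : kronGL u 1 ∈ M' := by
    rw [hu, ← tg_fac_other]
    exact Subgroup.mem_map_of_mem _ (hG _ T hT)
  set x' := Function.update x j d with hx'
  have hcomm : kronGL (B * u * B⁻¹ * u⁻¹) (1 : GL (Fin m) F) ∈ M' := by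
    have h1 := mul_mem (mul_mem (mul_mem hA huM) (inv_mem hA)) (inv_mem huM)
    rw [kronGL_inv, kronGL_inv, kronGL_mul, kronGL_mul, kronGL_mul] at h1
    simpa using h1
  set P := Pur hf S x with hP
  set P'' := Pur hf S x' with hP''
  have hzero : ∀ y y' : {q // q ≠ i} → Fin m → F, y l = x l → y' l = x l → Pur hf S y ∘ₗ Pur hf S y' = 0 := by
    intro y y' e e'
    rw [Pur, Pur, loc_comp]
    refine loc_eq_zero _ (j := l) ?_
    simp only [if_pos hl, e, e']
    exact nop_comp_eq_zero hf (hx l hl).2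
  have hx'l : x' l = x l := Function.update_of_ne (Ne.symm hjl) _ _
  have hconj : mvLin u ∘ₗ P ∘ₗ mvLin u⁻¹ = P'' := by
    rw [hu, hP, Pur, loc_conj_fac]
    refine loc_congr fun q => ?_
    rcases eq_or_ne q j with rfl | h
    · simp [hj, hx', nop_conj hf one_ne_zero (fun a b => (hT.1 a b).trans (one_mul _).symm), hTx]
    · simp [Function.update_of_ne h, hx', h]
  have hBinv : ∀ y, mv B⁻¹ y = y - r • P y := fun y => by
    rw [mv_eq_iff, inv_inv, hBx, map_sub, map_smul]
    have e := LinearMap.congr_fun (hzero x x rfl rfl) y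
    simp only [LinearMap.comp_apply, LinearMap.zero_apply] at e
    simp only [← hP, LinearMap.smul_apply] at e ⊢
    rw [e]
    module
  have hdev : Has M' (top (r • P - r • P'') (LinearMap.id : (Fin m → F) →ₗ[F] Fin m → F)) := by
    refine ⟨_, hcomm, fun v => ?_⟩
    have e : mvLin (kronGL (B * u * B⁻¹ * u⁻¹) (1 : GL (Fin m) F)) =
        LinearMap.id + top (r • P - r • P'') LinearMap.id := ext_ten fun a w => by
      rw [Matrix.toLin'_apply]
      show mv (kronGL _ _) (ten a w) = _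
      rw [mv_kronGL, mv_one, LinearMap.add_apply, top_ten, LinearMap.id_apply, LinearMap.id_apply,
        mv_mul, mv_mul, mv_mul, hBinv, mv_sub, mv_smul, mv_mv_inv]
      have e1 : mv u (P (mv u⁻¹ a)) = P'' a := by
        rw [← hconj]; simp [mv]
      rw [e1, hBx, ← ten_add_left]
      congr 1
      have e2 := LinearMap.congr_fun (hzero x x' rfl hx'l) a
      simp only [LinearMap.comp_apply, LinearMap.zero_apply] at e2
      rw [← hP, ← hP''] at e2
      simp only [LinearMap.smul_apply, LinearMap.sub_apply, map_sub, map_smul, e2]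
      module
    have := LinearMap.congr_fun e v
    rwa [Matrix.toLin'_apply] at this
  rw [has_tg] at hdev
  set S' := S.map (Function.Embedding.subtype _) with hS'
  have hli : (l : J) ≠ i := l.2
  set S₁ := S'.subtype (· ≠ (l : J)) with hS₁
  have hins : S' = insert (l : J) (S₁.map (Function.Embedding.subtype _)) := by
    ext q
    rcases eq_or_ne q (l : J) with rfl | h
    · simpa [hS'] using ⟨hli, hl⟩
    · simp only [Finset.mem_insert, h, false_or, Finset.mem_map, hS₁, Finset.mem_subtype,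
        Function.Embedding.coe_subtype]
      exact ⟨fun hq => ⟨⟨q, h⟩, hq, rfl⟩, fun ⟨_, hq, e⟩ => e ▸ hq⟩
  set y₁ : {q // q ≠ (l : J)} → Fin m → F := fun q => extX i 0 x q with hy₁
  set y₂ : {q // q ≠ (l : J)} → Fin m → F := fun q => extX i 0 x' q with hy₂
  have hsplit : ∀ y : {q // q ≠ i} → Fin m → F, y l = x l →
      pull i (top (Pur hf S y) (LinearMap.id : (Fin m → F) →ₗ[F] Fin m → F)) =
      pull (l : J) (top (Pur hf S₁ fun q => extX i 0 y q) (nop hf (x l))) := fun y hy => by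
    rw [pull_top_id, pull_pur, ← hS', hins]
    refine pur_congr hf fun q hq => ?_
    rcases eq_or_ne q (l : J) with rfl | h
    · simp [extX, hli, hy]
    · simp [extX, h]
  have hXl : Has (M.map (tg (l : J) m F).toMonoidHom)
      (top (r • Pur hf S₁ y₁ - r • Pur hf S₁ y₂) (nop hf (x l))) := by
    rw [has_tg]
    convert hdev using 1
    rw [sub_eq_add_neg, sub_eq_add_neg, top_add_left, top_add_left, top_neg_left, top_neg_left,
      top_smul_left, top_smul_left, top_smul_left, top_smul_left]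
    have hlin : ∀ (q : J) (X Y : (Rest q m × Fin m → F) →ₗ[F] Rest q m × Fin m → F) (a : F),
        pull q (a • X + -(a • Y)) = a • pull q X + -(a • pull q Y) := fun q X Y a =>
      LinearMap.ext fun v => by simp [pull]
    rw [hlin, hlin, hP, hP'', hsplit x rfl, hsplit x' hx'l]
  by_cases hC : CentreScalar σ f (M.map (tg (l : J) m F).toMonoidHom)
  swap
  · exact hEX (ex_of_not_centreScalar hm hf hM hG _ hC)
  obtain ⟨s, hs⟩ := centre_top (pre_tg hf hM hG _) hC (hx l hl).1 (hx l hl).2 hXl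
  set jl : {q // q ≠ (l : J)} := ⟨(j : J), fun e => hjl (Subtype.ext e)⟩ with hjl'
  have hjS : jl ∈ S₁ := by rw [hS₁, Finset.mem_subtype, hS']; exact Finset.mem_map.2 ⟨j, hj, rfl⟩
  have hy₁j : y₁ jl = x j := by
    have : extX i 0 x (j : J) = x j := by simp [extX, j.2]
    exact this
  have hy₂j : y₂ jl = d := by
    have : extX i 0 x' (j : J) = x' j := by simp [extX, j.2]
    exact this.trans (Function.update_self _ _ _)
  have hy₁₂ : ∀ q, q ≠ jl → y₂ q = y₁ q := fun q hq => by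
    show extX i 0 x' (q : J) = extX i 0 x (q : J)
    by_cases h : (q : J) = i
    · simp [extX, h]
    · simp only [extX, dif_neg h]
      exact Function.update_of_ne (fun e => hq (Subtype.ext (congrArg Subtype.val e : (q : J) = (j : J)))) _ _
  have hy₁v : ∀ q ∈ S₁, y₁ q ≠ 0 ∧ f (y₁ q) (y₁ q) = 0 := fun q hq => by
    rw [hS₁, Finset.mem_subtype, hS'] at hq
    obtain ⟨q', hq', e⟩ := Finset.mem_map.1 hq
    have : y₁ q = x q' := by
      show extX i 0 x (q : J) = x q'
      rw [← e]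
      simp [extX, q'.2]
    rw [this]
    exact hx q' hq'
  have hone : (fun _ : Fin m => (1 : F)) ≠ 0 := fun h => one_ne_zero (congrFun h ⟨0, by omega⟩)
  choose p hp using fun q : {q // q ∈ S₁} =>
    exists_partner hf (nondeg_top hf) Submodule.mem_top (hy₁v q q.2).1 (hy₁v q q.2).2
  have hpy : ∀ q, f (p q) (y₁ q.1) = 1 := fun q => by rw [hf.herm, (hp q).2.1, map_one]
  set z₀ : {q // q ≠ (l : J)} → Fin m → F := fun q => if hq : q ∈ S₁ then p ⟨q, hq⟩ else fun _ => 1
    with hz₀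
  have hz₀0 : ∀ q, z₀ q ≠ 0 := fun q => by
    by_cases hq : q ∈ S₁
    · rw [hz₀]
      simp only [dif_pos hq]
      intro h
      have := hpy ⟨q, hq⟩
      rw [h, Herm.zero_left hf] at this
      exact zero_ne_one this
    · simp only [hz₀, dif_neg hq]
      exact hone
  obtain ⟨w, hw0, hw1, hw2⟩ : ∃ w, w ≠ 0 ∧ f w (x j) = 0 ∧ f w d = 0 := by
    obtain ⟨hn, h2⟩ := nondeg_pair hf (hx j hj).2 hdd hxd
    have hsum := finrank_orth_add hf hn
    rw [h2, Module.finrank_fintype_fun_eq_card, Fintype.card_fin] at hsum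
    obtain ⟨w, hw, hw0⟩ := Submodule.exists_mem_ne_zero_of_ne_bot (p := orth hf (Submodule.span F {x j, d}))
      (fun h0 => by rw [h0, finrank_bot] at hsum; omega)
    exact ⟨w, hw0, (f_eq_zero_comm hf).1 (hw _ (Submodule.subset_span (Set.mem_insert _ _))),
      (f_eq_zero_comm hf).1 (hw _ (Submodule.subset_span (Set.mem_insert_of_mem _ rfl)))⟩
  have hvanish : ∀ y : {q // q ≠ (l : J)} → Fin m → F, ∀ z, f (z jl) (y jl) = 0 → Pur hf S₁ y (pten z) = 0 := by
    intro y z h
    rw [Pur, loc_pten]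
    funext b
    exact Finset.prod_eq_zero (Finset.mem_univ jl) (by simp [hjS, h])
  have hs0 : s = 0 := by
    set z := Function.update z₀ jl w with hz
    have hz0 : ∀ q, z q ≠ 0 := fun q => by
      rcases eq_or_ne q jl with rfl | h
      · simp [hz, hw0]
      · simp [hz, h, hz₀0]
    have e := hs (pten z)
    rw [LinearMap.sub_apply, LinearMap.smul_apply, LinearMap.smul_apply,
      hvanish y₁ z (by simp [hz, hy₁j, hw1]), hvanish y₂ z (by simp [hz, hy₂j, hw2]), smul_zero, sub_self,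
      eq_comm, smul_eq_zero] at e
    exact e.resolve_right (pten_ne_zero hz0)
  set z := Function.update z₀ jl d with hz
  have e := hs (pten z)
  rw [LinearMap.sub_apply, LinearMap.smul_apply, LinearMap.smul_apply, hs0,
    hvanish y₂ z (by simp [hz, hy₂j, hdd]), smul_zero, sub_zero, zero_smul, smul_eq_zero] at e
  have e' := e.resolve_left hr
  rw [Pur, loc_pten] at e'
  refine pten_ne_zero (fun q => ?_) e'
  by_cases hq : q ∈ S₁
  · rw [if_pos hq, nop_apply]
    refine smul_ne_zero ?_ (hy₁v q hq).1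
    rcases eq_or_ne q jl with rfl | h
    · rw [hz, Function.update_self, hy₁j, hdx]; exact one_ne_zero
    · rw [hz, Function.update_of_ne h, hz₀]
      simp only [dif_pos hq, hpy ⟨q, hq⟩]
      exact one_ne_zero
  · rw [if_neg hq, LinearMap.id_apply]
    rcases eq_or_ne q jl with rfl | h
    · rw [hz, Function.update_self]; exact hd0
    · rw [hz, Function.update_of_ne h]; exact hz₀0 q

end Cfsg.Agent.UWreath
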