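/-
Isotropic lines of the factors and the transvections along them; a similitude mapping one line to a line.
-/
import Cfsg.Agent.Lib.UWreath.Left
import Cfsg.Agent.Lib.WreathMax.Meet

set_option autoImplicit false
set_option linter.unusedSectionVars false

namespace Cfsg.Agent.UWreath

open scoped Matrix Kronecker
open Matrix Cfsg.Agent.Transvec Cfsg.Agent.Transvec.Herm Cfsg.Agent.TensorMax Cfsg.Agent.TensorMax.U
open Cfsg.Agent.WreathMax

variable {F : Type*} [Field F] [Finite F] {σ : F ≃+* F}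
variable {J : Type} [Fintype J] [DecidableEq J] {m : ℕ} {f : (Fin m → F) → (Fin m → F) → F}

theorem Ln_iso (hf : Geo.IsUnitaryForm σ f) (i : J) {c : Fin m → F} (hiso : f c c = 0)
    {x y : (J → Fin m) → F} (hx : x ∈ Ln i c) (hy : y ∈ Ln i c) : jf σ f x y = 0 := by
  obtain ⟨u, hu⟩ := mem_line.1 (mem_Ln.1 hx)
  obtain ⟨v, hv⟩ := mem_line.1 (mem_Ln.1 hy)
  rw [jf_push i, ← hu, ← hv, tf_ten (jf_unitary hf _) hf, hiso, mul_zero]

theorem orth_push (hf : Geo.IsUnitaryForm σ f) (i : J) (U : Submodule F ((J → Fin m) → F))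
    {x : (J → Fin m) → F} : x ∈ orth (jf_unitary hf J) U ↔
      push i x ∈ orth (tf_unitary (jf_unitary hf {j // j ≠ i}) hf) (U.map (push i).toLinearMap) := by
  rw [mem_orth, mem_orth]
  constructor
  · rintro h _ ⟨u, hu, rfl⟩
    rw [LinearEquiv.coe_coe, ← jf_push]
    exact h u hu
  · intro h u hu
    rw [jf_push i]
    exact h _ ⟨u, hu, rfl⟩

theorem orth_map (hf : Geo.IsUnitaryForm σ f) (i : J) (U : Submodule F ((J → Fin m) → F)) :
    (orth (jf_unitary hf J) U).map (push i).toLinearMap =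
      orth (tf_unitary (jf_unitary hf {j // j ≠ i}) hf) (U.map (push i).toLinearMap) := by
  ext y
  constructor
  · rintro ⟨x, hx, rfl⟩
    exact (orth_push hf i U).1 hx
  · intro h
    refine ⟨(push i).symm y, (orth_push hf i U).2 ?_, by simp⟩
    rwa [LinearEquiv.apply_symm_apply]

theorem mem_orth_Ln (hf : Geo.IsUnitaryForm σ f) {i : J} {c : Fin m → F} {x : (J → Fin m) → F} :
    x ∈ orth (jf_unitary hf J) (Ln i c) ↔ ctr (frow f c) (push i x) = 0 := by
  rw [orth_push hf i, map_push_Ln]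
  exact mem_orth_line (jf_unitary hf _) hf

theorem Ln_le_orth (hf : Geo.IsUnitaryForm σ f) (i : J) {c : Fin m → F} (hiso : f c c = 0) :
    Ln i c ≤ orth (jf_unitary hf J) (Ln i c) :=
  fun _ hx => (mem_orth (jf_unitary hf J)).2 fun _ hy => Ln_iso hf i hiso hy hx

variable {M : Subgroup (GL (J → Fin m) F)}

/-- Transvections of the factors are members. -/
theorem tcv_mem (hf : Geo.IsUnitaryForm σ f) (hG : FacU σ f M) (i : J) (c : Fin m → F) (hiso : f c c = 0)
    {s : F} (hs : σ s = -s) : fac i (htv hf c hiso s) ∈ M :=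
  hG i _ ⟨htv_mem hf c hiso hs, htv_mem_specialLinear hf c hiso s⟩

theorem push_tcv (hf : Geo.IsUnitaryForm σ f) (hM : M ≤ jIso σ f J) (hG : FacU σ f M) (i : J)
    (c : Fin m → F) (hiso : f c c = 0) (s : F) (x : (J → Fin m) → F) :
    push i (mv (fac i (htv hf c hiso s)) x) = push i x + s • ten (ctr (frow f c) (push i x)) c := by
  rw [← mv_tg, tg_fac]
  exact mv_kronGL_htv (pre_tg hf hM hG i) c hiso s _

theorem fix_tcv (hf : Geo.IsUnitaryForm σ f) (hM : M ≤ jIso σ f J) (hG : FacU σ f M) {i : J}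
    {c : Fin m → F} (hiso : f c c = 0) (s : F) {x : (J → Fin m) → F}
    (hx : x ∈ orth (jf_unitary hf J) (Ln i c)) : mv (fac i (htv hf c hiso s)) x = x := by
  apply (push i).injective
  rw [push_tcv hf hM hG, (mem_orth_Ln hf).1 hx, ten_zero_left, smul_zero, add_zero]

theorem range_dev_tcv (hf : Geo.IsUnitaryForm σ f) (hM : M ≤ jIso σ f J) (hG : FacU σ f M) (i : J)
    {c : Fin m → F} (hc : c ≠ 0) (hiso : f c c = 0) {s : F} (hs : s ≠ 0) :
    LinearMap.range (dev (fac i (htv hf c hiso s))) = Ln i c := by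
  refine le_antisymm ?_ fun x hx => ?_
  · rintro _ ⟨x, rfl⟩
    rw [mem_Ln, dev_apply, map_sub, push_tcv hf hM hG, add_sub_cancel_left]
    exact Submodule.smul_mem _ _ (ten_mem_line _ _)
  · obtain ⟨u, hu⟩ := mem_line.1 (mem_Ln.1 hx)
    obtain ⟨d, -, hcd, -⟩ := exists_partner hf (nondeg_top hf) Submodule.mem_top hc hiso
    have hdc : f d c = 1 := by rw [hf.herm, hcd, map_one]
    refine ⟨(push i).symm (ten (s⁻¹ • u) d), (push i).injective ?_⟩
    rw [dev_apply, map_sub, push_tcv hf hM hG, add_sub_cancel_left, LinearEquiv.apply_symm_apply,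
      ctr_ten, frow_dot hf, hdc, one_smul, ← ten_smul_left, smul_smul, mul_inv_cancel₀ hs, one_smul, hu]

theorem tcv_mul (hf : Geo.IsUnitaryForm σ f) (i : J) (c : Fin m → F) (hiso : f c c = 0) (a b : F) :
    (fac i (htv hf c hiso a) : GL (J → Fin m) F) * fac i (htv hf c hiso b) = fac i (htv hf c hiso (a + b)) := by
  rw [← fac_mul]
  congr 1
  refine ext_mv fun w => ?_
  rw [mv_mul, mv_htv, mv_htv, mv_htv, hf.add_left, hf.smul_left, hiso, mul_zero, add_zero]
  module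

/-- The preimage of a vector orthogonal to an image. -/
theorem inv_mem_orth (hf : Geo.IsUnitaryForm σ f) {g : GL (J → Fin m) F} (hg : Nrm σ f M g)
    {U : Submodule F ((J → Fin m) → F)} {x : (J → Fin m) → F}
    (hx : x ∈ orth (jf_unitary hf J) (U.map (mvLin g))) : mv g⁻¹ x ∈ orth (jf_unitary hf J) U := by
  obtain ⟨⟨τ, hτ, hgτ⟩, -⟩ := hg
  refine (mem_orth (jf_unitary hf J)).2 fun y hy => ?_
  have e := hgτ y (mv g⁻¹ x)
  rw [mv_mv_inv, (mem_orth (jf_unitary hf J)).1 hx _ (mem_map_gl.2 ⟨y, hy, rfl⟩)] at e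
  exact (mul_eq_zero.1 e.symm).resolve_left hτ

theorem map_Ln_le_orth (hf : Geo.IsUnitaryForm σ f) {g : GL (J → Fin m) F} (hg : Nrm σ f M g) (l : J)
    {d : Fin m → F} (hd : f d d = 0) :
    (Ln l d).map (mvLin g) ≤ orth (jf_unitary hf J) ((Ln l d).map (mvLin g)) := by
  obtain ⟨⟨τ, -, hgτ⟩, -⟩ := hg
  intro x hx
  refine (mem_orth (jf_unitary hf J)).2 fun y hy => ?_
  obtain ⟨x', hx', rfl⟩ := mem_map_gl.1 hx
  obtain ⟨y', hy', rfl⟩ := mem_map_gl.1 hy
  rw [hgτ, Ln_iso hf l hd hy' hx', mul_zero]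

theorem exists_norm_one (hm : 0 < m) (hf : Geo.IsUnitaryForm σ f) : ∃ z : Fin m → F, f z z = 1 := by
  obtain ⟨e, -, hee, -⟩ := exists_orthonormal hf m (nondeg_top hf)
    (by rw [finrank_top, Module.finrank_fintype_fun_eq_card, Fintype.card_fin])
  exact ⟨e ⟨0, hm⟩, by rw [hee, if_pos rfl]⟩

/-- A line that is the image of an isotropic line is isotropic. -/
theorem iso_of_map_line (hm : 0 < m) (hf : Geo.IsUnitaryForm σ f) {g : GL (J → Fin m) F}
    (hg : Nrm σ f M g) {i j : J} {c c' : Fin m → F} (hiso : f c c = 0)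
    (h : (Ln i c).map (mvLin g) = Ln j c') : f c' c' = 0 := by
  obtain ⟨z, hz⟩ := exists_norm_one hm hf
  set x : J → Fin m → F := fun q => if q = j then c' else z with hx
  have hxj : x j = c' := if_pos rfl
  have hmem : pten x ∈ (Ln i c).map (mvLin g) := h ▸ hxj ▸ pten_mem_Ln j x
  obtain ⟨y, hy, hyx⟩ := mem_map_gl.1 hmem
  obtain ⟨⟨τ, -, hgτ⟩, -⟩ := hg
  have e := hgτ y y
  rw [Ln_iso hf i hiso hy hy, mul_zero, hyx, jf_pten hf,
    Fintype.prod_eq_single j (fun q hq => by rw [hx]; simp only [if_neg hq]; exact hz), hxj] at e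
  exact e

/-- A Kronecker similitude normalising M has a first part normalising the group of first parts. -/
theorem nrm_left (hm : 0 < m) (hf : Geo.IsUnitaryForm σ f) {g : GL (J → Fin m) F}
    (hg : Nrm σ f M g) {i : J} {B : GL (Rest i m) F} {A : GL (Fin m) F}
    (h : tg i m F g = kronGL B A) : Nrm σ f (leftGroup σ f M i) B := by
  obtain ⟨z, hz⟩ := exists_norm_one hm hf
  obtain ⟨τ, hτ, hgτ⟩ := hg.iso i
  have h₁ := jf_unitary hf {j // j ≠ i}
  have key : ∀ u u', jf σ f (mv B u) (mv B u') * f (mv A z) (mv A z) = τ * jf σ f u u' := by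
    intro u u'
    have e := hgτ (ten u z) (ten u' z)
    rwa [h, mv_kronGL, mv_kronGL, tf_ten h₁ hf, tf_ten h₁ hf, hz, mul_one] at e
  set κ := f (mv A z) (mv A z) with hκ
  have hne : ∃ u u' : Rest i m → F, jf σ f u u' ≠ 0 := by
    obtain ⟨w, hw⟩ := (h₁.nondegenerate (pten fun _ => z) (pten_ne_zero fun _ h0 => by
      rw [h0, Herm.zero_left hf] at hz; exact zero_ne_one hz)).1
    exact ⟨_, _, hw⟩
  have hκ0 : κ ≠ 0 := fun h0 => by
    obtain ⟨u, u', hu⟩ := hne
    have e := key u u'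
    rw [h0, mul_zero, eq_comm, mul_eq_zero] at e
    exact hu (e.resolve_left hτ)
  have hsim : ∀ u u', jf σ f (mv B u) (mv B u') = τ / κ * jf σ f u u' := fun u u' => by
    rw [div_mul_eq_mul_div, eq_div_iff hκ0, key]
  refine ⟨⟨τ / κ, div_ne_zero hτ hκ0, hsim⟩, ?_⟩
  rintro B₁ ⟨hB₁, A₁, hA₁⟩
  refine ⟨mem_jIso.2 fun x y => ?_, A * A₁ * A⁻¹, ?_⟩
  · have hinv : ∀ u v, jf σ f u v = τ / κ * jf σ f (mv B⁻¹ u) (mv B⁻¹ v) := fun u v => by
      rw [← hsim, mv_mv_inv, mv_mv_inv]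
    rw [mv_mul, mv_mul, mv_mul, mv_mul, hsim, mem_jIso.1 hB₁, ← hinv]
  · rw [← kronGL_mul, ← kronGL_mul, ← kronGL_inv, ← h]
    obtain ⟨k, hk, e⟩ := hA₁
    rw [← e, MulEquiv.coe_toMonoidHom, ← map_inv, ← map_mul, ← map_mul]
    exact Subgroup.mem_map_of_mem _ (hg.2 k hk)

end Cfsg.Agent.UWreath
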