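/-
Without pure displacements every similitude normalising the subgroup is monomial.
-/
import Cfsg.Agent.Lib.UWreath.Lines

set_option autoImplicit false
set_option linter.unusedSectionVars false

namespace Cfsg.Agent.UWreath

open scoped Matrix Kronecker
open Matrix Cfsg.Agent.Transvec Cfsg.Agent.Transvec.Herm Cfsg.Agent.TensorMax Cfsg.Agent.TensorMax.U
open Cfsg.Agent.WreathMax

variable {F : Type*} [Field F] [Finite F] {σ : F ≃+* F}
variable {J : Type} [Fintype J] [DecidableEq J] {m : ℕ} {f : (Fin m → F) → (Fin m → F) → F}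

/-- The hypotheses of rigidity. -/
structure Good (σ : F ≃+* F) (f : (Fin m → F) → (Fin m → F) → F) (M : Subgroup (GL (J → Fin m) F)) :
    Prop where
  hm : 3 ≤ m
  hf : Geo.IsUnitaryForm σ f
  hq : 4 ≤ m ∨ Nat.card (fixedField σ) ≠ 2
  le : M ≤ jIso σ f J
  fac : FacU σ f M
  nex : ¬ EX hf M
  perm : PermMem M
  nontriv : Nontrivial J
  split : ∀ i, Split σ (jf (J := {j // j ≠ i}) σ f) f (M.map (tg i m F).toMonoidHom)
  ind : ∀ (i : J) (B : GL (Rest i m) F) (A : GL (Fin m) F) (g : GL (J → Fin m) F), Nrm σ f M g →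
    tg i m F g = kronGL B A → Mono g

variable {M : Subgroup (GL (J → Fin m) F)}

theorem Good.pos (H : Good σ f M) : 0 < m := by have := H.hm; omega

theorem Good.neZero (H : Good σ f M) : NeZero m := ⟨H.pos.ne'⟩

theorem mono_mul {g h : GL (J → Fin m) F} (hg : Mono g) (hh : Mono h) : Mono (g * h) := by
  obtain ⟨a, ha⟩ := hg
  obtain ⟨b, hb⟩ := hh
  exact ⟨_, MonoOf.mul (σ := a) (τ := b) ha hb⟩

theorem mono_inv {g : GL (J → Fin m) F} (hg : Mono g) : Mono g⁻¹ := by
  obtain ⟨a, ha⟩ := hg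
  exact ⟨_, MonoOf.inv (σ := a) ha⟩

theorem mono_pm (π : Equiv.Perm J) : Mono (pm π : GL (J → Fin m) F) := ⟨_, monoOf_pm π⟩

theorem map_pm_Ln (π : Equiv.Perm J) (j : J) {c : Fin m → F} (hc : c ≠ 0) :
    ∃ c', c' ≠ 0 ∧ (Ln j c).map (mvLin (pm π : GL (J → Fin m) F)) = Ln (π j) c' := by
  obtain ⟨C, hC⟩ := (monoOf_pm (m := m) (F := F) π).map_Ln j
  exact ⟨_, fun h0 => hc (mv_inj C (h0.trans (mv_zero _).symm)), by rw [hC c hc, inv_inv]⟩

theorem not_ex_conj_pm (hf : Geo.IsUnitaryForm σ f) (h : ¬ EX hf M) (π : Equiv.Perm J) :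
    ¬ EX hf (M.map (MulAut.conj (pm π : GL (J → Fin m) F)).toMonoidHom) := by
  rintro ⟨S, x, r, hS, hr, hx, g, ⟨k, hk, rfl⟩, hg⟩
  refine h ⟨S.map (π⁻¹ : Equiv.Perm J).toEmbedding, fun j => x (π j), r, by rwa [Finset.card_map], hr,
    fun j hj => hx _ (by simpa [Finset.mem_map_equiv, Equiv.Perm.inv_def] using hj), k, hk, fun y => ?_⟩
  have e := congrArg (mv (pm π : GL (J → Fin m) F)⁻¹) (hg (mv (pm π : GL (J → Fin m) F) y))
  simp only [MulEquiv.coe_toMonoidHom, MulAut.conj_apply, mv_mul, mv_inv_mv, LinearMap.smul_apply,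
    mv_add, mv_smul] at e
  rw [e, LinearMap.smul_apply]
  congr 2
  have e2 := LinearMap.congr_fun (loc_conj_pm (π⁻¹ : Equiv.Perm J)
    (fun j => if j ∈ S then nop hf (x j) else (LinearMap.id : (Fin m → F) →ₗ[F] Fin m → F))) y
  simp only [← pm_inv, inv_inv, LinearMap.comp_apply, Matrix.toLin'_apply] at e2
  refine Eq.trans e2 (LinearMap.congr_fun (loc_congr fun j => ?_) y)
  simp [Finset.mem_map_equiv, Equiv.Perm.inv_def]

/-- A similitude normalising M and mapping an isotropic line to a line is monomial. -/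
theorem mono_of_line (H : Good σ f M) {g : GL (J → Fin m) F} (hg : Nrm σ f M g) {i j : J}
    {c c' : Fin m → F} (hc : c ≠ 0) (hiso : f c c = 0) (hc' : c' ≠ 0)
    (hmap : (Ln i c).map (mvLin g) = Ln j c') : Mono g := by
  haveI := H.neZero
  have hline : ∀ {g : GL (J → Fin m) F} {e : Fin m → F}, (Ln i c).map (mvLin g) = Ln i e →
      ∀ u, mv (tg i m F g) (ten u c) ∈ line (Rest i m) e := fun {g e} h u => by
    rw [← map_push_Ln i e, ← h, map_push_map, map_push_Ln]
    exact mem_map_gl.2 ⟨_, ten_mem_line u c, rfl⟩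
  have same : ∀ {g : GL (J → Fin m) F} {e : Fin m → F}, Nrm σ f M g → e ≠ 0 →
      (Ln i c).map (mvLin g) = Ln i e → Mono g := by
    intro g e hg he h
    obtain ⟨τ, hτ, hsim⟩ := hg.iso i
    obtain ⟨B, A, hBA⟩ := kron_of_stab (by simpa using H.hm) (H.split i).pre (H.split i).pre
      (H.split i).scalar (H.split i).hq hτ hsim (by
        rintro _ ⟨k, hk, rfl⟩
        rw [MulEquiv.coe_toMonoidHom, ← map_inv, ← map_mul, ← map_mul]
        exact Subgroup.mem_map_of_mem _ (hg.2 k hk))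
      hc hiso he (iso_of_map_line H.pos H.hf hg hiso h) (hline h)
    exact H.ind i B A g hg (eq_kronGL hBA)
  rcases eq_or_ne j i with rfl | hji
  · exact same hg hc' hmap
  have hmul : ∀ π : Equiv.Perm J, π j = i → ∃ e, e ≠ 0 ∧
      (Ln i c).map (mvLin (pm π * g)) = Ln i e := fun π hπ => by
    obtain ⟨e, he, h⟩ := map_pm_Ln (F := F) π j hc'
    exact ⟨e, he, by rw [← map_gl_mul, hmap, h, hπ]⟩
  have back : ∀ π : Equiv.Perm J, Mono (pm π * g) → Mono g := fun π h => by
    have := mono_mul (mono_inv (mono_pm (m := m) (F := F) π)) h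
    rwa [inv_mul_cancel_left] at this
  by_cases hthird : ∃ a, a ≠ i ∧ a ≠ j
  · obtain ⟨a, hai, haj⟩ := hthird
    set π := Equiv.swap a i * Equiv.swap a j with hπdef
    have hπ : π j = i := by simp [π]
    obtain ⟨e, he, h⟩ := hmul π hπ
    exact back π (same ((Nrm.of_mem H.le (H.perm a j i haj hai hji)).mul hg) he h)
  push Not at hthird
  -- two factors only
  set π := Equiv.swap i j with hπdef
  have hπ : π j = i := by simp [π]
  obtain ⟨e, he, h⟩ := hmul π hπ
  refine back π ?_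
  set M'' := M.map (MulAut.conj (pm π : GL (J → Fin m) F)).toMonoidHom with hM''
  have hM''le : M'' ≤ jIso σ f J := by
    rintro _ ⟨k, hk, rfl⟩
    exact Subgroup.mul_mem _ (Subgroup.mul_mem _ (pm_mem_jIso π) (H.le hk))
      (Subgroup.inv_mem _ (pm_mem_jIso π))
  have hM''G : FacU σ f M'' := fun q A hA => by
    refine ⟨fac (π⁻¹ q) A, H.fac _ A hA, ?_⟩
    rw [MulEquiv.coe_toMonoidHom, MulAut.conj_apply, fac_conj_pm]
    simp
  have hC'' : CentreScalar σ f (M''.map (tg i m F).toMonoidHom) := by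
    by_contra hC
    exact not_ex_conj_pm H.hf H.nex π (ex_of_not_centreScalar H.hm H.hf hM''le hM''G _ hC)
  obtain ⟨⟨τ, hτ, hgτ⟩, hgn⟩ := hg
  set g' := pm π * g with hg'
  have hsim : ∀ x y, jf σ f (mv g' x) (mv g' y) = τ * jf σ f x y := fun x y => by
    rw [hg', mv_mul, mv_mul, mem_jIso.1 (pm_mem_jIso π), hgτ]
  obtain ⟨B, A, hBA⟩ := kron_of_stab (by simpa using H.hm) (H.split i).pre
    (pre_tg H.hf hM''le hM''G i) hC'' (H.split i).hq hτ (fun x y => by
      have e := hsim ((push i).symm x) ((push i).symm y)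
      rwa [jf_push i, jf_push i, ← mv_tg', ← mv_tg', LinearEquiv.apply_symm_apply,
        LinearEquiv.apply_symm_apply] at e) (by
      rintro _ ⟨k, hk, rfl⟩
      rw [MulEquiv.coe_toMonoidHom, ← map_inv, ← map_mul, ← map_mul]
      refine Subgroup.mem_map_of_mem _ ⟨g * k * g⁻¹, hgn k hk, ?_⟩
      rw [MulEquiv.coe_toMonoidHom, MulAut.conj_apply, hg']
      group)
    hc hiso he (by
      obtain ⟨e₁, he₁, h₁⟩ : ∃ e₁, e₁ = e ∧ True := ⟨e, rfl, trivial⟩
      obtain ⟨z, hz⟩ := exists_norm_one H.pos H.hf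
      set x : J → Fin m → F := fun q => if q = i then e else z with hx
      have hxi : x i = e := if_pos rfl
      obtain ⟨y, hy, hyx⟩ := mem_map_gl.1 (h.symm ▸ hxi ▸ pten_mem_Ln i x : pten x ∈ (Ln i c).map (mvLin g'))
      have e2 := hsim y y
      rw [Ln_iso H.hf i hiso hy hy, mul_zero, hyx, jf_pten H.hf,
        Fintype.prod_eq_single i (fun q hq => by rw [hx]; simp only [if_neg hq]; exact hz), hxi] at e2
      exact e2) (hline h)
  have hsub : ∀ q : {q // q ≠ i}, q = ⟨j, hji⟩ := fun q => Subtype.ext (by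
    by_contra hqj
    exact hqj (hthird q q.2))
  letI : Unique {q // q ≠ i} := ⟨⟨⟨j, hji⟩⟩, hsub⟩
  exact mono_of_left (eq_kronGL hBA) (mono_of_single B)

/-- A similitude whose conjugates of the transvections at one line are monomial is monomial. -/
theorem mono_conj (H : Good σ f M) {g : GL (J → Fin m) F} (hg : Nrm σ f M g) (i : J) {c : Fin m → F}
    (hc : c ≠ 0) (hiso : f c c = 0)
    (hmono : ∀ s : F, σ s = -s → s ≠ 0 → Mono (g * fac i (htv H.hf c hiso s) * g⁻¹)) : Mono g := by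
  haveI := H.neZero
  haveI : Nonempty J := ⟨i⟩
  by_contra hno
  have key : ∀ s : F, σ s = -s → s ≠ 0 → ∀ π : Equiv.Perm J,
      MonoOf π (g * fac i (htv H.hf c hiso s) * g⁻¹) → π.IsSwap := by
    intro s hs hs0 π hπ
    have hr : LinearMap.range (dev (g * fac i (htv H.hf c hiso s) * g⁻¹)) = (Ln i c).map (mvLin g) := by
      rw [range_dev_conj, range_dev_tcv H.hf H.le H.fac i hc hiso hs0]
    have hdim : m * Module.finrank F (LinearMap.range (dev (g * fac i (htv H.hf c hiso s) * g⁻¹))) =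
        m ^ Fintype.card J := by
      rw [hr, WreathMax.finrank_map_gl, finrank_Ln i hc, Nat.mul_comm, card_rest]
    have hne : g * fac i (htv H.hf c hiso s) * g⁻¹ ≠ 1 := fun e => by
      rw [WreathMax.dev_eq_zero.2 e, LinearMap.range_zero, finrank_bot, mul_zero] at hdim
      exact (Nat.pow_pos H.pos).ne hdim
    rcases (mono_rank H.hm hπ hne).2 hdim.le with ⟨-, l, d, hd, e⟩ | h
    · exact absurd (mono_of_line H hg hc hiso hd (hr.symm.trans e)) hno
    · exact h
  obtain ⟨s, hs0, hs⟩ := exists_anti H.hf.ne_refl H.hf.involutive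
  by_cases hq : Nat.card (fixedField σ) = 2
  · obtain ⟨π, hπ⟩ := hmono s hs hs0
    have hsw := key s hs hs0 π hπ
    have hπ1 : π ≠ 1 := fun h => by
      obtain ⟨a, b, hab, e⟩ := hsw
      rw [h] at e
      exact hab (by simpa using congrArg (fun p : Equiv.Perm J => p a) e)
    have := rank_gt_of_moved (H.hq.resolve_right (not_not_intro hq)) hπ hπ1
    rw [range_dev_conj, range_dev_tcv H.hf H.le H.fac i hc hiso hs0, WreathMax.finrank_map_gl,
      finrank_Ln i hc, Nat.mul_comm m, card_rest] at this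
    exact lt_irrefl _ this
  · obtain ⟨μ, hμ0, hμ⟩ := exists_norm_fixed_ne H.hf.ne_refl H.hf.involutive hq
    set s' := -(μ * σ μ * s) with hs'def
    have hμσ : μ * σ μ ≠ 0 := mul_ne_zero hμ0 ((map_ne_zero_iff σ σ.injective).2 hμ0)
    have hs' : σ s' = -s' := by rw [hs'def, map_neg, map_mul, map_mul, H.hf.involutive, hs]; ring
    have hs'0 : s' ≠ 0 := neg_ne_zero.2 (mul_ne_zero hμσ hs0)
    have hsum : σ (s + s') = -(s + s') := by rw [map_add, hs, hs', neg_add]
    have hsum0 : s + s' ≠ 0 := by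
      rw [hs'def, show s + -(μ * σ μ * s) = (1 - μ * σ μ) * s by ring]
      exact mul_ne_zero (sub_ne_zero.2 (Ne.symm hμ)) hs0
    obtain ⟨π₁, h₁⟩ := hmono s hs hs0
    obtain ⟨π₂, h₂⟩ := hmono s' hs' hs'0
    have hprod := MonoOf.mul (σ := π₁) (τ := π₂) h₁ h₂
    rw [show g * fac i (htv H.hf c hiso s) * g⁻¹ * (g * fac i (htv H.hf c hiso s') * g⁻¹) =
      g * (fac i (htv H.hf c hiso s) * fac i (htv H.hf c hiso s')) * g⁻¹ by group, tcv_mul] at hprod
    exact isSwap_mul (key s hs hs0 π₁ h₁) (key s' hs' hs'0 π₂ h₂) (key _ hsum hsum0 _ hprod)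

theorem fixed_two (hq : Nat.card (fixedField σ) = 2) {s : F} (hs : σ s = -s) : s = 0 ∨ s = 1 := by
  classical
  have two : (2 : F) = 0 := two_eq_zero_of_card hq
  have hfix : σ s = s := by rw [hs, neg_eq_of_add_eq_zero_left (add_self_zero two s)]
  by_contra hcon
  push Not at hcon
  haveI := Fintype.ofFinite (fixedField σ)
  set k : fixedField σ := ⟨s, hfix⟩ with hk
  have h3 : ({0, 1, k} : Finset (fixedField σ)).card = 3 := by
    refine Finset.card_eq_three.2 ⟨0, 1, k, zero_ne_one, fun h => hcon.1 ?_, fun h => hcon.2 ?_, rfl⟩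
    · exact (congrArg Subtype.val h).symm
    · exact (congrArg Subtype.val h).symm
  have := Finset.card_le_univ ({0, 1, k} : Finset (fixedField σ))
  rw [h3, ← Nat.card_eq_fintype_card, hq] at this
  omega

/-- An image of an isotropic line against a line: monomial, small, planar, or a meeting line. -/
theorem key [Fintype F] (H : Good σ f M) {g : GL (J → Fin m) F} (hg : Nrm σ f M g) {i l : J}
    {c d : Fin m → F} (hc : c ≠ 0) (hiso : f c c = 0) (hd : d ≠ 0) (hdiso : f d d = 0)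
    (hcase : Ln i c ⊓ (Ln l d).map (mvLin g) ≠ ⊥ ∨
      (Ln l d).map (mvLin g) ⊓ orth (jf_unitary H.hf J) (Ln i c) = ⊥) :
    Mono g ∨
    (Ln i c ⊓ (Ln l d).map (mvLin g) ≠ ⊥ ∧
      m * Module.finrank F ↥(Ln i c ⊓ (Ln l d).map (mvLin g)) ≤ Fintype.card (Rest i m) ∧
      Fintype.card (Rest i m) <
        m * Module.finrank F ↥((Ln l d).map (mvLin g) ⊓ orth (jf_unitary H.hf J) (Ln i c))) ∨
    (Ln i c ⊓ (Ln l d).map (mvLin g) = ⊥ ∧ ∃ P : Submodule F (Fin m → F), Module.finrank F P = 2 ∧ c ∈ P ∧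
      ((Ln l d).map (mvLin g)).map (push i).toLinearMap ≤ blk (Rest i m) P) ∨
    (Ln i c ⊓ (Ln l d).map (mvLin g) = ⊥ ∧ ∃ w ∈ M, (Mono w → Mono g) ∧ ∃ e : Fin m → F, e ≠ 0 ∧
      f e e = 0 ∧ Ln i e ⊓ (Ln i e).map (mvLin w) ≠ ⊥) := by
  classical
  haveI := H.neZero
  haveI : Nonempty (Rest i m) := ⟨fun _ => 0⟩
  have hf := H.hf
  have C := H.split i
  set M' := M.map (tg i m F).toMonoidHom with hM'
  set S₀ := (Ln l d).map (mvLin g) with hS₀
  set R₀ := Ln i c with hR₀
  set S := S₀.map (push i).toLinearMap with hSdef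
  set R := line (Rest i m) c with hRdef
  have hR : R₀.map (push i).toLinearMap = R := map_push_Ln i c
  have hcard : Fintype.card (Rest l m) = Fintype.card (Rest i m) := card_rest_eq H.pos l i
  have hdim : Module.finrank F S = Fintype.card (Rest i m) := by
    rw [hSdef, finrank_push, hS₀, WreathMax.finrank_map_gl, finrank_Ln l hd, hcard]
  have hS : S ≤ orth C.pre.hf S := by
    show S ≤ orth (tf_unitary (jf_unitary hf _) hf) S
    rw [hSdef, ← orth_map hf i]
    exact Submodule.map_mono (map_Ln_le_orth hf hg l hdiso)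
  have hbot : R ⊓ S = ⊥ ↔ R₀ ⊓ S₀ = ⊥ := by
    rw [← Submodule.finrank_eq_zero, ← Submodule.finrank_eq_zero (S := R₀ ⊓ S₀), ← finrank_inf_push i,
      hR]
  have hcase' : R ⊓ S ≠ ⊥ ∨ S ⊓ orth C.pre.hf R = ⊥ := by
    refine hcase.imp (fun h e => h (hbot.1 e)) fun h => ?_
    show S ⊓ orth (tf_unitary (jf_unitary hf _) hf) R = ⊥
    rw [← hR, ← orth_map hf i, hSdef, ← Submodule.map_inf _ (push i).injective, h, Submodule.map_bot]
  have hconv : ∀ {d₀ e : ℕ}, d₀ = Module.finrank F ↥(R ⊓ S) →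
      e = Module.finrank F ↥(S ⊓ orth C.pre.hf R) →
      d₀ = Module.finrank F ↥(R₀ ⊓ S₀) ∧
        e = Module.finrank F ↥(S₀ ⊓ orth (jf_unitary hf J) R₀) := by
    intro d₀ e hd₀ he
    refine ⟨by rw [hd₀, ← hR, hSdef, finrank_inf_push], ?_⟩
    rw [he, show orth C.pre.hf R = (orth (jf_unitary hf J) R₀).map (push i).toLinearMap from
      ((orth_map hf i R₀).trans (by rw [hR])).symm, hSdef, finrank_inf_push]
  -- the elements
  obtain ⟨s₀, hs0, hs₀⟩ := exists_anti hf.ne_refl hf.involutive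
  set t := fac l (htv hf d hdiso s₀) with ht
  have ht' : g * t * g⁻¹ ∈ M := hg.2 _ (tcv_mem hf H.fac l d hdiso hs₀)
  set u := tg i m F (g * t * g⁻¹) with hu_def
  have hu : u ∈ M' := Subgroup.mem_map_of_mem _ ht'
  have hufix : ∀ y ∈ orth C.pre.hf S, mv u y = y := by
    intro y hy
    have hy' : (push i).symm y ∈ orth (jf_unitary hf J) S₀ := (orth_push hf i S₀).2 (by
      rw [LinearEquiv.apply_symm_apply]; exact hy)
    rw [hu_def, mv_tg', mv_mul, mv_mul, ht, fix_tcv hf H.le H.fac hdiso s₀ (inv_mem_orth hf hg hy'),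
      mv_mv_inv, LinearEquiv.apply_symm_apply]
  have hurange : LinearMap.range (dev u) = S := by
    rw [hu_def, range_dev_tg, range_dev_conj, ht, range_dev_tcv hf H.le H.fac l hd hdiso hs0, hSdef]
  have toLM : S = R → Mono g := fun h =>
    mono_of_line H hg hd hdiso hc (Submodule.map_injective_of_injective (push i).injective (h.trans hR.symm))
  have fromBound : (R ⊓ S ≠ ⊥ ∧ Fintype.card (Fin m) * Module.finrank F ↥(R ⊓ S) ≤ Fintype.card (Rest i m) ∧
      Fintype.card (Rest i m) < Fintype.card (Fin m) * Module.finrank F ↥(S ⊓ orth C.pre.hf R)) →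
      R₀ ⊓ S₀ ≠ ⊥ ∧ m * Module.finrank F ↥(R₀ ⊓ S₀) ≤ Fintype.card (Rest i m) ∧
      Fintype.card (Rest i m) < m * Module.finrank F ↥(S₀ ⊓ orth (jf_unitary hf J) R₀) := by
    rintro ⟨h1, h2, h3⟩
    obtain ⟨e1, e2⟩ := hconv rfl rfl
    rw [Fintype.card_fin, e1] at h2
    rw [Fintype.card_fin, e2] at h3
    exact ⟨fun e => h1 (hbot.2 e), h2, h3⟩
  by_cases hq : Nat.card (fixedField σ) = 2
  swap
  · rcases transfer_dich C hq hS hdim hc hiso hu hufix hurange hcase' with h | h | ⟨h1, h2⟩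
    · exact Or.inl (toLM h)
    · exact Or.inr (Or.inl (fromBound h))
    · exact Or.inr (Or.inr (Or.inl ⟨hbot.1 h1, h2⟩))
  -- the smallest field
  have two : (2 : F) = 0 := two_eq_zero_of_card hq
  have hs₀1 : s₀ = 1 := (fixed_two hq hs₀).resolve_left hs0
  set t₀ := tg i m F (fac i (htv hf c hiso s₀)) with ht₀
  have ht₀x : ∀ x, mv t₀ x = x + s₀ • ten (ctr (frow f c) x) c := fun x => by
    rw [ht₀, tg_fac]
    exact mv_kronGL_htv C.pre c hiso s₀ x
  have ht₀M : t₀ ∈ M' := Subgroup.mem_map_of_mem _ (tcv_mem hf H.fac i c hiso hs₀)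
  have ht₀2 : t₀ * t₀ = 1 := by
    rw [ht₀, ← map_mul, tcv_mul, add_self_zero two, htv_zero, fac_one, map_one]
  have huu : u * u = 1 := by
    rw [hu_def, ← map_mul, show g * t * g⁻¹ * (g * t * g⁻¹) = g * (t * t) * g⁻¹ by group, ht, tcv_mul,
      add_self_zero two, htv_zero, fac_one, mul_one, mul_inv_cancel, map_one]
  have ht₀range : LinearMap.range (dev t₀) = R := by
    rw [ht₀, range_dev_tg, range_dev_tcv hf H.le H.fac i hc hiso hs0, map_push_Ln]
  set G := Subgroup.closure ({u, t₀} : Set (GL (Rest i m × Fin m) F)) with hG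
  have hprop : ∀ h ∈ G, h ∈ M' ∧ (∀ x ∈ orth C.pre.hf R, x ∈ orth C.pre.hf S → mv h x = x) ∧
      (∀ x, mv h x - x ∈ R ⊔ S) := by
    intro h hh
    induction hh using Subgroup.closure_induction with
    | mem h hh =>
      rcases hh with rfl | rfl
      · refine ⟨hu, fun x _ hx => hufix x hx, fun x => ?_⟩
        rw [← dev_apply]
        exact Submodule.mem_sup_right (hurange ▸ LinearMap.mem_range_self _ x)
      · refine ⟨ht₀M, fun x hx _ => ?_, fun x => ?_⟩
        · rw [ht₀x, (mem_orth_line C.pre.h₁ C.pre.h₂).1 hx, ten_zero_left, smul_zero, add_zero]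
        · rw [← dev_apply]
          exact Submodule.mem_sup_left (ht₀range ▸ LinearMap.mem_range_self _ x)
    | one => exact ⟨M'.one_mem, fun x _ _ => mv_one x, fun x => by simp [mv_one]⟩
    | mul g h _ _ hg hh =>
      refine ⟨M'.mul_mem hg.1 hh.1, fun x a b => by rw [mv_mul, hh.2.1 x a b, hg.2.1 x a b], fun x => ?_⟩
      rw [mv_mul, show mv g (mv h x) - x = (mv g (mv h x) - mv h x) + (mv h x - x) by abel]
      exact Submodule.add_mem _ (hg.2.2 _) (hh.2.2 x)
    | inv g _ hg =>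
      refine ⟨M'.inv_mem hg.1, fun x a b => by conv_lhs => rw [← hg.2.1 x a b, mv_inv_mv], fun x => ?_⟩
      have := Submodule.neg_mem _ (hg.2.2 (mv g⁻¹ x))
      rwa [mv_mv_inv, neg_sub] at this
  have hRperp : R ≤ orth C.pre.hf R := fun x hx =>
    (mem_orth_line C.pre.h₁ C.pre.h₂).2 (ctr_line (by rw [frow_dot C.pre.h₂, hiso]) hx)
  by_cases hex : ∃ k ∈ G, (∀ v, mv k (ten v c) ∈ R) ∧ ∃ x ∈ orth C.pre.hf R, mv k x ≠ x
  · obtain ⟨k, hk, hkR, hknr⟩ := hex
    obtain ⟨p1, p2, p3⟩ := hprop k hk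
    rcases stab_bound C hdim hc hiso p1 hkR p2 p3 (fun x hx => p2 x (hRperp hx.1) (hS hx.2)) hknr hcase'
      with h | ⟨h1, h2⟩
    · exact Or.inr (Or.inl (fromBound h))
    · exact Or.inr (Or.inr (Or.inl ⟨hbot.1 h1, h2⟩))
  push Not at hex
  by_cases hconj : ∃ w ∈ G, w * t₀ * w⁻¹ = u
  swap
  · left
    push Not at hconj
    obtain ⟨z, hz, hz1, -, hzu, hzt⟩ := exists_central_involution huu ht₀2 hconj
    have stab : ∀ k ∈ G, k * t₀ = t₀ * k →
        ∃ s : F, σ s = -s ∧ ∀ x, mv k x = x + s • ten (ctr (frow f c) x) c := by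
      intro k hk hcomm
      refine C.scalar c hc hiso k (hprop k hk).1 fun x hx =>
        hex k hk (fun v => ?_) x ((mem_orth_line C.pre.h₁ C.pre.h₂).2 hx)
      rw [← ht₀range]
      exact stab_range_of_comm hcomm (ht₀range.symm ▸ ten_mem_line v c)
    obtain ⟨s, hs, hzx⟩ := stab z hz hzt
    have hs1 : s = s₀ := by
      rw [hs₀1]
      refine (fixed_two hq hs).resolve_left fun h0 => hz1 (ext_mv fun x => ?_)
      rw [hzx, h0, zero_smul, add_zero, mv_one]
    have hzt₀ : z = t₀ := ext_mv fun x => by rw [hzx, ht₀x, hs1]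
    rw [hzt₀] at hzu
    obtain ⟨r, -, hux⟩ := stab u (Subgroup.subset_closure (Or.inl rfl)) hzu.symm
    refine toLM (Submodule.eq_of_le_of_finrank_eq ?_ (hdim.trans (finrank_line hc).symm))
    rw [← hurange]
    rintro _ ⟨x, rfl⟩
    rw [dev_apply, hux, add_sub_cancel_left]
    exact Submodule.smul_mem _ _ (ten_mem_line _ _)
  obtain ⟨w, hw, hwt⟩ := hconj
  obtain ⟨hwM, hwK, -⟩ := hprop w hw
  have hSw : S = R.map (mvLin w) := by rw [← hurange, ← hwt, range_dev_conj, ht₀range]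
  have hT : S ⊓ orth C.pre.hf R ≤ R := by
    rintro x ⟨hxS, hxR⟩
    have hfixx : mv w x = x := hwK x hxR (hS hxS)
    rw [hSw] at hxS
    obtain ⟨y, hy, rfl⟩ := mem_map_gl.1 hxS
    rwa [mv_inj w hfixx]
  obtain ⟨w₀, hw₀, hw₀e⟩ := hwM
  rcases odd_case C hq hS hdim hc hiso hu huu hufix hurange hT hwK with
    ⟨c₁, c₁', hc₁, hc₁iso, hc₁', hmap⟩ | ⟨h1, e, he, heiso, hemeet⟩
  · left
    refine mono_conj H hg l hd hdiso fun s hs hs' => ?_
    rw [(fixed_two hq hs).resolve_left hs', ← hs₀1]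
    refine mono_of_line H (i := i) (j := i) (Nrm.of_mem H.le ht') hc₁ hc₁iso hc₁'
      (Submodule.map_injective_of_injective (push i).injective ?_)
    rw [map_push_map, map_push_Ln, map_push_Ln]
    exact hmap
  · refine Or.inr (Or.inr (Or.inr ⟨hbot.1 h1, w₀, hw₀, fun hmono => ?_, e, he, heiso, fun h0 => hemeet ?_⟩))
    · obtain ⟨π, hπ⟩ := hmono
      obtain ⟨j, c', hc', e'⟩ := MonoOf.map_isLn (σ := π) hπ hc (i := i)
      refine mono_of_line H (i := l) (j := j) hg hd hdiso hc' (Eq.trans ?_ e')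
      refine Submodule.map_injective_of_injective (push i).injective ?_
      rw [map_push_map i w₀, map_push_Ln, show tg i m F w₀ = w from hw₀e]
      exact hSw
    · have := congrArg (fun U : Submodule F ((J → Fin m) → F) => U.map (push i).toLinearMap) h0
      rwa [Submodule.map_inf _ (push i).injective, map_push_map, map_push_Ln, Submodule.map_bot,
        show tg i m F w₀ = w from hw₀e] at this

/-- The part of an image orthogonal to a line is moved into itself by a conjugate transvection. -/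
theorem shift_le (H : Good σ f M) (g : GL (J → Fin m) F) {i l : J} {c d : Fin m → F} (hiso : f c c = 0)
    (s : F) :
    Module.finrank F ↥((Ln l d).map (mvLin g) ⊓ orth (jf_unitary H.hf J) (Ln i c)) ≤
      Module.finrank F ↥(Ln l d ⊓ (Ln l d).map (mvLin (g⁻¹ * fac i (htv H.hf c hiso s) * g⁻¹⁻¹))) := by
  rw [← WreathMax.finrank_map_gl g⁻¹]
  refine Submodule.finrank_mono ?_
  intro y hy
  obtain ⟨x, ⟨hxS, hxR⟩, rfl⟩ := mem_map_gl.1 hy
  obtain ⟨z, hz, rfl⟩ := mem_map_gl.1 hxS
  rw [mv_inv_mv]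
  exact ⟨hz, mem_map_gl.2 ⟨z, hz, by
    rw [inv_inv, mv_mul, mv_mul, fix_tcv H.hf H.le H.fac hiso s hxR, mv_inv_mv]⟩⟩

/-- An image of an isotropic line meeting a line forces monomiality. -/
theorem meet [Fintype F] (H : Good σ f M) {g : GL (J → Fin m) F} (hg : Nrm σ f M g) {i l : J}
    {c d : Fin m → F} (hc : c ≠ 0) (hiso : f c c = 0) (hd : d ≠ 0) (hdiso : f d d = 0)
    (hmeet : Ln i c ⊓ (Ln l d).map (mvLin g) ≠ ⊥) : Mono g := by
  rcases key H hg hc hiso hd hdiso (Or.inl hmeet) with h | ⟨-, -, hbig⟩ | ⟨h, -⟩ | ⟨h, -⟩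
  · exact h
  · have : Mono g⁻¹ := by
      refine mono_conj H hg.inv i hc hiso fun s hs _ => ?_
      have hh : g⁻¹ * fac i (htv H.hf c hiso s) * g⁻¹⁻¹ ∈ M := hg.inv.2 _ (tcv_mem H.hf H.fac i c hiso hs)
      have hle := shift_le H g (l := l) (d := d) (i := i) hiso s
      have hpos : Ln l d ⊓ (Ln l d).map (mvLin (g⁻¹ * fac i (htv H.hf c hiso s) * g⁻¹⁻¹)) ≠ ⊥ := fun h0 => by
        rw [h0, finrank_bot] at hle
        rw [Nat.le_zero.1 hle, mul_zero] at hbig
        exact Nat.not_lt_zero _ hbig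
      rcases key H (Nrm.of_mem H.le hh) hd hdiso hd hdiso (Or.inl hpos) with h | ⟨-, hsmall, -⟩ | ⟨h, -⟩ |
        ⟨h, -⟩
      · exact h
      · exfalso
        rw [card_rest_eq H.pos l i] at hsmall
        have := Nat.mul_le_mul_left m hle
        omega
      · exact absurd h hpos
      · exact absurd h hpos
    have h2 := mono_inv this
    rwa [inv_inv] at h2
  · exact absurd h hmeet
  · exact absurd h hmeet

/-- Every similitude normalising the subgroup is monomial. -/
theorem mono_of_good [Fintype F] (H : Good σ f M) {g : GL (J → Fin m) F} (hg : Nrm σ f M g) : Mono g := by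
  classical
  haveI := H.neZero
  haveI := H.nontriv
  obtain ⟨i, -⟩ := exists_pair_ne J
  have hf := H.hf
  obtain ⟨d, -, hd, hdiso⟩ := exists_isotropic hf (nondeg_top hf)
    (by rw [finrank_top, Module.finrank_fintype_fun_eq_card, Fintype.card_fin]; have := H.hm; omega)
  by_contra hno
  set S₀ := (Ln i d).map (mvLin g) with hS₀
  set S := S₀.map (push i).toLinearMap with hS
  have step : ∀ c : Fin m → F, c ≠ 0 → f c c = 0 →
      ∃ P : Submodule F (Fin m → F), Module.finrank F P = 2 ∧ c ∈ P ∧ S ≤ blk (Rest i m) P := by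
    intro c hc hiso
    have hT : S₀ ⊓ orth (jf_unitary hf J) (Ln i c) = ⊥ := by
      by_contra hT
      have : Mono g⁻¹ := by
        refine mono_conj H hg.inv i hc hiso fun s hs _ => ?_
        refine meet H (Nrm.of_mem H.le (hg.inv.2 _ (tcv_mem hf H.fac i c hiso hs))) (i := i) (l := i)
          hd hdiso hd hdiso fun h0 => hT ?_
        have hle := shift_le H g (l := i) (d := d) (i := i) hiso s
        rw [h0, finrank_bot, Nat.le_zero, Submodule.finrank_eq_zero] at hle
        exact hle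
      have h2 := mono_inv this
      rw [inv_inv] at h2
      exact hno h2
    rcases key H hg hc hiso hd hdiso (Or.inr hT) with h | ⟨h, -, -⟩ | ⟨-, h⟩ | ⟨-, w, hw, hwg, e, he, heiso, hm⟩
    · exact absurd h hno
    · exact absurd (le_bot_iff.1 (le_trans (le_inf inf_le_right (inf_le_left.trans (Ln_le_orth hf i hiso)))
        hT.le)) h
    · exact h
    · exact absurd (hwg (meet H (Nrm.of_mem H.le hw) he heiso he heiso hm)) hno
  obtain ⟨P, hP, -, hSP⟩ := step d hd hdiso
  obtain ⟨c, hcP, hiso⟩ : ∃ c, c ∉ P ∧ f c c = 0 := by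
    by_contra hcon
    push Not at hcon
    have h1 := isotropic_span hf (X := ⊤) (nondeg_top hf)
      (by rw [finrank_top, Module.finrank_fintype_fun_eq_card, Fintype.card_fin]; have := H.hm; omega)
    have h2 : (⊤ : Submodule F (Fin m → F)) ≤ P :=
      h1.trans (Submodule.span_le.2 fun v hv => by
        by_contra hvP
        exact hcon v hvP hv.2)
    have h3 := Submodule.finrank_mono h2
    rw [finrank_top, Module.finrank_fintype_fun_eq_card, Fintype.card_fin, hP] at h3
    have := H.hm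
    omega
  obtain ⟨P', hP', hcP', hSP'⟩ := step c (fun h => hcP (h ▸ zero_mem _)) hiso
  have hle : S ≤ blk (Rest i m) (P ⊓ P') := (le_inf hSP hSP').trans (blk_inf P P')
  have hlt : Module.finrank F ↥(P ⊓ P') < 2 := hP' ▸ Submodule.finrank_lt_finrank_of_lt
    (lt_of_le_of_ne inf_le_right fun e => hcP ((e.symm.le hcP').1))
  have hSdim : Module.finrank F S = Fintype.card (Rest i m) := by
    rw [hS, finrank_push, hS₀, WreathMax.finrank_map_gl, finrank_Ln i hd]
  have hS0 : S ≠ ⊥ := fun h0 => by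
    rw [h0, finrank_bot] at hSdim
    exact (card_rest_pos (m := m) i).ne hSdim
  have hPP : P ⊓ P' ≠ ⊥ := fun h0 => hS0 (le_bot_iff.1 (by rw [h0, blk_bot] at hle; exact hle))
  obtain ⟨c', hc'mem, hc'⟩ := Submodule.exists_mem_ne_zero_of_ne_bot hPP
  have hspan : P ⊓ P' ≤ Submodule.span F {c'} := by
    refine (Submodule.eq_of_le_of_finrank_le ((Submodule.span_singleton_le_iff_mem _ _).2 hc'mem) ?_).ge
    rw [finrank_span_singleton hc']
    omega
  refine hno (mono_of_line H (i := i) (j := i) hg hd hdiso hc' (Submodule.map_injective_of_injective (push i).injective ?_))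
  rw [map_push_Ln]
  exact Submodule.eq_of_le_of_finrank_eq (hle.trans (blk_le_line hc' hspan))
    (hSdim.trans (finrank_line hc').symm)

/-- Rigidity. -/
theorem mono_of_not_ex [Fintype F] (hm : 3 ≤ m) (hf : Geo.IsUnitaryForm σ f)
    (hq : 4 ≤ m ∨ Nat.card (fixedField σ) ≠ 2) :
    ∀ (n : ℕ) (J : Type) [Fintype J] [DecidableEq J], Fintype.card J = n → 1 ≤ n →
    ∀ (M : Subgroup (GL (J → Fin m) F)), M ≤ jIso σ f J → FacU σ f M → PermMem M → ¬ EX hf M →
      ∀ g, Nrm σ f M g → Mono g := by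
  intro n
  induction n using Nat.strong_induction_on with
  | _ n ih =>
    intro J _ _ hcard hn M hM hG hP hEX g hg
    classical
    by_cases h1 : n = 1
    · haveI : Subsingleton J := Fintype.card_le_one_iff_subsingleton.1 (by omega)
      obtain ⟨i⟩ : Nonempty J := Fintype.card_pos_iff.1 (by omega)
      letI : Unique J := uniqueOfSubsingleton i
      exact mono_of_single g
    haveI hJ : Nontrivial J := Fintype.one_lt_card_iff_nontrivial.1 (by omega)
    have hleft : ∀ (i : J) (g : GL (J → Fin m) F), Nrm σ f M g → ∀ B A, tg i m F g = kronGL B A →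
        Mono B := fun i g hg B A h => by
      refine ih (n - 1) (by omega) {j // j ≠ i} ?_ (by omega) (leftGroup σ f M i) (fun _ hB => And.left hB) (facU_left hf hG i)
        (perm_left hP i) (not_ex_left hm hf hM hG hEX i) B (nrm_left (by omega) hf hg h)
      rw [Fintype.card_subtype_compl, Fintype.card_subtype_eq, hcard]
    refine mono_of_good ⟨hm, hf, hq, hM, hG, hEX, hP, hJ, fun i => ⟨pre_tg hf hM hG i, ?_,
      by simpa using hm, by simpa using hq, ?_⟩, fun i B A g hg h => mono_of_left h (hleft i g hg B A h)⟩ hg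
    · by_contra hC
      exact hEX (ex_of_not_centreScalar hm hf hM hG i hC)
    · rintro _ ⟨k, hk, rfl⟩ B A hBA ν hν
      haveI : Nonempty {j // j ≠ i} := let ⟨j, hj⟩ := exists_ne i; ⟨⟨j, hj⟩⟩
      rw [Fintype.card_fin]
      exact rank_left hm (hleft i k (Nrm.of_mem hM hk) B A hBA) ν hν

end Cfsg.Agent.UWreath
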