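/-
The stabiliser of a tensor power of a unitary form is maximal in the special unitary group.
-/
import Cfsg.Agent.Lib.UWreath.Rigid
import Cfsg.Agent.Lib.Transvec.HermStd

set_option autoImplicit false
set_option linter.unusedSectionVars false

namespace Cfsg.Agent.UWreath

open scoped Matrix Kronecker
open Matrix Cfsg.Agent.Transvec Cfsg.Agent.Transvec.Herm Cfsg.Agent.TensorMax Cfsg.Agent.TensorMax.U
open Cfsg.Agent.WreathMax

variable {F : Type*} [Field F] {σ : F ≃+* F} {m : ℕ} {f : (Fin m → F) → (Fin m → F) → F}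

/-- The monomial isometries of determinant one form a maximal subgroup of the special unitary group. -/
theorem maximal_std [Fintype F] {t : ℕ} (hm : 3 ≤ m) (ht : 2 ≤ t) (hf : Geo.IsUnitaryForm σ f)
    (hq : 4 ≤ m ∨ Nat.card (fixedField σ) ≠ 2) :
    Geo.IsMaximalIn (jIso σ f (Fin t) ⊓ Geo.specialLinear (Fin t → Fin m) F)
      (Geo.tensorWreathStandard m t F ⊓ (jIso σ f (Fin t) ⊓ Geo.specialLinear (Fin t → Fin m) F)) := by
  classical
  haveI : NeZero m := ⟨by omega⟩
  haveI : Nonempty (Fin t) := ⟨⟨0, by omega⟩⟩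
  have hJ := jf_unitary hf (Fin t)
  refine ⟨lt_of_le_of_ne inf_le_right fun heq => ?_, fun M h1 h2 => ?_⟩
  · obtain ⟨c, -, hc, hcc⟩ := exists_isotropic hf (nondeg_top hf)
      (by rw [finrank_top, Module.finrank_fintype_fun_eq_card, Fintype.card_fin]; omega)
    set v := pten (fun _ : Fin t => c) with hv
    have hv0 : v ≠ 0 := pten_ne_zero fun _ => hc
    have hvv : jf σ f v v = 0 := by
      rw [hv, jf_pten hf]
      exact Finset.prod_eq_zero (Finset.mem_univ ⟨0, by omega⟩) hcc
    obtain ⟨s, hs0, hs⟩ := exists_anti hf.ne_refl hf.involutive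
    set g := htv hJ v hvv s with hg
    have hgmem : g ∈ jIso σ f (Fin t) ⊓ Geo.specialLinear (Fin t → Fin m) F :=
      ⟨htv_mem hJ v hvv hs, htv_mem_specialLinear hJ v hvv s⟩
    rw [← heq] at hgmem
    obtain ⟨π, hπ⟩ := (mem_standard_iff g).1 hgmem.1
    obtain ⟨w, -, hvw, -⟩ := exists_partner hJ (nondeg_top hJ) Submodule.mem_top hv0 hvv
    have hwv : jf σ f w v = 1 := by rw [hJ.herm, hvw, map_one]
    have hne : g ≠ 1 := fun e => by
      have h := congrArg (fun k => mv k w) e
      simp only [hg, mv_htv, mv_one, hwv, mul_one, add_eq_left, smul_eq_zero] at h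
      exact h.elim hs0 hv0
    have h3 := (mono_rank hm hπ hne).1
    have h4 : Module.finrank F (LinearMap.range (WreathMax.dev g)) ≤ 1 := by
      refine (Submodule.finrank_mono (t := Submodule.span F {v}) ?_).trans (finrank_span_singleton hv0).le
      rintro _ ⟨x, rfl⟩
      rw [WreathMax.dev_apply, hg, mv_htv, add_sub_cancel_left]
      exact Submodule.smul_mem _ _ (Submodule.mem_span_singleton_self v)
    rw [Fintype.card_fin] at h3
    have h5 : m ^ 2 ≤ m ^ t := Nat.pow_le_pow_right (by omega) ht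
    have h6 := h3.trans (Nat.mul_le_mul_left m h4)
    rw [pow_two] at h5
    have h7 : 3 * m ≤ m * m := Nat.mul_le_mul_right m hm
    omega
  · have hG : FacU σ f M := fun i A hA =>
      h1 ⟨(mem_standard_iff _).2 ⟨1, monoOf_fac i A⟩, fac_mem_jIso hf i hA.1, fac_mem_specialLinear i hA.2⟩
    have hP : PermMem M := permMem_std fun g ⟨π, hπ⟩ hg =>
      h1 ⟨(mem_standard_iff _).2 (hπ ▸ ⟨π⁻¹, monoOf_pm π⟩), hπ ▸ pm_mem_jIso π, hg⟩
    by_cases hEX : EX hf M
    · exact Or.inr (le_antisymm h2 (su_le_of_ex hm hf h2 hG hP hEX))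
    · exact Or.inl (le_antisymm (fun g hg => ⟨(mem_standard_iff g).2
        (mono_of_not_ex hm hf hq t (Fin t) (Fintype.card_fin t) (by omega) M (fun k hk => (h2 hk).1) hG hP hEX
          g (Nrm.of_mem (fun k hk => (h2 hk).1) hg)), h2 hg⟩) h1)

section Transport

variable {ι κ : Type} [Fintype ι] [DecidableEq ι] [Fintype κ] [DecidableEq κ]

theorem mv_glReindex (e : ι ≃ κ) (g : GL κ F) (x : κ → F) :
    mv (Geo.glReindex e.symm g) (x ∘ e) = (mv g x) ∘ e := by
  show Matrix.reindex e.symm e.symm (g : Matrix κ κ F) *ᵥ (x ∘ e) = _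
  funext i
  simp only [Matrix.mulVec, dotProduct, Matrix.reindex_apply, Matrix.submatrix_apply, Equiv.symm_symm,
    Function.comp_apply]
  exact Equiv.sum_comp e fun k => (g : Matrix κ κ F) (e i) k * x k

/-- The isometry groups of similar forms correspond. -/
theorem map_isometries (e : ι ≃ κ) (P : GL ι F) {h : (κ → F) → (κ → F) → F} {f' : (ι → F) → (ι → F) → F}
    {c : F} (hc : c ≠ 0) (hf : ∀ x y : κ → F, f' (mv P (x ∘ e)) (mv P (y ∘ e)) = c * h x y) :
    ((preserving (Units.coeHom (Matrix κ κ F)) h).map (Geo.glReindex (F := F) e.symm).toMonoidHom).map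
      (MulAut.conj P).toMonoidHom = preserving (Units.coeHom (Matrix ι ι F)) f' := by
  ext x
  simp only [Subgroup.mem_map, MulEquiv.coe_toMonoidHom]
  constructor
  · rintro ⟨y, ⟨g, hg, rfl⟩, rfl⟩
    intro u v
    show f' (mv (MulAut.conj P (Geo.glReindex e.symm g)) u) (mv (MulAut.conj P (Geo.glReindex e.symm g)) v) =
      f' u v
    have key : ∀ u, ∃ u', u = mv P (u' ∘ e) := fun u =>
      ⟨(mv P⁻¹ u) ∘ e.symm, by rw [Function.comp_assoc, Equiv.symm_comp_self, Function.comp_id, mv_mv_inv]⟩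
    obtain ⟨u', rfl⟩ := key u
    obtain ⟨v', rfl⟩ := key v
    rw [MulAut.conj_apply, mv_mul, mv_mul, mv_inv_mv, mv_mul, mv_mul, mv_inv_mv, mv_glReindex, mv_glReindex,
      hf, hf, show h (mv g u') (mv g v') = h u' v' from hg u' v']
  · intro hx
    refine ⟨P⁻¹ * x * P, ⟨(Geo.glReindex e.symm).symm (P⁻¹ * x * P), fun u v => ?_, by simp⟩,
      by simp [MulAut.conj_apply, mul_assoc]⟩
    show h (mv ((Geo.glReindex e.symm).symm (P⁻¹ * x * P)) u)
      (mv ((Geo.glReindex e.symm).symm (P⁻¹ * x * P)) v) = h u v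
    refine mul_left_cancel₀ hc ?_
    rw [← hf, ← hf, ← mv_glReindex, ← mv_glReindex, MulEquiv.apply_symm_apply, mv_mul, mv_mul, mv_mv_inv,
      mv_mul, mv_mul, mv_mv_inv]
    exact hx _ _

end Transport

/-- The stabiliser of a unitary tensor power decomposition is maximal in the special unitary group. -/
theorem unitary_tensor_wreath_maximal [Fintype F] (n q : ℕ) (hF : Fintype.card F = q ^ 2) (hn : 0 < n)
    (k t : ℕ) (hk : 3 ≤ k) (ht : 2 ≤ t) (hex : ¬ (q = 2 ∧ k = 3)) (e : Fin n ≃ (Fin t → Fin k))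
    (P : GL (Fin n) F) (f₁ : (Fin k → F) → (Fin k → F) → F) (hf₁ : Geo.IsUnitaryFormPow q f₁)
    (hT : Geo.IsTensorPowerFormStructure (fun x : F => x ^ q) (hermForm n F q) f₁ e P) :
    Geo.IsMaximalIn (GU n F q ⊓ Geo.specialLinear (Fin n) F)
      (Geo.tensorWreathSubgroup k t e P ⊓ (GU n F q ⊓ Geo.specialLinear (Fin n) F)) := by
  obtain ⟨σ, hσ, -, hstd⟩ := exists_unitary_std (F := F) hF hn
  have H₁ := unitary_of_pow hstd.ne_refl hstd.involutive hσ hf₁
  have hk2 : Nat.card (fixedField σ) = q := by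
    have h := card_eq_sq hstd.ne_refl hstd.involutive
    rw [Nat.card_eq_fintype_card, hF] at h
    exact (Nat.pow_left_injective (by norm_num : 2 ≠ 0) h).symm
  have h := maximal_std (σ := σ) (f := f₁) hk ht H₁ (by
    rw [hk2]
    by_cases h3 : k = 3
    · exact Or.inr fun hq => hex ⟨hq, h3⟩
    · exact Or.inl (by omega))
  obtain ⟨c, hc, hf⟩ := hT
  have hmap := map_isometries (h := jf (J := Fin t) σ f₁) e P (f' := hermForm n F q) hc (fun x y => by
    show hermForm n F q ((P : Matrix (Fin n) (Fin n) F) *ᵥ _) _ = _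
    rw [hf, jf]
    simp only [hσ])
  have h' := TensorMax.isMaximalIn_map (MulAut.conj P) (TensorMax.isMaximalIn_map (Geo.glReindex e.symm) h)
  simp only [Subgroup.map_inf _ _ (Geo.glReindex (F := F) e.symm).toMonoidHom (Geo.glReindex e.symm).injective,
    Subgroup.map_inf _ _ (MulAut.conj P).toMonoidHom (MulAut.conj P).injective] at h'
  rw [TensorMax.map_conj_specialLinear, hmap] at h'
  exact h'

end Cfsg.Agent.UWreath
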